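import Cfsg.Agent.Blau.Def
import Cfsg.Agent.Block.CycL

/-! Basic facts on `D = log x`, traces from `⟨x⟩`, the class sum of `x`. -/

set_option autoImplicit false
set_option linter.unusedSectionVars false

namespace Cfsg.Agent.Blau

open Cfsg Finset Subgroup Cfsg.Agent.Char.ModSl2 Cfsg.Agent.Block
open scoped MonoidAlgebra MatrixGroups

variable {k : Type*} [Field k] {p : ℕ} [hp : Fact p.Prime] [CharP k p] {G : Type*} [Group G]
  [Finite G] {x y : G} {a e t : ℕ}
variable {V W : Type*} [AddCommGroup V] [Module k V] [Module k[G] V] [IsScalarTower k k[G] V]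
  [AddCommGroup W] [Module k W] [Module k[G] W] [IsScalarTower k k[G] W]

theorem Gs.e_pos (S : Gs p x y a e t) : 0 < e := by
  have := S.het; have := S.h3
  rcases Nat.eq_zero_or_pos e with rfl | h
  · omega
  · exact h

theorem Gs.not_dvd_a (S : Gs p x y a e t) : ¬ p ∣ a := fun h => by
  have h1 : (a : ZMod p) ^ e = 1 := S.ha ▸ pow_orderOf_eq_one _
  rw [(ZMod.natCast_eq_zero_iff a p).2 h, zero_pow S.e_pos.ne'] at h1
  exact zero_ne_one h1

theorem Gs.a_ne_zero (S : Gs p x y a e t) : (a : k) ≠ 0 := fun h =>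
  S.not_dvd_a ((CharP.cast_eq_zero_iff k p a).1 h)

theorem Gs.e_ne_zero (S : Gs p x y a e t) : (e : k) ≠ 0 := by
  refine cast_ne_zero (p := p) S.e_pos.ne' ?_
  have := S.het; have := S.h3
  rcases Nat.eq_zero_or_pos t with rfl | h
  · omega
  · have := Nat.le_mul_of_pos_right e h
    omega

theorem Gs.prim (S : Gs p x y a e t) : IsPrimitiveRoot (a : k) e := by
  simpa using (IsPrimitiveRoot.iff_orderOf.2 S.ha).map_of_injective
    (ZMod.castHom (dvd_refl p) k).injective

theorem Gs.a_pow_eq_iff (S : Gs p x y a e t) {i j : ℕ} :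
    (a : k) ^ i = (a : k) ^ j ↔ i ≡ j [MOD e] := by
  have h1 := S.prim (k := k)
  have h2 : IsOfFinOrder (a : k) := isOfFinOrder_iff_pow_eq_one.2 ⟨e, S.e_pos, h1.pow_eq_one⟩
  rw [h2.pow_eq_pow_iff_modEq, ← h1.eq_orderOf]

theorem Gs.exists_pow (S : Gs p x y a e t) {c : k} (hc : c ^ e = 1) :
    ∃ h < e, c = (a : k) ^ h := by
  have : NeZero e := ⟨S.e_pos.ne'⟩
  obtain ⟨h, h1, h2⟩ := (S.prim (k := k)).eq_pow_of_pow_eq_one hc
  exact ⟨h, h1, h2.symm⟩

theorem pow_conj_aux (h : y * x * y⁻¹ = x ^ a) (j : ℕ) : y ^ j * x * (y ^ j)⁻¹ = x ^ a ^ j := by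
  induction j with
  | zero => simp
  | succ j ih =>
    rw [pow_succ' y, mul_inv_rev, show y * y ^ j * x * ((y ^ j)⁻¹ * y⁻¹) =
      y * (y ^ j * x * (y ^ j)⁻¹) * y⁻¹ by simp only [mul_assoc], ih, ← conj_pow, h,
      ← pow_mul, pow_succ']

theorem Gs.pow_conj (S : Gs p x y a e t) (j : ℕ) : y ^ j * x * (y ^ j)⁻¹ = x ^ a ^ j :=
  pow_conj_aux S.hxa j

theorem Gs.isConj_iff (S : Gs p x y a e t) {n : ℕ} :
    IsConj x (x ^ n) ↔ ∃ i < e, n ≡ a ^ i [MOD p] := by
  constructor
  · intro h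
    obtain ⟨g, hg⟩ := _root_.isConj_iff.1 h
    obtain ⟨j, hj⟩ := S.hN g (hg ▸ npow_mem_zpowers x n)
    have h1 : x ^ n = x ^ a ^ j := by
      rw [← hg, ← S.pow_conj, show y ^ j * x * (y ^ j)⁻¹ = y ^ j * (((y ^ j)⁻¹ * g) * x *
        ((y ^ j)⁻¹ * g)⁻¹) * (y ^ j)⁻¹ by rw [hj.eq, mul_inv_cancel_right]]
      group
    rw [pow_eq_pow_iff_modEq, S.hx] at h1
    refine ⟨j % e, Nat.mod_lt _ S.e_pos, h1.trans ?_⟩
    rw [← ZMod.natCast_eq_natCast_iff]
    push_cast
    exact (S.a_pow_eq_iff (k := ZMod p)).2 (Nat.mod_modEq j e).symm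
  · rintro ⟨i, -, hi⟩
    refine _root_.isConj_iff.2 ⟨y ^ i, ?_⟩
    rw [S.pow_conj, pow_eq_pow_iff_modEq, S.hx]
    exact hi.symm

theorem Gs.fus_eq (S : Gs p x y a e t) : fus p x = (range e).image fun i => a ^ i % p := by
  ext n
  rw [mem_fus, S.isConj_iff, mem_image]
  constructor
  · rintro ⟨h1, i, h2, h3⟩
    exact ⟨i, mem_range.2 h2, by rw [← h3, Nat.mod_eq_of_lt h1]⟩
  · rintro ⟨i, h2, rfl⟩
    exact ⟨Nat.mod_lt _ hp.out.pos, i, mem_range.1 h2, Nat.mod_modEq _ _⟩

theorem Gs.injOn_mod (S : Gs p x y a e t) :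
    Set.InjOn (fun i => a ^ i % p) (range e : Set ℕ) := fun i hi j hj h => by
  have h1 : ((a : ZMod p)) ^ i = a ^ j := by
    exact_mod_cast (ZMod.natCast_eq_natCast_iff _ _ _).2 h
  exact Nat.ModEq.eq_of_lt_of_lt ((S.a_pow_eq_iff (k := ZMod p)).1 h1) (mem_range.1 hi)
    (mem_range.1 hj)

theorem Gs.card_fus (S : Gs p x y a e t) : (fus p x).card = e := by
  rw [S.fus_eq, card_image_of_injOn S.injOn_mod, card_range]

theorem exists_gs (hx : orderOf x = p) (hG : ¬ p ^ 2 ∣ Nat.card G) (h3 : 3 ≤ p) :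
    ∃ (y : G) (a e t : ℕ), Gs p x y a e t := by
  have hP : Nat.card (zpowers x) = p := by rw [Nat.card_zpowers, hx]
  obtain ⟨g, hg, -, -, h1, -⟩ := CycL.exists_gen (T := normalizer (zpowers x : Set G)) hP le_rfl
  obtain ⟨a₀, ha₀⟩ := (mem_powers_iff_mem_zpowers.2
    ((mem_normalizer_iff.1 hg x).1 (mem_zpowers x)) : _ ∈ Submonoid.powers x)
  have h2 : g * x * g⁻¹ = x ^ a₀ := ha₀.symm
  have h4 : ¬ p ∣ a₀ := fun ⟨c, hc⟩ => by
    rw [hc, pow_mul, ← hx, pow_orderOf_eq_one, one_pow, mul_inv_eq_one, mul_eq_left] at h2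
    rw [h2, orderOf_one] at hx
    omega
  have h5 : ((a₀ ^ p : ℕ) : ZMod p) = a₀ := by push_cast; exact ZMod.pow_card _
  have h6 : (a₀ : ZMod p) ≠ 0 := fun h => h4 ((ZMod.natCast_eq_zero_iff _ _).1 h)
  obtain ⟨t, ht⟩ := orderOf_dvd_of_pow_eq_one (ZMod.pow_card_sub_one_eq_one h6)
  refine ⟨g ^ p, a₀ ^ p, orderOf (a₀ : ZMod p), t, hx, hG, h3, pow_conj_aux h2 p, by rw [h5],
    by omega, fun n hn => ?_, fun h => hG ?_⟩
  · have h7 : n ∈ normalizer (zpowers x : Set G) := by
      refine mem_normalizer_fintype ?_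
      rintro _ ⟨i, rfl⟩
      rw [← conj_zpow]
      exact zpow_mem hn i
    obtain ⟨j, -, hj⟩ := h1 n h7
    have h8 : (g ^ j)⁻¹ * n * x = x * ((g ^ j)⁻¹ * n) := (hj x (mem_zpowers x)).symm
    have h9 : (g ^ p) ^ j * x * ((g ^ p) ^ j)⁻¹ = g ^ j * x * (g ^ j)⁻¹ := by
      rw [pow_conj_aux (pow_conj_aux h2 p), pow_conj_aux h2, pow_eq_pow_iff_modEq, hx,
        ← ZMod.natCast_eq_natCast_iff, Nat.cast_pow, h5, Nat.cast_pow]
    refine ⟨j, ?_⟩
    change ((g ^ p) ^ j)⁻¹ * n * x = x * (((g ^ p) ^ j)⁻¹ * n)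
    calc _ = ((g ^ p) ^ j)⁻¹ * g ^ j * ((g ^ j)⁻¹ * n * x) := by group
      _ = ((g ^ p) ^ j)⁻¹ * (g ^ j * x * (g ^ j)⁻¹) * n := by rw [h8]; group
      _ = _ := by rw [← h9]; group
  · refine dvd_trans ?_ (orderOf_dvd_natCard g)
    by_cases h7 : p ∣ orderOf g
    · rw [orderOf_pow_of_dvd hp.out.ne_zero h7] at h
      rw [pow_two, ← Nat.div_mul_cancel h7]
      exact Nat.mul_dvd_mul_right h p
    · exact absurd (h.trans (orderOf_pow_dvd p)) h7

theorem supp_D : Alg.Supp (zpowers x) (Dl k p x) := by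
  rw [Alg.supp_iff]
  exact neg_mem (sum_mem fun i _ => Subalgebra.smul_mem _ (pow_mem
    (Alg.supp_iff.1 (Alg.supp_single (mem_zpowers x) 1)) i) _)

theorem supp_og {g : G} (hg : g ∈ zpowers x) : Alg.Supp (zpowers x) (og k g) := 
  Alg.supp_single hg 1

theorem commute_of_supp {u v : k[G]} (hu : Alg.Supp (zpowers x) u) (hv : Alg.Supp (zpowers x) v) :
    Commute u v := 
  hu.commute (Alg.Supp.inv_of_centralizer (hv.mono fun a ha b hb => by
    obtain ⟨i, rfl⟩ := ha
    obtain ⟨j, rfl⟩ := hb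
    exact ((Commute.refl x).zpow_zpow j i).eq))

theorem supp_dl : Alg.Supp (zpowers x) (og k x - 1) :=
  (supp_og (mem_zpowers x)).sub (Alg.supp_one _)

theorem dl_pow_p (hx : orderOf x = p) : (og k x - 1) ^ p = 0 := by
  have : CharP k[G] p := charP_of_injective_algebraMap (algebraMap k k[G]).injective p
  rw [sub_pow_char_of_commute _ (Commute.one_right _), ← map_pow, ← hx, pow_orderOf_eq_one, map_one,
    one_pow, sub_self]

theorem exists_inv_aeval (hx : orderOf x = p) {U : Polynomial k} (hU : U.coeff 0 ≠ 0) :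
    Alg.Supp (zpowers x) (Polynomial.aeval (og k x - 1) U) ∧ ∃ u' : k[G], Alg.Supp (zpowers x) u' ∧
      Polynomial.aeval (og k x - 1) U * u' = 1 := by
  let δ : Alg.fix k (zpowers x) ⊥ := ⟨og k x - 1, Alg.supp_iff.1 supp_dl⟩
  have h1 : (Polynomial.aeval δ U : Alg.fix k (zpowers x) ⊥) = Polynomial.aeval (og k x - 1) U :=
    (Polynomial.aeval_algHom_apply (Subalgebra.val _) δ U).symm
  have hc : ∀ Q : Polynomial k, Commute δ (Polynomial.aeval δ Q) := fun Q => by
    simpa using (Commute.all Polynomial.X Q).map (Polynomial.aeval δ)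
  have h2 : IsUnit (Polynomial.aeval δ U) := by
    rw [← U.X_mul_divX_add, map_add, map_mul, Polynomial.aeval_X, Polynomial.aeval_C]
    exact ((hc _).isNilpotent_mul_right ⟨p, Subtype.ext (dl_pow_p hx)⟩).isUnit_add_right_of_commute
      ((IsUnit.mk0 _ hU).map _) (Algebra.commutes _ _).symm
  obtain ⟨w, hw⟩ := h2.exists_right_inv
  exact ⟨h1 ▸ Alg.supp_iff.2 (Subtype.prop _), w, Alg.supp_iff.2 w.2,
    h1 ▸ congrArg Subtype.val hw⟩

theorem exists_D_unit' (hx : orderOf x = p) (h3 : 3 ≤ p) : ∃ u u' : k[G], Alg.Supp (zpowers x) u ∧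
    Alg.Supp (zpowers x) u' ∧ u * u' = 1 ∧ Dl k p x = u * (og k x - 1) := by
  obtain ⟨U, hU, hD⟩ := exists_lg_eq (k := k) h3 (og k x)
  obtain ⟨h1, u', h2, h4⟩ := exists_inv_aeval hx (U := U) (by rw [hU]; exact one_ne_zero)
  exact ⟨_, u', h1, h2, h4, by
    rw [Dl, hD, map_mul, Polynomial.aeval_X, (commute_of_supp h1 supp_dl).eq]⟩

theorem D_pow_p (hx : orderOf x = p) (h3 : 3 ≤ p) : Dl k p x ^ p = 0 := by
  obtain ⟨u, u', h1, -, -, h2⟩ := exists_D_unit' (k := k) hx h3
  rw [h2, (commute_of_supp h1 supp_dl).mul_pow, dl_pow_p hx, mul_zero]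

theorem D_pow_ne_zero (hx : orderOf x = p) (h3 : 3 ≤ p) {j : ℕ} (hj : j < p) :
    Dl k p x ^ j ≠ 0 := fun h => by
  classical
  obtain ⟨u, u', h1, h2, h4, h5⟩ := exists_D_unit' (k := k) hx h3
  have h6 : (og k x - 1) ^ (p - 1) = 0 := by
    have h7 : og k x - 1 = u' * Dl k p x := by
      rw [h5, ← mul_assoc, (commute_of_supp h2 h1).eq, h4, one_mul]
    rw [h7, (commute_of_supp h2 supp_D).mul_pow, pow_eq_zero_of_le (by omega) h, mul_zero]
  have h7 := congrArg (fun c : k[G] => c.coeff 1) ((geom_eq k (og k x)).trans h6)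
  simp only [MonoidAlgebra.of_apply, Alg.coeff_sum_apply, MonoidAlgebra.single_pow,
    MonoidAlgebra.coeff_single, Finsupp.single_apply] at h7
  rw [sum_eq_single 0 (fun i hi hi0 => if_neg (pow_ne_one_of_lt_orderOf hi0
    (hx ▸ mem_range.1 hi))) (fun h => absurd (mem_range.2 hp.out.pos) h)] at h7
  simp at h7

/-- `D` and `x - 1` differ by a unit of `k⟨x⟩`. -/
theorem exists_D_unit (hx : orderOf x = p) (h3 : 3 ≤ p) : ∃ u u' : k[G], Alg.Supp (zpowers x) u ∧
    Alg.Supp (zpowers x) u' ∧ u * u' = 1 ∧ Dl k p x = u * (og k x - 1) := 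
  exists_D_unit' hx h3

theorem D_smul_eq_zero_iff (hx : orderOf x = p) (h3 : 3 ≤ p) {v : V} :
    Dl k p x • v = 0 ↔ og k x • v = v := by
  obtain ⟨u, u', h1, h2, h4, h5⟩ := exists_D_unit (k := k) hx h3
  rw [← sub_eq_zero (a := og k x • v), ← one_smul k[G] v, ← mul_smul, ← mul_smul, ← sub_smul,
    mul_one, mul_one]
  refine ⟨fun h => ?_, fun h => by rw [h5, mul_smul, h, smul_zero]⟩
  have h7 : og k x - 1 = u' * Dl k p x := by
    rw [h5, ← mul_assoc, (commute_of_supp h2 h1).eq, h4, one_mul]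
  rw [h7, mul_smul, h, smul_zero]

theorem Gs.og_mul_D (S : Gs p x y a e t) :
    og k y * Dl k p x = (a : k) • (Dl k p x * og k y) := by
  have h1 := ad_lg (k := k) (p := p) (MonoidAlgebra.of k G) y x
  rw [S.hxa, map_pow, lg_pow (by rw [← map_pow, ← S.hx, pow_orderOf_eq_one, map_one])
    S.not_dvd_a] at h1
  rw [← smul_mul_assoc, Dl, og, og, ← h1, ad_mul_rho]

theorem Gs.y_smul_D_pow (S : Gs p x y a e t) (j : ℕ) (v : V) :
    og k y • Dl k p x ^ j • v = (a : k) ^ j • Dl k p x ^ j • og k y • v := by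
  induction j with
  | zero => simp
  | succ j ih =>
    rw [pow_succ', mul_smul, ← mul_smul, S.og_mul_D, smul_assoc, mul_smul, ih, smul_comm _ ((a : k) ^ j),
      smul_smul, ← mul_smul (Dl k p x), ← pow_succ', ← pow_succ']

theorem map_lg {R R' : Type*} [Ring R] [Algebra k R] [Ring R'] [Algebra k R'] (L : R →ₐ[k] R')
    (X : R) : L (lg k p X) = lg k p (L X) := by
  simp [lg]

theorem map_x_of_map_D (hx : orderOf x = p) (h3 : 3 ≤ p) (f : V →ₗ[k] W)
    (hf : ∀ v, f (Dl k p x • v) = Dl k p x • f v) (v : V) :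
    f (og k x • v) = og k x • f v := by
  let L : k[G] →ₐ[k] Module.End k (V × W) := Algebra.lsmul k k (V × W)
  let Y : Module.End k (V × W) := LinearMap.inr k V W ∘ₗ f ∘ₗ LinearMap.fst k V W
  have h1 : Commute Y (L (og k x)) := by
    refine commute_of_commute_lg (k := k) h3 (s := p) ?_ ?_
    · rw [← map_one L, ← map_sub, ← map_pow, dl_pow_p hx, map_zero]
    · rw [← map_lg]
      refine LinearMap.ext fun w => ?_
      exact Prod.ext (by simp [Y, L]) (by simpa [Y, L, Dl] using hf w.1)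
  simpa [Y, L] using congrArg Prod.snd (LinearMap.congr_fun h1.eq (v, 0))

/-- composition with the action of `c` on the target -/
noncomputable def lf (c : k[G]) : Module.End k (V →ₗ[k] W) :=
  LinearMap.llcomp k V W W (Algebra.lsmul k k W c)

/-- composition with the action of `c` on the source -/
noncomputable def rt (c : k[G]) : Module.End k (V →ₗ[k] W) :=
  LinearMap.lcomp k W (Algebra.lsmul k k V c)

@[simp] theorem lf_apply (c : k[G]) (ψ : V →ₗ[k] W) (v : V) : lf c ψ v = c • ψ v := rfl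

@[simp] theorem rt_apply (c : k[G]) (ψ : V →ₗ[k] W) (v : V) : rt c ψ v = ψ (c • v) := rfl

theorem lf_pow (c : k[G]) (n : ℕ) : lf (V := V) (W := W) c ^ n = lf (c ^ n) := by
  induction n with
  | zero => ext; simp
  | succ n ih => ext; simp [pow_succ, ih, mul_smul]

theorem rt_pow (c : k[G]) (n : ℕ) : rt (V := V) (W := W) c ^ n = rt (c ^ n) := by
  induction n with
  | zero => ext; simp
  | succ n ih => rw [pow_succ, ih, pow_succ']; ext; simp [mul_smul]

theorem commute_lf_rt (c c' : k[G]) : Commute (lf (V := V) (W := W) c) (rt c') := by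
  ext; simp

theorem trF_mem (hx : orderOf x = p) (h3 : 3 ≤ p) (ψ : V →ₗ[k] W) {s : ℕ} (hs : s ≤ p) {u : V}
    (hu : Dl k p x ^ s • u = 0) : ∃ w : W, trF p x ψ u = Dl k p x ^ (p - s) • w := by
  obtain ⟨c, c', h1, h2, h4, h5⟩ := exists_D_unit (k := k) hx h3
  have h7 : og k x - 1 = c' * Dl k p x := by
    rw [h5, ← mul_assoc, (commute_of_supp h2 h1).eq, h4, one_mul]
  have h8 : og k x⁻¹ - 1 = -og k x⁻¹ * c' * Dl k p x := by
    rw [mul_assoc, ← h7, neg_mul, mul_sub, ← map_mul, inv_mul_cancel, map_one, mul_one, neg_sub]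
  have h9 : (og k x⁻¹ - 1) ^ s • u = 0 := by
    rw [h8, (commute_of_supp (((Alg.supp_iff.2 (neg_mem (Alg.supp_iff.1
      (supp_og (inv_mem (mem_zpowers x))))))).mul h2) supp_D).mul_pow, mul_smul, hu, smul_zero]
  have e1 : lf (V := V) (W := W) (og k x) * rt (og k x⁻¹) - 1 =
      lf (og k x - 1) * rt (og k x⁻¹) + rt (og k x⁻¹ - 1) := by
    ext ψ v
    simp [sub_smul]
  have e2 : trF p x ψ u =
      ((∑ j ∈ range p, (lf (og k x) * rt (og k x⁻¹)) ^ j : Module.End k (V →ₗ[k] W)) ψ) u := by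
    rw [LinearMap.sum_apply, LinearMap.sum_apply]
    refine sum_congr rfl fun j _ => ?_
    rw [(commute_lf_rt _ _).mul_pow, lf_pow, rt_pow, ← map_pow, ← map_pow, inv_pow]
    rfl
  have e3 : Commute (lf (V := V) (W := W) (og k x - 1) * rt (og k x⁻¹)) (rt (og k x⁻¹ - 1)) := by
    ext ψ v
    simp [smul_smul, mul_sub, sub_mul]
  rw [e2, geom_eq k, e1, e3.add_pow, LinearMap.sum_apply, LinearMap.sum_apply]
  refine (Submodule.sum_mem (LinearMap.range (Algebra.lsmul k k W (Dl k p x ^ (p - s))))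
    fun i hi => ?_).imp fun w hw => hw.symm
  rw [(commute_lf_rt _ _).mul_pow, lf_pow, rt_pow, rt_pow, mul_assoc, mul_assoc,
    (Nat.cast_commute _ _).symm.eq]
  by_cases h : p - s ≤ i
  · obtain ⟨r, rfl⟩ := Nat.exists_eq_add_of_le h
    rw [h7, (commute_of_supp h2 supp_D).eq, (commute_of_supp supp_D h2).mul_pow, pow_add,
      mul_assoc, Module.End.mul_apply, lf_apply, mul_smul]
    exact ⟨_, rfl⟩
  · obtain ⟨r, hr⟩ := Nat.exists_eq_add_of_le' (show s ≤ p - 1 - i by omega)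
    have h10 : (og k x⁻¹ - 1) ^ (p - 1 - i) • og k x⁻¹ ^ i • u = 0 := by
      rw [← mul_smul, (Commute.pow_pow ((Commute.refl _).sub_left (Commute.one_left _)) _ _).eq,
        hr, pow_add, mul_smul, mul_smul, h9, smul_zero, smul_zero]
    simp only [Module.End.mul_apply, lf_apply, rt_apply, Module.End.natCast_apply,
      LinearMap.smul_apply, h10, map_zero, smul_zero, zero_mem]

theorem trP_smul (w : k[G]) (u : V) : trP k p x w • u = trF p x (Algebra.lsmul k k V w) u := by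
  simp [trP, trF, sum_smul, mul_smul]

theorem trP_smul_mem (hx : orderOf x = p) (h3 : 3 ≤ p) (w : k[G]) {s : ℕ} (hs : s ≤ p) {u : V}
    (hu : Dl k p x ^ s • u = 0) : ∃ v : V, trP k p x w • u = Dl k p x ^ (p - s) • v := by
  obtain ⟨v, hv⟩ := trF_mem hx h3 (Algebra.lsmul k k V w) hs hu
  exact ⟨v, by rw [← hv, trP_smul]⟩

theorem sum_zp (hx : orderOf x = p) [Fintype (zpowers x)] {A : Type*} [AddCommMonoid A]
    (F : G → A) : ∑ u : zpowers x, F u = ∑ j ∈ range p, F (x ^ j) := by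
  rw [← hx, ← Fin.sum_univ_eq_sum_range (fun j => F (x ^ j)),
    ← Equiv.sum_comp (finEquivZPowers (isOfFinOrder_of_finite x))]
  exact sum_congr rfl fun j _ => by rw [finEquivZPowers_apply]

/-- a sum over a set on which `⟨x⟩` acts freely is a trace -/
theorem exists_sum_eq_tr (hx : orderOf x = p) {X A : Type*} [MulAction G X] [Fintype X]
    [AddCommGroup A] (s : Finset X) (hs : ∀ u ∈ zpowers x, ∀ q ∈ s, u • q ∈ s)
    (hfree : ∀ q ∈ s, x • q ≠ q) (f : X → A) (T : A →+ A)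
    (hT : ∀ q ∈ s, T (f q) = ∑ j ∈ range p, f (x ^ j • q)) : ∃ w, ∑ q ∈ s, f q = T w := by
  have := Fintype.ofFinite (zpowers x)
  have h1 := sum_eq_zero_of_free (P := zpowers x) s (fun g => hs g g.2) (fun g q hq hg => by
    have : Fact (Nat.card (zpowers x)).Prime := by rw [Nat.card_zpowers, hx]; exact hp
    rcases (MulAction.stabilizer (zpowers x) q).eq_bot_or_eq_top_of_prime_card with h | h
    · exact Subgroup.mem_bot.1 (h ▸ hg : g ∈ (⊥ : Subgroup (zpowers x)))
    · exact absurd (h ▸ Subgroup.mem_top (⟨x, mem_zpowers x⟩ : zpowers x) :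
        _ ∈ MulAction.stabilizer (zpowers x) q) (hfree q hq))
    (fun q => QuotientAddGroup.mk' T.range (f q)) fun q hq => by
      rw [← map_sum, QuotientAddGroup.mk'_apply, QuotientAddGroup.eq_zero_iff]
      exact ⟨f q, (hT q hq).trans (sum_zp hx fun g => f (g • q)).symm⟩
  rw [← map_sum, QuotientAddGroup.mk'_apply, QuotientAddGroup.eq_zero_iff] at h1
  exact h1.imp fun w hw => hw.symm

variable (k p x V W) in
/-- `trF` as a linear map -/
noncomputable def trL : Module.End k (V →ₗ[k] W) :=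
  ∑ j ∈ range p, lf (og k (x ^ j)) * rt (og k (x ^ j)⁻¹)

theorem trL_apply (ψ : V →ₗ[k] W) (v : V) : trL k p x V W ψ v = trF p x ψ v := by
  simp only [trL, trF, LinearMap.sum_apply, Module.End.mul_apply, lf_apply, rt_apply]

/-- the group algebra is free over `k⟨x⟩` -/
theorem exists_of_D_pow_mul (hx : orderOf x = p) (h3 : 3 ≤ p) {s : ℕ} (hs : s ≤ p) {c : k[G]}
    (h : Dl k p x ^ s * c = 0) : ∃ c' : k[G], c = Dl k p x ^ (p - s) * c' := by
  classical
  have := Fintype.ofFinite G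
  let f : G → k[G] →ₗ[k] k[G] := fun g =>
    { toFun := fun c => c.coeff g • og k g
      map_add' := fun a b => by simp [add_smul]
      map_smul' := fun r a => by simp [mul_smul] }
  obtain ⟨ψ, hψ⟩ := exists_sum_eq_tr hx univ (fun _ _ _ _ => mem_univ _) (fun q _ h => by
    rw [smul_eq_mul, mul_eq_right] at h
    exact hp.out.one_lt.ne' (by rw [← hx, h, orderOf_one])) f
    (trL k p x k[G] k[G]).toAddMonoidHom fun q _ => by
      refine LinearMap.ext fun c => ?_
      simp only [LinearMap.toAddMonoidHom_coe, trL_apply, trF, LinearMap.sum_apply, f,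
        LinearMap.coe_mk, AddHom.coe_mk, smul_eq_mul, mul_smul_comm, ← map_mul]
      refine sum_congr rfl fun j _ => ?_
      simp
  obtain ⟨w, hw⟩ := trF_mem hx h3 ψ hs (u := c) h
  refine ⟨w, ?_⟩
  rw [← smul_eq_mul, ← hw, ← trL_apply, show trL k p x k[G] k[G] ψ = ∑ q, f q from hψ.symm,
    LinearMap.sum_apply]
  refine Alg.ext_coeff fun g => ?_
  simp [f]

/-- the trace from `N(⟨x⟩)` to `G` of an `N(⟨x⟩)`-map -/
theorem exists_Gmap (hx : orderOf x = p) (hG : ¬ p ^ 2 ∣ Nat.card G) (f : V →ₗ[k] W)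
    (hf : ∀ g : G, g * x * g⁻¹ ∈ zpowers x → ∀ v, f (og k g • v) = og k g • f v) :
    ∃ (F : V →ₗ[k[G]] W) (ψ : V →ₗ[k] W), ∀ v, F v = f v + trF p x ψ v := by
  classical
  have := Fintype.ofFinite G
  let N := normalizer (zpowers x : Set G)
  have hN : ∀ g ∈ N, g * x * g⁻¹ ∈ zpowers x := fun g hg =>
    (mem_normalizer_iff.1 hg x).1 (mem_zpowers x)
  let φ : G ⧸ N → V →ₗ[k] W := fun q =>
    Quotient.liftOn' q (fun h => lf (og k h) (rt (og k h⁻¹) f)) fun h l hl => by
      have h1 := QuotientGroup.leftRel_apply.1 hl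
      obtain ⟨u, rfl⟩ : ∃ u, l = h * u := ⟨h⁻¹ * l, by group⟩
      rw [inv_mul_cancel_left] at h1
      refine LinearMap.ext fun v => ?_
      simp only [lf_apply, rt_apply, mul_inv_rev, map_mul, mul_smul]
      rw [← hf u (hN u h1), ← mul_smul (og k u), ← map_mul, mul_inv_cancel, map_one, one_smul]
  have hφ : ∀ (u : G) q v, φ (u • q) v = og k u • φ q (og k u⁻¹ • v) := fun u q v => by
    induction q using QuotientGroup.induction_on with | H h => ?_
    change og k (u * h) • f (og k (u * h)⁻¹ • v) = og k u • og k h • f (og k h⁻¹ • og k u⁻¹ • v)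
    simp only [map_mul, mul_inv_rev, mul_smul]
  have hΦ : ∀ (u : G) v, (∑ q, φ q) (og k u • v) = og k u • (∑ q, φ q) v := fun u v => by
    rw [LinearMap.sum_apply, LinearMap.sum_apply, smul_sum, ← Equiv.sum_comp (MulAction.toPerm u)]
    refine sum_congr rfl fun q _ => ?_
    rw [MulAction.toPerm_apply, hφ, ← mul_smul (og k u⁻¹), ← map_mul, inv_mul_cancel, map_one,
      one_smul]
  have h1 : ∀ u ∈ zpowers x, u • ((1 : G) : G ⧸ N) = (1 : G) := fun u hu =>
    QuotientGroup.eq.2 (by simpa using le_normalizer hu)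
  obtain ⟨ψ, hψ⟩ := exists_sum_eq_tr hx (univ.erase ((1 : G) : G ⧸ N)) (fun u hu q hq => by
      refine mem_erase.2 ⟨fun h => (mem_erase.1 hq).1 ?_, mem_univ _⟩
      rw [← inv_smul_smul u q, h, h1 _ (inv_mem hu)]) (fun q hq h => (mem_erase.1 hq).1 (by
      induction q using QuotientGroup.induction_on with | H g => ?_
      have h2 : g⁻¹ * x * g⁻¹⁻¹ ∈ N := by
        have := inv_mem (QuotientGroup.eq.1 h)
        simpa [mul_assoc] using this
      have h3 := le_zpowers_of_normalizer hx hG (isPGroup_zpowers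
        (((MulAut.conj g⁻¹).orderOf_eq x).trans hx)) (Or.inl (zpowers_le.2 h2)) (mem_zpowers _)
      refine QuotientGroup.eq.2 ?_
      rw [mul_one]
      refine mem_normalizer_fintype ?_
      rintro _ ⟨i, rfl⟩
      rw [← conj_zpow]
      exact zpow_mem h3 i)) φ (trL k p x V W).toAddMonoidHom fun q _ => by
      refine LinearMap.ext fun v => ?_
      simp only [LinearMap.toAddMonoidHom_coe, trL_apply, trF, LinearMap.sum_apply, hφ]
  refine ⟨MonoidAlgebra.equivariantOfLinearOfComm (∑ q, φ q) hΦ, ψ, fun v => ?_⟩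
  change (∑ q, φ q) v = _
  rw [← add_sum_erase _ _ (mem_univ ((1 : G) : G ⧸ N)), hψ, LinearMap.add_apply, LinearMap.toAddMonoidHom_coe, trL_apply]
  congr 1
  change og k (1 : G) • f (og k (1 : G)⁻¹ • v) = _
  rw [inv_one, og, map_one, one_smul, one_smul]

theorem zc_commute (c : k[G]) : Commute (zc k x e) c := 
  Commute.sub_left ((Alg.supp_top c).commute (Alg.inv_cls ⊤ x)).symm (Nat.cast_commute e c)

theorem exists_eq_br_add_trP (hx : orderOf x = p) {c : k[G]} (hc : Alg.Inv (zpowers x) c) :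
    ∃ w, c = Alg.br (zpowers x) c + trP k p x w := by
  classical
  have := Fintype.ofFinite G
  obtain ⟨w, hw⟩ := exists_sum_eq_tr (G := ConjAct G) (x := ConjAct.toConjAct x) (X := G)
    ((ConjAct.toConjAct.orderOf_eq x).trans hx)
    (univ.filter fun g => g ∉ centralizer (zpowers x : Set G)) (fun u hu q hq => by
      obtain ⟨i, rfl⟩ := hu
      simp only [mem_filter, mem_univ, true_and, ← map_zpow, ConjAct.toConjAct_smul] at hq ⊢
      rwa [Alg.conj_mem_centralizer_iff (le_normalizer (zpow_mem_zpowers x i))])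
    (fun q hq h => (mem_filter.1 hq).2 (by
      rintro _ ⟨i, rfl⟩
      rw [ConjAct.toConjAct_smul, mul_inv_eq_iff_eq_mul] at h
      exact (Commute.zpow_left h i).eq))
    (fun g => c.coeff g • og k g) (AddMonoidHom.mk' (trP k p x) fun _ _ => by
      simp only [trP, mul_add, add_mul, sum_add_distrib]) fun q _ => by
      change trP k p x _ = _
      simp only [trP, ← map_pow, ConjAct.toConjAct_smul, hc _ (npow_mem_zpowers x _),
        mul_smul_comm, smul_mul_assoc, map_mul]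
  refine ⟨w, ?_⟩
  rw [← show _ = trP k p x w from hw]
  refine Alg.ext_coeff fun g => ?_
  simp [Alg.coeff_br, Finsupp.single_apply]
  split_ifs <;> simp

theorem Gs.br_cls (S : Gs p x y a e t) :
    Alg.br (zpowers x) (Alg.cls k ⊤ x) = ∑ i ∈ range e, og k x ^ a ^ i := by
  classical
  refine Alg.ext_coeff fun g => ?_
  simp only [Alg.coeff_br, Alg.coeff_cls, Alg.coeff_sum_apply, MonoidAlgebra.of_apply,
    MonoidAlgebra.single_pow, MonoidAlgebra.coeff_single, Finsupp.single_apply, one_pow]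
  by_cases h : ∃ i < e, x ^ a ^ i = g
  · obtain ⟨i, hi, rfl⟩ := h
    rw [if_pos (show _ ∈ centralizer (zpowers x : Set G) from fun _ ⟨j, hj⟩ =>
      hj ▸ (((Commute.refl x).zpow_left j).pow_right _).eq), if_pos ⟨y ^ i, mem_top _, S.pow_conj i⟩, sum_eq_single_of_mem i (mem_range.2 hi), if_pos rfl]
    refine fun j hj hji => if_neg fun h => hji (S.injOn_mod hj (mem_range.2 hi) ?_)
    rwa [pow_eq_pow_iff_modEq, S.hx] at h
  · rw [sum_eq_zero fun i hi => if_neg fun h' => h ⟨i, mem_range.1 hi, h'⟩]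
    split_ifs with h1 h2
    · obtain ⟨u, -, rfl⟩ := h2
      have h3 := le_zpowers_of_normalizer S.hx S.hG (isPGroup_zpowers
        (((MulAut.conj u).orderOf_eq x).trans S.hx)) (Or.inl (zpowers_le.2
          (centralizer_le_normalizer _ h1))) (mem_zpowers _)
      obtain ⟨n, hn⟩ := (mem_powers_iff_mem_zpowers.2 h3 : _ ∈ Submonoid.powers x)
      have h4 : x ^ n = u * x * u⁻¹ := hn
      obtain ⟨i, hi, h5⟩ := S.isConj_iff.1 (_root_.isConj_iff.2 ⟨u, h4.symm⟩)
      exact absurd ⟨i, hi, by rw [← h4, pow_eq_pow_iff_modEq, S.hx]; exact h5.symm⟩ h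
    · rfl
    · rfl

theorem Gs.sum_eval (S : Gs p x y a e t) {f : Polynomial k} (h0 : f.eval 0 = 0)
    (hf : f.natDegree ≤ e) : ∑ i ∈ range e, f.eval ((a : k) ^ i) = e * f.coeff e := by
  simp only [Polynomial.eval_eq_sum_range' (Nat.lt_succ_of_le hf)]
  rw [sum_comm, sum_range_succ, sum_eq_zero, zero_add, sum_congr rfl fun i _ => by
    rw [← pow_mul, mul_comm i, pow_mul, (S.prim (k := k)).pow_eq_one, one_pow, mul_one]]
  · simp
  intro r hr
  rcases Nat.eq_zero_or_pos r with rfl | h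
  · simp [Polynomial.coeff_zero_eq_eval_zero, h0]
  have h1 : (a : k) ^ r ≠ 1 := (S.prim (k := k)).pow_ne_one_of_pos_of_lt h.ne' (mem_range.1 hr)
  rw [← mul_sum, sum_congr rfl fun i _ => (pow_right_comm _ i r), geom_sum_eq h1, pow_right_comm,
    (S.prim (k := k)).pow_eq_one, one_pow, sub_self, zero_div, mul_zero]

theorem Gs.zc_eq (S : Gs p x y a e t) : ∃ u u' : k[G], Alg.Supp (zpowers x) u ∧
    Alg.Supp (zpowers x) u' ∧ u * u' = 1 ∧ Alg.br (zpowers x) (zc k x e) = u * Dl k p x ^ e ∧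
      ∀ n : ℕ, ∃ w, zc k x e ^ n = (u * Dl k p x ^ e) ^ n + trP k p x w := by
  have hep : e < p := by
    have := S.het; have := S.h3
    rcases Nat.eq_zero_or_pos t with rfl | h
    · omega
    · have := Nat.le_mul_of_pos_right e h
      omega
  let Q : Polynomial k := ∑ i ∈ range e, (Polynomial.X + 1) ^ a ^ i - (e : Polynomial k)
  have hQ : ∀ m, m ≠ 0 → m ≤ e → (m.factorial : k) * Q.coeff m =
      e * (descPochhammer k m).coeff e := fun m h0 hm => by
    rw [← S.sum_eval (descPochhammer_ne_zero_eval_zero k h0)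
      ((descPochhammer_natDegree k m).trans_le hm), Polynomial.coeff_sub,
      Polynomial.finsetSum_coeff, ← map_natCast Polynomial.C, Polynomial.coeff_C_of_ne_zero h0,
      sub_zero, mul_sum]
    refine sum_congr rfl fun i _ => ?_
    rw [Polynomial.coeff_X_add_one_pow, ← Nat.cast_pow, descPochhammer_eval_eq_descFactorial,
      Nat.descFactorial_eq_factorial_mul_choose, Nat.cast_mul]
  have hf : ∀ m ≤ e, (m.factorial : k) ≠ 0 := fun m hm h =>
    absurd ((hp.out.dvd_factorial).1 ((CharP.cast_eq_zero_iff k p _).1 h)) (by omega)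
  obtain ⟨U, hU⟩ : Polynomial.X ^ e ∣ Q := by
    refine Polynomial.X_pow_dvd_iff.2 fun m hm => ?_
    rcases eq_or_ne m 0 with rfl | h0
    · simp [Q, Polynomial.coeff_zero_eq_eval_zero, Polynomial.eval_finsetSum]
    have := hQ m h0 hm.le
    rw [Polynomial.coeff_eq_zero_of_natDegree_lt (p := descPochhammer k m)
      (by rwa [descPochhammer_natDegree]), mul_zero] at this
    exact (mul_eq_zero.1 this).resolve_left (hf m hm.le)
  have hU0 : U.coeff 0 ≠ 0 := fun h => by
    have h1 := hQ e S.e_pos.ne' le_rfl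
    have h2 := (monic_descPochhammer k e).coeff_natDegree
    rw [descPochhammer_natDegree] at h2
    have h3 := Polynomial.coeff_X_pow_mul U e 0
    rw [zero_add, ← hU, h] at h3
    rw [h2, h3, mul_zero, mul_one] at h1
    exact S.e_ne_zero h1.symm
  obtain ⟨h1, U', h2, h3⟩ := exists_inv_aeval S.hx hU0
  obtain ⟨c, c', h4, h5, h6, h7⟩ := exists_D_unit (k := k) S.hx S.h3
  have h8 : og k x - 1 = c' * Dl k p x := by
    rw [h7, ← mul_assoc, (commute_of_supp h5 h4).eq, h6, one_mul]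
  have sp : ∀ {w : k[G]}, Alg.Supp (zpowers x) w → Alg.Supp (zpowers x) (w ^ e) := fun h =>
    Alg.supp_iff.2 (pow_mem (Alg.supp_iff.1 h) e)
  have h9 : Alg.br (zpowers x) (zc k x e) =
      Polynomial.aeval (og k x - 1) U * c' ^ e * Dl k p x ^ e := by
    rw [mul_assoc, ← (commute_of_supp h5 supp_D).mul_pow, ← h8, (commute_of_supp h1 (sp supp_dl)).eq,
      zc, map_sub, S.br_cls, ← nsmul_one, map_nsmul, Alg.br_one]
    simpa [Q] using congrArg (Polynomial.aeval (og k x - 1)) hU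
  have h10 : Alg.Inv (zpowers x) (zc k x e) :=
    Alg.inv_iff_commute.2 fun g _ => (zc_commute _).symm.eq
  refine ⟨_, c ^ e * U', h1.mul (sp h5), (sp h4).mul h2, ?_, h9, fun n => ?_⟩
  · rw [mul_assoc, ← mul_assoc (c' ^ e), ← (commute_of_supp h5 h4).mul_pow,
      (commute_of_supp h5 h4).eq, h6, one_pow, one_mul, h3]
  · rw [← h9, ← Alg.br_pow (isPGroup_zpowers S.hx) h10]
    exact exists_eq_br_add_trP S.hx (h10.pow n)

/-- If the class sum of `x` is scalar on a module without free Jordan blocks, the largest block has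
size at most `e` or at least `p - e`. -/
theorem Gs.small_or_large (S : Gs p x y a e t) (hz : ∃ c : k, ∀ v : V, zc k x e • v = c • v)
    (h0 : ∀ v : V, Dl k p x ^ (p - 1) • v = 0) :
    (∀ v : V, Dl k p x ^ e • v = 0) ∨ ∃ v : V, Dl k p x ^ (p - e - 1) • v ≠ 0 := by
  obtain ⟨c, hc⟩ := hz
  obtain ⟨u, u', h1, h2, h3, -, h4⟩ := S.zc_eq (k := k)
  obtain ⟨w, hw⟩ := h4 1
  rw [pow_one, pow_one] at hw
  have hep : e + 1 ≤ p := by
    have := S.het; have := S.h3
    rcases Nat.eq_zero_or_pos t with rfl | h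
    · omega
    · have := Nat.le_mul_of_pos_right e h
      omega
  refine or_iff_not_imp_right.2 fun h => ?_
  push Not at h
  suffices H : ∀ s, (∀ v : V, Dl k p x ^ (e + s) • v = 0) → ∀ v : V, Dl k p x ^ e • v = 0 from
    H (p - 1 - e) fun v => by rw [show e + (p - 1 - e) = p - 1 by omega, h0]
  intro s
  induction s with
  | zero => exact id
  | succ s ih =>
    refine fun hs => ih fun v => ?_
    by_cases h5 : c = 0
    · obtain ⟨v', hv'⟩ := trP_smul_mem S.hx S.h3 w hep (u := Dl k p x ^ s • v) (by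
        rw [← mul_smul, ← pow_add, add_right_comm, add_assoc, hs])
      have h6 := hc (Dl k p x ^ s • v)
      rw [h5, zero_smul, hw, add_smul, hv', ← Nat.sub_sub, h, add_zero, mul_smul, ← mul_smul _ _ v,
        ← pow_add] at h6
      rw [← one_smul k[G] (_ • v), ← h3, (commute_of_supp h1 h2).eq, mul_smul, h6, smul_zero]
    · have h7 : Dl k p x ^ 1 • Dl k p x ^ (e + s) • v = 0 := by
        rw [← mul_smul, ← pow_add, add_comm, add_assoc, hs]
      obtain ⟨v', hv'⟩ := trP_smul_mem S.hx S.h3 w hp.out.one_le h7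
      have h6 := hc (Dl k p x ^ (e + s) • v)
      obtain ⟨r, hr⟩ := Nat.exists_eq_add_of_le' S.e_pos
      rw [hw, add_smul, hv', h0, add_zero, mul_smul, show Dl k p x ^ e = Dl k p x ^ r * Dl k p x ^ 1
        by rw [← pow_add, hr], mul_smul, h7, smul_zero, smul_zero] at h6
      exact (smul_eq_zero.1 h6.symm).resolve_left h5

/-- small Jordan blocks: either `G` maps onto `PSL(2, p)` or the fixed space of `x` is invariant -/
theorem Gs.pgl [IsAlgClosed k] [FiniteDimensional k V] (S : Gs p x y a e t) (ht : 2 ≤ t) {s : ℕ}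
    (hs : 2 * s + 1 ≤ p) (h0 : ∀ v : V, Dl k p x ^ s • v = 0) :
    (2 * e + 1 = p ∧ ∃ ψ : G →* PSL(2, ZMod p), Function.Surjective ψ ∧ ψ x ≠ 1) ∨
      ∀ (g : G) (v : V), Dl k p x • v = 0 → Dl k p x • og k g • v = 0 := by
  let ρ : G →* Module.End k V :=
    (Algebra.lsmul k k V : k[G] →ₐ[k] Module.End k V).toMonoidHom.comp (MonoidAlgebra.of k G)
  have hρ : ∀ g v, ρ g v = og k g • v := fun _ _ => rfl
  have h1 := S.het
  have h2 := Nat.mul_le_mul_left e ht
  by_cases h : ∀ g, Commute (ρ (g * x * g⁻¹)) (ρ x)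
  · refine Or.inr fun g v hv => ?_
    rw [D_smul_eq_zero_iff S.hx S.h3] at hv ⊢
    let φ := ρ.toHomUnits.rangeRestrict
    have hφ : Function.Surjective φ := MonoidHom.rangeRestrict_surjective _
    have := Finite.of_surjective φ hφ
    have hφ' : ∀ {g g'}, φ g = φ g' ↔ ρ g = ρ g' := Subtype.ext_iff.trans Units.ext_iff
    by_cases h3 : φ x = 1
    · rw [← hρ x, hφ'.1 (h3.trans (map_one φ).symm), map_one, Module.End.one_apply]
    have h4 : orderOf (φ x) = p := orderOf_eq_prime (by rw [← map_pow, ← S.hx, pow_orderOf_eq_one,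
      map_one]) h3
    have h5 := normal_of_commute h4 (fun h => S.hG (h.trans (card_dvd_of_surjective φ hφ)))
      fun q => by
        obtain ⟨g, rfl⟩ := hφ q
        rw [← map_inv, ← map_mul, ← map_mul, Commute, SemiconjBy, ← map_mul, ← map_mul, hφ',
          map_mul ρ _ x, map_mul ρ x]
        exact h g
    obtain ⟨n, hn⟩ := (mem_powers_iff_mem_zpowers.2 (h5.conj_mem _ (mem_zpowers _) (φ g⁻¹)) :
      _ ∈ Submonoid.powers (φ x))
    have h6 : ρ (x ^ n) = ρ (g⁻¹ * x * g⁻¹⁻¹) := hφ'.1 (by simpa using hn)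
    have h7 : ρ (x ^ n) v = v := by
      rw [map_pow, Module.End.pow_apply]
      exact Function.iterate_fixed hv n
    rw [h6, hρ, inv_inv, og, map_mul, map_mul, mul_smul, mul_smul] at h7
    conv_rhs => rw [← h7, ← mul_smul, ← map_mul, mul_inv_cancel, map_one, one_smul]
  · push Not at h
    obtain ⟨c, c', h4, h5, h6, h7⟩ := exists_D_unit (k := k) S.hx S.h3
    have h8 : og k x - 1 = c' * Dl k p x := by
      rw [h7, ← mul_assoc, (commute_of_supp h5 h4).eq, h6, one_mul]
    obtain ⟨h9, φ, h10, h11, h12⟩ := exists_pgl (k := k) ρ S.hx S.hG (s := s) (by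
      refine LinearMap.ext fun v => ?_
      have : ρ x - 1 = Algebra.lsmul k k V (og k x - 1) := by rw [map_sub, map_one]; rfl
      rw [this, ← map_pow, h8, (commute_of_supp h5 supp_D).mul_pow]
      exact (mul_smul _ _ v).trans (by rw [h0, smul_zero]; rfl)) hs h
    obtain ⟨h13, h14⟩ := exists_psl S.hx S.hG h9 φ h10 h11 h12
    rw [S.card_fus] at h13 h14
    exact Or.inl ⟨by omega, h14 (by omega)⟩

end Cfsg.Agent.Blau
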