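import Cfsg.Agent.Blau.Jor

/-! A quotient of a projective indecomposable module with a Jordan block of middle size. -/

set_option autoImplicit false
set_option linter.unusedSectionVars false

namespace Cfsg.Agent.Blau

open Cfsg Finset Subgroup Cfsg.Agent.Char.ModSl2 Cfsg.Agent.Block
open scoped MonoidAlgebra MatrixGroups

universe u v

variable {k : Type u} [Field k] [IsAlgClosed k] {p : ℕ} [hp : Fact p.Prime] [CharP k p]
  {G : Type v} [Group G] [Finite G] {x y : G} {a e t : ℕ}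

namespace Idm

section Alg

variable (K : Type*) [Field K] {A : Type*} [Ring A] [Algebra K A] [FiniteDimensional K A]
include K

/-- Fitting's lemma -/
theorem fit (r : A) : ∃ (N : ℕ) (c : A), (∀ w, Commute w r → Commute w c) ∧
    r ^ (N + 1) * (c * r) = r ^ (N + 1) ∧ c * r * (c * r) = c * r := by
  have hi : IsIntegral K r := .of_finite K r
  obtain ⟨q, h1, h2⟩ := (FiniteMultiplicity.of_not_isUnit (Polynomial.not_isUnit_X (R := K))
    (minpoly.ne_zero hi)).exists_eq_pow_mul_and_not_dvd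
  generalize multiplicity Polynomial.X (minpoly K r) = N at h1
  obtain ⟨f, g, hab⟩ : IsCoprime (Polynomial.X ^ (N + 1)) q :=
    (Polynomial.irreducible_X.coprime_iff_not_dvd.2 h2).pow_left
  have e1 : Polynomial.X ^ (N + 1) * (f * Polynomial.X ^ N * Polynomial.X) =
      Polynomial.X ^ (N + 1) - Polynomial.X * g * minpoly K r := by
    rw [h1]; linear_combination (Polynomial.X ^ (N + 1)) * hab
  have e2 : r ^ (N + 1) * (Polynomial.aeval r f * r ^ N * r) = r ^ (N + 1) := by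
    simpa using congrArg (Polynomial.aeval r) e1
  refine ⟨N, Polynomial.aeval r f * r ^ N, fun w hw => (Algebra.commute_of_mem_adjoin_singleton_of_commute
    (Polynomial.aeval_mem_adjoin_singleton K r) hw).mul_right (hw.pow_right N), e2, ?_⟩
  conv_lhs => rw [mul_assoc _ (r ^ N), ← pow_succ, mul_assoc, pow_succ r N, ← mul_assoc _ (r ^ N) r,
    ← pow_succ, e2]
  rw [pow_succ, mul_assoc]

/-- a primitive idempotent and the radical of its projective module -/
theorem exists_local {c i₀ : A} (h : i₀ * i₀ = i₀) (hc : c * i₀ ≠ 0) :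
    ∃ i, i * i = i ∧ i₀ * i = i ∧ c * i ≠ 0 ∧ ∃ J : Submodule A A, J < Submodule.span A {i} ∧
      ∀ U : Submodule A A, U < Submodule.span A {i} → U ≤ J := by
  have : IsArtinian A A := isArtinian_of_tower K inferInstance
  have : IsNoetherian A A := isNoetherian_of_tower K inferInstance
  obtain ⟨i, ⟨h1, h2, h3⟩, hm⟩ := exists_minimalFor_of_wellFoundedLT
    (fun i : A => i * i = i ∧ i₀ * i = i ∧ c * i ≠ 0) (fun i => Submodule.span A {i}) ⟨i₀, h, h, hc⟩
  have i0 : i ≠ 0 := fun e => h3 (by rw [e, mul_zero])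
  have m : ∀ j, j * j = j → i * j = j → j * i = j → c * j ≠ 0 → ∃ w, w * j = i := fun j j1 j2 j3 j4 =>
    Submodule.mem_span_singleton.1 (hm ⟨j1, by rw [← j2, ← mul_assoc, h2], j4⟩
      ((Submodule.span_singleton_le_iff_mem _ _).2 (Submodule.mem_span_singleton.2 ⟨j, j3⟩))
      (Submodule.mem_span_singleton_self i))
  have key : ∀ r, i * r = r → r * i = r → IsNilpotent r ∨ ∃ w, w * r = i := fun r r1 r2 => by
    obtain ⟨N, d, d1, d2, d3⟩ := fit K r
    have j3 : d * r * i = d * r := by rw [mul_assoc, r2]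
    have j2 : i * (d * r) = d * r := by
      rw [← mul_assoc, (d1 i (r1.trans r2.symm)).eq, mul_assoc, r1]
    by_cases e : c * (d * r) = 0
    · obtain ⟨w, hw⟩ := m (i - d * r) (by rw [sub_mul, mul_sub, mul_sub, h1, j2, j3, d3]; abel)
        (by rw [mul_sub, h1, j2]) (by rw [sub_mul, h1, j3]) (by rwa [mul_sub, e, sub_zero])
      refine Or.inl ⟨N + 1, ?_⟩
      rw [← d2, ← j2, ← hw, mul_assoc, sub_mul, j2, d3, sub_self, mul_zero, mul_zero]
    · obtain ⟨w, hw⟩ := m _ d3 j2 j3 e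
      exact Or.inr ⟨w * d, by rw [mul_assoc, hw]⟩
  obtain ⟨J, hJ, hJm⟩ := exists_maximal_of_wellFoundedGT (fun U : Submodule A A => U < Submodule.span A {i})
    ⟨⊥, bot_lt_iff_ne_bot.2 (by simpa using i0)⟩
  refine ⟨i, h1, h2, h3, J, hJ, fun U hU => le_sup_left.trans (hJm (lt_of_le_of_ne (sup_le hU.le hJ.le)
    fun e => ?_) le_sup_right)⟩
  obtain ⟨u, hu, v, hv, e1⟩ := Submodule.mem_sup.1 (e.ge (Submodule.mem_span_singleton_self i))
  have k : ∀ W : Submodule A A, W < Submodule.span A {i} → ∀ w ∈ W, IsNilpotent (i * w) := fun W hW w hw => by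
    obtain ⟨d, rfl⟩ := Submodule.mem_span_singleton.1 (hW.le hw)
    refine (key _ (by rw [← mul_assoc, h1]) (by rw [smul_eq_mul, mul_assoc, mul_assoc, h1])).resolve_right ?_
    rintro ⟨w', e⟩
    refine hW.not_ge ((Submodule.span_singleton_le_iff_mem _ _).2 ?_)
    rw [← e, ← mul_assoc]
    exact W.smul_mem _ hw
  have e2 : i * u + i * v = i := by rw [← mul_add, e1, h1]
  have e3 : Commute (i * u) (i * v) := by
    obtain ⟨d, rfl⟩ := Submodule.mem_span_singleton.1 (hU.le hu)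
    rw [eq_sub_of_add_eq' e2]
    refine Commute.sub_right ?_ (Commute.refl _)
    change _ * _ = _ * _
    rw [smul_eq_mul, mul_assoc, mul_assoc, h1, ← mul_assoc i i, h1]
  exact i0 (IsIdempotentElem.eq_zero_of_isNilpotent h1 (e2 ▸ e3.isNilpotent_add (k U hU u hu) (k J hJ v hv)))

end Alg

theorem ogm (g h : G) : og k (g * h) = og k g * og k h := map_mul _ _ _

theorem og1 : og k (1 : G) = 1 := map_one _

theorem inv_of_central {c : k[G]} (h : ∀ w, Commute w c) (T : Subgroup G) : Alg.Inv T c :=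
  Alg.inv_iff_commute.2 fun _ _ => h _

theorem pgrp (hx : orderOf x = p) : IsPGroup p (zpowers x) :=
  .of_card (n := 1) (by rw [Nat.card_zpowers, hx, pow_one])

theorem y_sig (S : St p x y a e t) (j : ℕ) :
    og k (y ^ j) * ∑ j ∈ range e, og k (y ^ j) = ∑ j ∈ range e, og k (y ^ j) := by
  induction j with
  | zero => rw [pow_zero, og1, one_mul]
  | succ j ih =>
    have := sum_range_succ' (fun j => og k (y ^ j)) e
    rw [sum_range_succ, S.hye, pow_zero, add_left_inj] at this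
    rw [pow_succ, ogm, mul_assoc, mul_sum]
    simp only [← ogm, ← pow_succ']
    rw [← this, ih]

theorem x_mem (S : St p x y a e t) {K : Subgroup G} [hK : K.Normal] (h : y ∈ K) : x ∈ K := by
  obtain ⟨b, rfl⟩ := Nat.exists_eq_succ_of_ne_zero fun h0 : a = 0 => S.not_dvd_a (h0 ▸ dvd_zero p)
  have h1 : x ^ b ∈ K := by
    have := mul_mem h (hK.conj_mem _ (inv_mem h) x)
    rwa [← mul_assoc, ← mul_assoc, S.hxa, pow_succ, mul_inv_cancel_right] at this
  obtain ⟨m, hm⟩ := exists_pow_eq_self_of_coprime (x := x) (n := b) (S.hx ▸ Nat.Coprime.symm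
    (hp.out.coprime_iff_not_dvd.2 fun d => by
      have := S.ha
      rw [Nat.cast_succ, (ZMod.natCast_eq_zero_iff b p).2 d, zero_add, orderOf_one] at this
      have := S.he
      omega))
  exact hm ▸ pow_mem h1 m

/-- the principal block -/
theorem exists_beta (S : St p x y a e t) : ∃ (β : k[G]) (N : ℕ), β * β = β ∧ (∀ w, Commute w β) ∧
    zc k x e ^ N * β = 0 ∧ og k y * (zc k x e ^ (t - 1) * β) ≠ zc k x e ^ (t - 1) * β := by
  obtain ⟨N, c, c1, c2, c3⟩ := fit k (zc k x e)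
  have z1 : ∀ w, Commute w (zc k x e) := fun w => (zc_commute w).symm
  have c4 : ∀ w, Commute w c := fun w => c1 w (z1 w)
  have b1 : ∀ w, Commute w (1 - c * zc k x e) := fun w =>
    (Commute.one_right w).sub_right ((c4 w).mul_right (z1 w))
  refine ⟨1 - c * zc k x e, N + 1, IsIdempotentElem.one_sub c3, b1, by rw [mul_sub, c2, mul_one, sub_self],
    fun h => ?_⟩
  obtain ⟨u, u', u1, u2, u3, u4, -⟩ := S.zc_eq (k := k)
  have hP := pgrp S.hx
  have cu : Commute u (Dl k p x) := commute_of_supp u1 supp_D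
  have b2 : Alg.br (zpowers x) (c * zc k x e) = 0 := by
    obtain ⟨m, hm⟩ := Nat.exists_eq_succ_of_ne_zero hp.out.ne_zero
    rw [← IsIdempotentElem.pow_succ_eq m c3, ← Nat.succ_eq_add_one, ← hm, (z1 c).mul_pow,
      Alg.br_mul hP ((inv_of_central c4 _).pow _) ((inv_of_central z1 _).pow _),
      Alg.br_pow hP (inv_of_central z1 _), u4, (cu.pow_right e).mul_pow, ← pow_mul, mul_comm e p, pow_mul,
      D_pow_p S.hx S.h3, zero_pow S.e_pos.ne', mul_zero, mul_zero]
  have b3 : Alg.br (zpowers x) (zc k x e ^ (t - 1) * (1 - c * zc k x e)) = (u * Dl k p x ^ e) ^ (t - 1) := by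
    rw [Alg.br_mul hP ((inv_of_central z1 _).pow _) (inv_of_central b1 _), map_sub, b2, Alg.br_one,
      Alg.br_pow hP (inv_of_central z1 _), u4, sub_zero, mul_one]
  have b4 : ∀ w, Commute w (zc k x e ^ (t - 1) * (1 - c * zc k x e)) := fun w =>
    ((z1 w).pow_right _).mul_right (b1 w)
  generalize zc k x e ^ (t - 1) * (1 - c * zc k x e) = d at h b3 b4
  let K : Subgroup G := (MulAction.stabilizer k[G]ˣ d).comap (MonoidAlgebra.of k G).toHomUnits
  have mK : ∀ g, g ∈ K ↔ og k g * d = d := fun g => Iff.rfl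
  have : K.Normal := ⟨fun n hn g => (mK _).2 (by
    rw [ogm, ogm, mul_assoc, (b4 _).eq, ← mul_assoc, mul_assoc _ _ d, (mK n).1 hn, (b4 _).eq,
      mul_assoc, ← ogm, mul_inv_cancel, og1, mul_one])⟩
  have h1 : Dl k p x * d = 0 := 
    (D_smul_eq_zero_iff (k := k) (V := k[G]) (v := d) S.hx S.h3).2 ((mK x).1 (x_mem S ((mK y).2 h)))
  have h2 := congrArg (Alg.br (zpowers x)) h1
  rw [map_zero, Alg.br_def, Alg.trunc_mul_left (supp_D.mono (le_centralizer _)), ← Alg.br_def, b3,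
    (cu.pow_right e).mul_pow, ← mul_assoc, ← (cu.pow_left _).eq, mul_assoc, ← pow_mul, ← pow_succ'] at h2
  refine D_pow_ne_zero (k := k) S.hx S.h3 (j := e * (t - 1) + 1) ?_ ?_
  · have := S.het
    have := S.e_pos
    obtain ⟨t, rfl⟩ := Nat.exists_eq_add_of_le' S.ht
    simp only [show t + 2 - 1 = t + 1 from rfl]
    nlinarith
  · have := congrArg (u' ^ (t - 1) * ·) h2
    simpa only [← mul_assoc, ← (commute_of_supp u2 u1).mul_pow, (commute_of_supp u2 u1).eq, u3, one_pow,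
      one_mul, mul_zero] using this

theorem sum_cos {M : Type*} [AddCommMonoid M] [Fintype G] [Fintype (G ⧸ zpowers x)] (hx : orderOf x = p)
    (F : G → M) : ∑ h, F h = ∑ q : G ⧸ zpowers x, ∑ j ∈ range p, F (q.out * x ^ j) := by
  have : Function.Bijective fun r : (G ⧸ zpowers x) × Fin p => r.1.out * x ^ (r.2 : ℕ) := by
    refine (Nat.bijective_iff_injective_and_card _).2 ⟨fun ⟨q, j⟩ ⟨q', j'⟩ h => ?_, ?_⟩
    · obtain rfl : q = q' := by
        simpa [QuotientGroup.mk_mul_of_mem _ (pow_mem (mem_zpowers x) _)] using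
          congrArg (QuotientGroup.mk (s := zpowers x)) h
      exact Prod.ext rfl (Fin.ext (pow_injOn_Iio_orderOf (hx ▸ j.2) (hx ▸ j'.2) (mul_left_cancel h)))
    · rw [card_eq_card_quotient_mul_card_subgroup (zpowers x), Nat.card_prod, Nat.card_zpowers, hx,
        Nat.card_fin]
  rw [← this.sum_comp, Fintype.sum_prod_type]
  exact sum_congr rfl fun q _ => Fin.sum_univ_eq_sum_range (fun j => F (q.out * x ^ j)) p

/-- a central element which is a trace from `1` to `⟨x⟩` on a left ideal is a right multiplication -/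
theorem exists_right (hx : orderOf x = p) (hG : ¬ p ^ 2 ∣ Nat.card G) {Y : Submodule k[G] k[G]}
    (ψ : Y →ₗ[k] Y) {c : k[G]} (hc : ∀ w, Commute c w) (h : ∀ v, trF p x ψ v = c • v) :
    ∃ m ∈ Y, ∀ v ∈ Y, c * v = v * m := by
  have := Fintype.ofFinite G
  have := Fintype.ofFinite (G ⧸ zpowers x)
  obtain ⟨f, hf⟩ := (Y.subtype.restrictScalars k).exists_leftInverse_of_injective
    (LinearMap.ker_eq_bot.2 Y.subtype_injective)
  have f1 : ∀ v : Y, f v = v := fun v => LinearMap.congr_fun hf v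
  have h1 : ∀ v : k[G], v • ∑ g, og k g • ψ (f (og k g⁻¹)) = ∑ g, og k g • ψ (f (og k g⁻¹ * v)) := fun v => by
    induction v using MonoidAlgebra.induction_on with
    | of g =>
      rw [smul_sum]
      refine Fintype.sum_equiv (Equiv.mulLeft g) _ _ fun h => ?_
      rw [smul_smul, Equiv.coe_mulLeft, ← ogm, ← ogm, mul_inv_rev, inv_mul_cancel_right]
    | add v w h1 h2 => simp only [add_smul, h1, h2, mul_add, map_add, smul_add, sum_add_distrib]
    | smul r v h1 =>
      rw [smul_assoc, h1]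
      simp only [mul_smul_comm, map_smul, smul_sum, smul_comm r]
  have h2 : ∀ v : Y, ∑ g, og k g • ψ (f (og k g⁻¹ * v.1)) = (Fintype.card (G ⧸ zpowers x) : k) • c • v :=
    fun v => by
    rw [sum_cos hx, Nat.cast_smul_eq_nsmul, ← card_univ, ← sum_const]
    refine sum_congr rfl fun q _ => ?_
    have := congrArg (og k q.out • ·) (h (og k q.out⁻¹ • v))
    simp only [trF, smul_sum, smul_smul] at this
    rw [(hc _).eq, ← mul_assoc, ← ogm q.out q.out⁻¹, mul_inv_cancel, og1, one_mul] at this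
    rw [← this]
    refine sum_congr rfl fun j _ => ?_
    rw [mul_inv_rev, ogm, ogm, ← f1 (_ • v)]
    rfl
  have h3 : (Fintype.card (G ⧸ zpowers x) : k) ≠ 0 := fun e => hG (by
    rw [card_eq_card_quotient_mul_card_subgroup (zpowers x), Nat.card_zpowers, hx, pow_two,
      Nat.card_eq_fintype_card]
    exact mul_dvd_mul_right ((CharP.cast_eq_zero_iff k p _).1 e) p)
  refine ⟨_, ((Fintype.card (G ⧸ zpowers x) : k)⁻¹ • ∑ g, og k g • ψ (f (og k g⁻¹))).2, fun v hv => ?_⟩
  have := congrArg (fun w : Y => ((Fintype.card (G ⧸ zpowers x) : k)⁻¹ • w : Y).1) ((h1 v).trans (h2 ⟨v, hv⟩))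
  simp only [smul_smul, inv_mul_cancel₀ h3, one_smul, ← smul_comm v] at this
  exact this.symm

section Mod

variable {Y : Type*} [AddCommGroup Y] [Module k Y] [Module k[G] Y] [IsScalarTower k k[G] Y]

theorem trF_z (S : Gs p x y a e t) {n : ℕ} {ψ : Y →ₗ[k] Y}
    (h : ∀ v, trF p x ψ v = Dl k p x ^ (n * e) • v) :
    ∃ φ : Y →ₗ[k] Y, ∀ v, trF p x φ v = zc k x e ^ n • v := by
  obtain ⟨u, u', u1, -, -, -, u5⟩ := S.zc_eq (k := k)
  obtain ⟨w, hw⟩ := u5 n
  refine ⟨Algebra.lsmul k k Y (u ^ n) ∘ₗ ψ + Algebra.lsmul k k Y w, fun v => ?_⟩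
  rw [hw, add_smul, ((commute_of_supp u1 supp_D).pow_right e).mul_pow, ← pow_mul, mul_comm e, mul_smul, ← h]
  simp only [trF, trP, LinearMap.add_apply, LinearMap.comp_apply, Algebra.lsmul_coe, smul_add,
    sum_add_distrib, smul_sum, sum_smul, mul_smul]
  congr 1
  refine sum_congr rfl fun j _ => ?_
  rw [smul_smul, smul_smul, ((commute_of_supp u1 (supp_og (pow_mem (mem_zpowers x) j))).pow_left n).eq]

theorem z_pow_mem (S : Gs p x y a e t) {n s : ℕ} (hs : s ≤ p) {u v : Y} (hu : Dl k p x ^ s • u = 0)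
    (h : zc k x e ^ n • u = Dl k p x ^ (p - s) • v) :
    ∃ v' : Y, Dl k p x ^ (n * e) • u = Dl k p x ^ (p - s) • v' := by
  obtain ⟨c, c', u1, u2, u3, -, u5⟩ := S.zc_eq (k := k)
  obtain ⟨w, hw⟩ := u5 n
  obtain ⟨v', hv⟩ := trP_smul_mem S.hx S.h3 w hs hu
  rw [hw, add_smul, ((commute_of_supp u1 supp_D).pow_right e).mul_pow, ← pow_mul, mul_comm e, hv,
    ← eq_sub_iff_add_eq, ← smul_sub, mul_smul] at h
  refine ⟨c' ^ n • (v - v'), ?_⟩
  rw [smul_smul, ← ((commute_of_supp u2 supp_D).pow_pow _ _).eq, mul_smul, ← h, smul_smul,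
    ← (commute_of_supp u2 u1).mul_pow, (commute_of_supp u2 u1).eq, u3, one_pow, one_smul]

theorem exists_head (S : Gs p x y a e t) {i : k[G]} {N : ℕ} (i2 : zc k x e ^ N * i = 0)
    (i3 : (∑ j ∈ range e, og k (y ^ j)) * i = 0) {J : Submodule k[G] k[G]}
    (j1 : J < Submodule.span k[G] {i}) (j2 : ∀ U : Submodule k[G] k[G], U < Submodule.span k[G] {i} → U ≤ J)
    {g : Y} (g0 : g ≠ 0) (g1 : i • g = g) (g2 : ∀ v : Y, ∃ w : k[G], w • g = v) :
    ∃ J' : Submodule k[G] Y, J' ≠ ⊤ ∧ (∀ U : Submodule k[G] Y, U ≠ ⊤ → U ≤ J') ∧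
      (∃ N : ℕ, ∀ v : Y, zc k x e ^ N • v = 0) ∧ ∃ v : Y, og k y • v - v ∉ J' := by
  let φ := LinearMap.toSpanSingleton k[G] Y g
  have im := Submodule.mem_span_singleton_self (R := k[G]) i
  have k1 : ∀ U : Submodule k[G] Y, g ∉ U → Submodule.span k[G] {i} ⊓ U.comap φ ≤ J := fun U hU =>
    j2 _ (lt_of_le_of_ne inf_le_left fun e => hU (g1 ▸ (e.ge im).2))
  have k2 : g ∉ J.map φ := by
    rintro ⟨w, hw, e⟩
    refine j1.not_ge ((Submodule.span_singleton_le_iff_mem _ _).2 ?_)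
    simpa using add_mem (k1 ⊥ g0 ⟨sub_mem im (j1.le hw), show φ (i - w) = 0 by
      rw [map_sub, e]; exact sub_eq_zero.2 g1⟩) hw
  refine ⟨J.map φ, fun e => k2 (e ▸ Submodule.mem_top), fun U hU v hv => ?_, ⟨N, fun v => ?_⟩, ?_⟩
  · obtain ⟨w, rfl⟩ := g2 v
    have e : φ (w * i) = w • g := by
      change (w * i) • g = _
      rw [mul_smul, g1]
    refine ⟨w * i, k1 U (fun h => hU (eq_top_iff.2 fun v _ => ?_)) ⟨Submodule.smul_mem _ w im, ?_⟩, e⟩
    · obtain ⟨w, rfl⟩ := g2 v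
      exact U.smul_mem w h
    · exact show φ (w * i) ∈ U from e ▸ hv
  · obtain ⟨w, rfl⟩ := g2 v
    rw [← g1, smul_smul, ((zc_commute w).pow_left N).eq, mul_smul, smul_smul _ i, i2, zero_smul, smul_zero]
  · by_contra! h
    have h1 : ∀ j : ℕ, og k (y ^ j) • g - g ∈ J.map φ := fun j => by
      induction j with
      | zero => rw [pow_zero, og1, one_smul, sub_self]; exact zero_mem _
      | succ j ih => simpa only [pow_succ', ogm, mul_smul, sub_add_sub_cancel] using add_mem (h (og k (y ^ j) • g)) ih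
    have h2 := neg_mem (sum_mem (t := range e) fun j _ => h1 j)
    rw [sum_sub_distrib, ← sum_smul, ← g1, smul_smul, i3, zero_smul, zero_sub, neg_neg, g1, sum_const,
      card_range, ← Nat.cast_smul_eq_nsmul k] at h2
    have := (J.map φ).smul_of_tower_mem (e : k)⁻¹ h2
    rw [smul_smul, inv_mul_cancel₀ S.e_ne_zero, one_smul] at this
    exact k2 this

end Mod

theorem nil_aux {z w v : k[G]} (hz : ∀ c, Commute z c) {N : ℕ} (h : z ^ N * v = 0) (e : v = z * w * v) :
    v = 0 := by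
  have : ∀ m : ℕ, v = (z * w) ^ m * v := fun m => by
    induction m with
    | zero => rw [pow_zero, one_mul]
    | succ m ih => rw [pow_succ, mul_assoc, ← e, ← ih]
  rw [this N, (hz w).mul_pow, ((hz _).pow_left N).eq, mul_assoc, h, mul_zero]

end Idm

open Idm

theorem St.exists_idem (S : St p x y a e t) : ∃ (i : k[G]) (N : ℕ), i * i = i ∧
    zc k x e ^ N * i = 0 ∧ zc k x e ^ (t - 1) * i ≠ 0 ∧
    (∑ j ∈ range e, og k (y ^ j)) * i = 0 ∧
    ∃ J : Submodule k[G] k[G], J < Submodule.span k[G] {i} ∧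
      ∀ U : Submodule k[G] k[G], U < Submodule.span k[G] {i} → U ≤ J := by
  obtain ⟨β, N, b1, b2, b3, b4⟩ := exists_beta (k := k) S
  have h1 := y_sig (k := k) S
  set σ := ∑ j ∈ range e, og k (y ^ j) with hσ
  have h2 : σ * σ = (e : k) • σ := by
    conv_lhs => rw [hσ, sum_mul, ← hσ]
    simp only [h1, sum_const, card_range, Nat.cast_smul_eq_nsmul]
  have h3 : σ * (1 - (e : k)⁻¹ • σ) = 0 := by
    rw [mul_sub, mul_one, mul_smul_comm, h2, smul_smul, inv_mul_cancel₀ S.e_ne_zero, one_smul, sub_self]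
  obtain ⟨i, i1, i2, i3, hJ⟩ := exists_local k (c := zc k x e ^ (t - 1)) (i₀ := (1 - (e : k)⁻¹ • σ) * β)
    (by rw [mul_assoc, ← mul_assoc β, ← (b2 _).eq, mul_assoc, b1, ← mul_assoc, sub_mul 1 _ (1 - _), one_mul,
      smul_mul_assoc, h3, smul_zero, sub_zero]) fun h => b4 (by
      rw [← mul_assoc, ((zc_commute _).pow_left _).eq, mul_assoc, sub_mul, one_mul, sub_eq_zero] at h
      rw [h, ← mul_assoc, mul_smul_comm, ← pow_one y, h1])
  refine ⟨i, N, i1, ?_, i3, ?_, hJ⟩
  · rw [← i2, (b2 _).eq, ← mul_assoc, ← mul_assoc, b3, zero_mul, zero_mul]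
  · rw [← i2, ← mul_assoc, ← mul_assoc, h3, zero_mul, zero_mul]

theorem St.exists_YS (S : St p x y a e t) {n : ℕ} (ht : 2 * n + 2 ≤ t) :
    ∃ (Y : Type (max u v)) (_ : AddCommGroup Y) (_ : Module k Y) (_ : Module k[G] Y)
      (_ : IsScalarTower k k[G] Y) (_ : FiniteDimensional k Y) (J : Submodule k[G] Y) (u : Y)
      (s : ℕ), YS k p x y e n Y J u s := by
  obtain ⟨i, N, i1, i2, i3, i4, J, j1, j2⟩ := S.exists_idem (k := k)
  have z1 : ∀ c, Commute (zc k x e) c := zc_commute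
  let Y := Submodule.span k[G] {zc k x e ^ (n + 1) * i}
  have mY : ∀ {v}, v ∈ Y ↔ ∃ w, zc k x e ^ (n + 1) * w * i = v := by
    intro v
    rw [Submodule.mem_span_singleton]
    exact exists_congr fun w => by rw [smul_eq_mul, ← mul_assoc, ((z1 w).pow_left (n + 1)).eq]
  have Yi : ∀ v ∈ Y, v * i = v := fun v hv => by
    obtain ⟨w, rfl⟩ := mY.1 hv
    rw [mul_assoc, i1]
  have fY : FiniteDimensional k Y := .of_injective (Y.subtype.restrictScalars k) Y.subtype_injective
  obtain ⟨s, u, s1, s2, u1, u2⟩ : ∃ (s : ℕ) (u : Y), n * e < s ∧ s + n * e < p ∧ Dl k p x ^ s • u = 0 ∧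
      ∀ v : Y, Dl k p x ^ (s - 1) • u ≠ Dl k p x ^ s • v := by
    by_contra! h
    obtain ⟨ψ, hψ⟩ := exists_trF (k := k) (V := Y) S.hx S.h3 h
    obtain ⟨φ, hφ⟩ := trF_z S.toGs hψ
    obtain ⟨m, hm, h1⟩ := exists_right S.hx S.hG φ (fun w => (z1 w).pow_left n) hφ
    obtain ⟨w, rfl⟩ := mY.1 hm
    have h2 := h1 _ (Submodule.mem_span_singleton_self _)
    refine i3 ?_
    rw [show t - 1 = (t - 1 - (n + (n + 1))) + (n + (n + 1)) by omega, pow_add, mul_assoc,
      nil_aux (v := zc k x e ^ (n + (n + 1)) * i) (w := i * w) z1 (N := N) ?_ ?_, mul_zero]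
    · rw [← mul_assoc, pow_mul_comm, mul_assoc, i2, mul_zero]
    · conv_lhs => rw [pow_add, mul_assoc, h2]
      rw [mul_assoc, mul_assoc, mul_assoc, ← mul_assoc i, ← ((z1 i).pow_left _).eq, mul_assoc, ← mul_assoc,
        ← pow_add, ← mul_assoc i w, ← mul_assoc (i * w), ← ((z1 (i * w)).pow_left _).eq, ← mul_assoc,
        ← mul_assoc, ← mul_assoc, ← mul_assoc, ← mul_assoc, ← pow_succ']
      congr 4
      omega
  have sp : s ≤ p := by omega
  obtain ⟨c, hc⟩ := exists_of_D_pow_mul S.hx S.h3 sp (congrArg Subtype.val u1)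
  have hc' : u.1 = Dl k p x ^ (p - s) * (c * i) := by rw [← mul_assoc, ← hc, Yi _ u.2]
  have s3 : s ≤ (n + 1) * e ∨ p - s ≤ (n + 1) * e := by
    by_contra! h
    obtain ⟨v, hv⟩ := z_pow_mem S.toGs (n := n + 1) sp u1 (v := ⟨_, mY.2 ⟨c, rfl⟩⟩) (Subtype.ext (by
      change _ * u.1 = _ * (_ * c * i)
      rw [hc', ← mul_assoc, ((z1 _).pow_left _).eq, mul_assoc, mul_assoc]))
    refine u2 (Dl k p x ^ (p - s - 1 - (n + 1) * e) • v) ?_
    rw [show s - 1 = (s - 1 - (n + 1) * e) + (n + 1) * e by omega, pow_add, mul_smul, hv, smul_smul,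
      smul_smul, ← pow_add, ← pow_add]
    congr 2
    omega
  by_cases c1 : 2 * s + 1 ≤ p
  · obtain ⟨J', h1, h2, h3, h4⟩ := exists_head S.toGs i2 i4 j1 j2 (Y := Y)
      (g := ⟨_, Submodule.mem_span_singleton_self _⟩)
      (fun h => i3 (by
        rw [show t - 1 = (t - 1 - (n + 1)) + (n + 1) by omega, pow_add, mul_assoc,
          show _ * i = 0 from congrArg Subtype.val h, mul_zero]))
      (Subtype.ext (by
        change i * _ = _
        rw [← mul_assoc, ← ((z1 i).pow_left _).eq, mul_assoc, i1]))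
      fun v => let ⟨w, hw⟩ := Submodule.mem_span_singleton.1 v.2; ⟨w, Subtype.ext hw⟩
    exact ⟨Y, inferInstance, inferInstance, inferInstance, inferInstance, fY, J', u, s,
      h1, h2, h3, h4, s1, by omega, c1, u1, u2⟩
  let W := Y.comap (LinearMap.toSpanSingleton k[G] k[G] i)
  have mW : ∀ {v : k[G]}, W.mkQ v = 0 ↔ v * i ∈ Y := by
    intro v
    rw [Submodule.mkQ_apply, Submodule.Quotient.mk_eq_zero]; rfl
  obtain ⟨J', h1, h2, h3, h4⟩ := exists_head S.toGs i2 i4 j1 j2 (g := W.mkQ 1)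
    (fun h => by
      obtain ⟨w, hw⟩ := mY.1 (mW.1 h)
      rw [one_mul, pow_succ', mul_assoc (zc k x e)] at hw
      exact i3 (by rw [nil_aux z1 i2 hw.symm, mul_zero]))
    (by
      rw [← map_smul, ← sub_eq_zero, ← map_sub, mW, smul_eq_mul, mul_one, sub_mul, i1, one_mul, sub_self]
      exact zero_mem _)
    fun v => by
      obtain ⟨w, rfl⟩ := W.mkQ_surjective v
      exact ⟨w, by rw [← map_smul, smul_eq_mul, mul_one]⟩
  have := hp.out.eq_two_or_odd
  have := S.h3
  refine ⟨k[G] ⧸ W, inferInstance, inferInstance, inferInstance, inferInstance,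
    .of_surjective (W.mkQ.restrictScalars k) W.mkQ_surjective, J', W.mkQ c, p - s,
    h1, h2, h3, h4, by omega, by omega, by omega, ?_, fun v hv => ?_⟩
  · rw [← map_smul, mW, smul_eq_mul, mul_assoc, ← hc']
    exact u.2
  · obtain ⟨v, rfl⟩ := W.mkQ_surjective v
    rw [← map_smul, ← map_smul, ← sub_eq_zero, ← map_sub, mW] at hv
    refine u2 ⟨_, hv⟩ (Subtype.ext ?_)
    change _ * u.1 = _ * ((_ - _) * i)
    rw [hc', sub_mul, mul_sub, smul_eq_mul, smul_eq_mul, mul_assoc, mul_assoc, ← mul_assoc _ _ (v * i),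
      ← pow_add, Nat.add_sub_cancel' sp, D_pow_p S.hx S.h3, zero_mul, sub_zero, ← mul_assoc, ← mul_assoc _ _ (c * i),
      ← pow_add, ← pow_add]
    congr 2
    omega

end Cfsg.Agent.Blau
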