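import Cfsg.Agent.Blau.Dec
import Cfsg.Agent.Blau.Idem

/-! The modular bound for `t ≥ 4`. -/

set_option autoImplicit false
set_option linter.unusedSectionVars false

namespace Cfsg.Agent.Blau

open Cfsg Finset Subgroup Cfsg.Agent.Char.ModSl2 Cfsg.Agent.Block
open scoped MonoidAlgebra MatrixGroups

variable {k : Type*} [Field k] [IsAlgClosed k] {p : ℕ} [hp : Fact p.Prime] [CharP k p]
  {G : Type*} [Group G] [Finite G] {x y : G} {a e t : ℕ}
variable {M : Type*} [AddCommGroup M] [Module k M] [Module k[G] M] [IsScalarTower k k[G] M]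
  [FiniteDimensional k M] {b : ℕ → ℕ → M}
variable {Y : Type*} [AddCommGroup Y] [Module k Y] [Module k[G] Y] [IsScalarTower k k[G] Y]
  [FiniteDimensional k Y] {J : Submodule k[G] Y} {u : Y} {n s : ℕ}

/-- the representation on a module over the group algebra -/
noncomputable def bgRho (k : Type*) [Field k] (G : Type*) [Group G] (V : Type*) [AddCommGroup V]
    [Module k V] [Module k[G] V] [IsScalarTower k k[G] V] : G →* Module.End k V :=
  (Algebra.lsmul k k V : k[G] →ₐ[k] Module.End k V).toMonoidHom.comp (MonoidAlgebra.of k G)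

omit [IsAlgClosed k] [FiniteDimensional k Y] [Finite G] in
@[simp] theorem bgRho_apply (g : G) (v : Y) : bgRho k G Y g v = og k g • v := rfl

/-- the action of the central element `z` -/
noncomputable def bgZ (k : Type*) [Field k] {G : Type*} [Group G] [Finite G] (x : G) (e : ℕ)
    (V : Type*) [AddCommGroup V] [Module k[G] V] : V →ₗ[k[G]] V where
  toFun v := zc k x e • v
  map_add' := smul_add _
  map_smul' c v := by
    rw [smul_smul, (zc_commute c).eq, mul_smul]; rfl

theorem YS.exists_nmem (S : St p x y a e t) (ht : 3 ≤ t) (hY : YS k p x y e n Y J u s) :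
    ∃ v : Y, Dl k p x ^ (p - e - 1) • v ∉ J := by
  by_contra! h
  have h3 := S.h3
  have h2 := S.two_e
  have h4 := S.het
  have h5 := Nat.mul_le_mul_left e ht
  have h6 := S.he
  have nall : ∀ c : k[G], (∃ N, ∀ v : Y, c ^ N • v = 0) → (∀ v : Y, ∃ w, v - c • w ∈ J) →
      False := fun c ⟨N, hN⟩ hc => hY.ne (eq_top_iff.2 fun v _ => by
    have : ∀ n, ∃ w, v - c ^ n • w ∈ J := fun n => by
      induction n with
      | zero => exact ⟨v, by simp⟩
      | succ n ih =>
        obtain ⟨w, hw⟩ := ih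
        obtain ⟨w', hw'⟩ := hc w
        refine ⟨w', ?_⟩
        have := add_mem hw (J.smul_mem (c ^ n) hw')
        rwa [smul_sub, pow_smul_one, sub_add_sub_cancel] at this
    obtain ⟨w, hw⟩ := this N
    simpa [hN] using hw)
  have hz : ∀ v : Y, zc k x e • v ∈ J := fun v => hY.max (LinearMap.range (bgZ k x e Y))
    (fun h => nall _ hY.nil fun v => by
      obtain ⟨w, rfl⟩ := LinearMap.range_eq_top.1 h v
      exact ⟨w, by rw [show bgZ k x e Y w = zc k x e • w from rfl, sub_self]; exact zero_mem _⟩) ⟨v, rfl⟩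
  have : FiniteDimensional k (Y ⧸ J) :=
    Module.Finite.of_surjective (J.mkQ.restrictScalars k) J.mkQ_surjective
  have hq : ∀ c : k[G], (∀ v : Y, c • v ∈ J) ↔ ∀ q : Y ⧸ J, c • q = 0 := fun c => by
    simp only [J.mkQ_surjective.forall, Submodule.mkQ_apply, ← Submodule.Quotient.mk_smul,
      Submodule.Quotient.mk_eq_zero]
  have h7 := (S.toGs.small_or_large (V := Y ⧸ J) ⟨0, fun v => by rw [(hq _).1 hz, zero_smul]⟩
    ((hq _).1 fun v => by rw [pow_smul_of_le _ (show p - e - 1 ≤ p - 1 by omega)]; exact h _)).resolve_right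
    fun ⟨v, hv⟩ => hv ((hq _).1 h v)
  have h8 := (S.toGs.pgl S.ht h2 h7).resolve_left fun h => by omega
  have h9 : ∀ v : Y, Dl k p x • v ∈ J := by
    have h9 : subG ((J.restrictScalars k).comap (lm k Y (Dl k p x))) (fun g v hv =>
        (Submodule.Quotient.mk_eq_zero J).1 (h8 g (Submodule.Quotient.mk v)
          ((Submodule.Quotient.mk_eq_zero J).2 hv))) = ⊤ := by
      by_contra h9
      have h10 : ∀ v : Y, Dl k p x • v ∈ J → v ∈ J := fun v hv => hY.max _ h9 hv
      have : ∀ n (v : Y), Dl k p x ^ n • v ∈ J → v ∈ J := fun n => by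
        induction n with
        | zero => simp
        | succ n ih => exact fun v hv => ih v (h10 _ (by rwa [one_smul_pow]))
      exact hY.ne (eq_top_iff.2 fun v _ => this p v (by
        rw [D_pow_p S.hx h3, zero_smul]; exact zero_mem _))
    exact fun v => eq_top_iff.1 h9 (Submodule.mem_top (x := v))
  obtain ⟨v, hv⟩ := hY.ntr
  have h10 := S.nrm (bgRho k G (Y ⧸ J)).ker inferInstance (LinearMap.ext fun q =>
    (D_smul_eq_zero_iff S.hx h3).1 ((hq _).1 h9 q))
  exact hv ((Submodule.Quotient.eq J).1 (LinearMap.congr_fun h10 (Submodule.Quotient.mk v)))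

/-- The simple head `Y / J` is killed by `z` (nilpotent central; its kernel is a nonzero
submodule).  If `D^(p-1)` kills it, `small_or_large` applies; the small case is impossible by
`Gs.pgl` (`t ≥ 3`; if `ker D ≠ 0` is invariant then `x` acts trivially on `Y / J`, so does `y` by
`nrm`, against `ntr`).  Let `r ≥ p - e` be least with `D^r Y ≤ J` (`D^p = 0`), and use `exists_wt`
with `K = ⊤`, `U = {v ∣ D^(r-1) v ∈ J}`. -/
theorem YS.exists_gen (S : St p x y a e t) (ht : 3 ≤ t) (hY : YS k p x y e n Y J u s) :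
    ∃ (v : Y) (r h : ℕ), p ≤ r + e ∧ r ≤ p ∧ (∀ w : Y, Dl k p x ^ r • w ∈ J) ∧
      Dl k p x ^ (r - 1) • v ∉ J ∧ og k y • v = (a : k) ^ h • v := by
  classical
  obtain ⟨v, hv⟩ := hY.exists_nmem S ht
  have ex : ∃ r, ∀ w : Y, Dl k p x ^ r • w ∈ J :=
    ⟨p, fun w => by rw [D_pow_p S.hx S.h3, zero_smul]; exact zero_mem _⟩
  have h1 : Nat.find ex ≤ p :=
    Nat.find_min' ex fun w => by rw [D_pow_p S.hx S.h3, zero_smul]; exact zero_mem _
  have h2 := fun {m} => Nat.find_min ex (m := m)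
  have h3 := Nat.find_spec ex
  generalize Nat.find ex = r at *
  have h4 := S.two_e
  have h5 : p ≤ r + e := by
    by_contra h
    exact hv (by rw [pow_smul_of_le _ (show r ≤ p - e - 1 by omega)]; exact h3 _)
  obtain ⟨w, -, w1, h, -, w2⟩ := S.exists_wt (K := ⊤)
    (U := (J.restrictScalars k).comap (lm k Y (Dl k p x ^ (r - 1)))) (fun _ _ => trivial)
    fun h => h2 (m := r - 1) (by omega) fun w => h (Submodule.mem_top (x := w))
  exact ⟨w, r, h, h5, h1, h3, w1, w2⟩

/-- Replace `u` by a weight vector of weight `a^h` (`exists_wt`, `K = ker D^s`,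
`U = {v ∣ D^(s-1) v ∈ D^s Y}`).  Take `v, r` from `exists_gen`, `m₀ = p - e - s`.  Claim: an
`A`-map `F : Y → M` with `D^(p-1) F v = 0` has `F u ∈ D^m₀ M`.  (`F = 0` fine.  Otherwise
`ker F ≤ J`; `T = range F` has the unique maximal submodule `F J`, `F⁻¹ (F J) = J`; if `r = p`
contradiction; otherwise `ker_le_range` in `T` with `j = s` (note `s ≤ (p-1)/2 ≤ p - e ≤ r`) gives
`F u ∈ D^(r-s) T`.)  For each `q ∈ T`, `b q.1 q.2` has weight `a^h` (`wt`) and is killed by `D^s`
(`kill`); `exists_Nmap`, `exists_Gmap'` give `F_q` with `F_q u ∈ b q + D^(p-s) M`.  The vectors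
`D^(p-1) F_q v` are linearly independent (claim for `∑ c_q F_q`, and `ind`), lie in `D^(p-1) M` and
have weight `a^(h' + p - 1)`; use `rkw` for their span. -/
theorem MS.card_le (S : St p x y a e t) (ht : 3 ≤ t) (hM : MS k p x y a e t M b)
    (hY : YS k p x y e n Y J u s) : ∃ h < e, ∀ T : Finset (ℕ × ℕ),
      (∀ q ∈ T, q.1 < e ∧ q.2 ≤ 2 * q.1 ∧ q.2 + e + s < p ∧ 2 * q.1 + 1 ≤ s + q.2 ∧
        q.2 ≡ q.1 + h [MOD e]) → T.card + 1 ≤ t := by
  obtain ⟨u, u1, u2, h, he, u3⟩ := S.exists_wt_blk hY.kill hY.blk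
  obtain ⟨v, r, h', r1, r2, r3, r4, r5⟩ := hY.exists_gen S ht
  have h2 := S.two_e
  have h3 := hY.half
  have claim : ∀ F : Y →ₗ[k[G]] M, Dl k p x ^ (p - 1) • F v = 0 →
      ∃ m, F u = Dl k p x ^ (p - e - s) • m := fun F hF => by
    by_cases h0 : LinearMap.ker F = ⊤
    · exact ⟨0, by simp [LinearMap.ker_eq_top.1 h0]⟩
    have h4 : ∀ w, F.rangeRestrict w ∈ J.map F.rangeRestrict ↔ w ∈ J := fun w => by
      rw [← Submodule.mem_comap, Submodule.comap_map_eq, LinearMap.ker_rangeRestrict,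
        sup_eq_left.2 (hY.max _ h0)]
    have h5 := F.surjective_rangeRestrict
    obtain ⟨w, hw⟩ := S.ker_le_range (J := J.map F.rangeRestrict) (v := F.rangeRestrict v) (s := r)
      (fun h => hY.ne (eq_top_iff.2 fun w _ => (h4 w).1 (h ▸ trivial)))
      (fun U hU => by
        rw [← Submodule.map_comap_eq_of_surjective h5 U]
        refine Submodule.map_mono (hY.max _ fun h => hU ?_)
        rw [← Submodule.map_comap_eq_of_surjective h5 U, h, Submodule.map_top,
          LinearMap.range_eq_top.2 h5])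
      (Subtype.ext hF) (by rwa [← map_smul, h4])
      (h5.forall.2 fun w => by rw [← map_smul, h4]; exact r3 w) (j := s) (by omega)
      (F.rangeRestrict u) (by rw [← map_smul, u1, map_zero])
    exact ⟨_, (congrArg Subtype.val hw).trans (pow_smul_of_le _ (by omega) _)⟩
  refine ⟨h, he, fun T hT => ?_⟩
  have h4 : ∀ q ∈ T, ∃ (F : Y →ₗ[k[G]] M) (w : M), F u = b q.1 q.2 + Dl k p x ^ (p - s) • w := by
    intro q hq
    obtain ⟨q1, q2, q3, q4, q5⟩ := hT q hq
    obtain ⟨f, f1, f2, f3, -⟩ := S.exists_Nmap (m := b q.1 q.2) u1 u2 u3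
      (by rw [pow_smul_of_le' _ (show 2 * q.1 + 1 - q.2 ≤ s by omega), hM.kill _ q1 _ q2, smul_zero])
      (smul_right_injective M (pow_ne_zero q.1 S.a_ne_zero) ((hM.wt _ q1 _).trans (by
        dsimp only
        rw [smul_smul, ← pow_add, S.toGs.a_pow_eq_iff.2 q5])))
    obtain ⟨F, hF⟩ := S.exists_Gmap' f f2 f3
    exact ⟨F, f1 ▸ hF s (by omega) u u1⟩
  choose! F w hF using h4
  have h5 : LinearIndependent k fun q : T => Dl k p x ^ (p - 1) • F q v := by
    refine (linearIndepOn_finset_iff (s := T) (v := fun q => Dl k p x ^ (p - 1) • F q v)).2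
      fun c hc => ?_
    obtain ⟨m, hm⟩ := claim (∑ q ∈ T, c q • F q) (by
      simpa only [LinearMap.sum_apply, LinearMap.smul_apply, smul_sum, smul_comm _ (c _)] using hc)
    refine hM.ind T c (p - e - s) (m - Dl k p x ^ e • ∑ q ∈ T, c q • w q)
      (fun q hq => by have := hT q hq; omega) ?_
    rw [smul_sub, ← hm, pow_smul_add, show p - e - s + e = p - s by omega, LinearMap.sum_apply,
      smul_sum, ← sum_sub_distrib]
    exact sum_congr rfl fun q hq => by
      rw [LinearMap.smul_apply, hF q hq, smul_add, smul_comm (c q) (_ ^ _), add_sub_cancel_right]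
  have h6 := (hM.rkw (p - 1 + h') (Submodule.span k (Set.range fun q : T =>
    Dl k p x ^ (p - 1) • F q v)) fun m hm => by
      induction hm using Submodule.span_induction with
      | mem _ h =>
        obtain ⟨q, rfl⟩ := h
        exact ⟨⟨_, rfl⟩, by rw [S.y_smul_D_pow, ← map_smul, r5, LinearMap.map_smul_of_tower,
          smul_comm _ ((a : k) ^ h'), smul_smul, pow_add]⟩
      | zero => exact ⟨⟨0, by simp⟩, by simp⟩
      | add _ _ _ _ h1 h2 =>
        obtain ⟨⟨m, rfl⟩, h1⟩ := h1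
        obtain ⟨⟨m', rfl⟩, h2⟩ := h2
        exact ⟨⟨m + m', by rw [smul_add]⟩, by rw [smul_add, h1, h2, smul_add]⟩
      | smul d _ _ h1 =>
        obtain ⟨⟨m, rfl⟩, h1⟩ := h1
        exact ⟨⟨d • m, smul_comm _ _ _⟩, by rw [smul_comm, h1, smul_comm]⟩).1
  rwa [finrank_span_eq_card h5, Fintype.card_coe] at h6

/-- Use `exists_YS` with `n = 2` if `t ≥ 6` and `n = 1` if `t = 4, 5`, and in `card_le` the set
`T = {(i, i + h) ∣ h ≤ i < min e (m₀ - h)} ∪ {(i, i + h - e) ∣ e - h ≤ i < min e (s + h - e)}`,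
`m₀ = p - e - s`.  For `n = 2`: `2e < s ≤ 3e`, `m₀ > 2e`, `|T| = e`.  For `n = 1`: `e < s ≤ 2e`,
`s + m₀ ≥ 3e + 1`, `2 |T| ≥ e + 1`. -/
theorem MS.big (S : St p x y a e t) (hM : MS k p x y a e t M b) (ht : 4 ≤ t) :
    e + 3 ≤ 2 * t ∧ (6 ≤ t → e + 1 ≤ t) := by
  have key : ∀ n, 1 ≤ n → 2 * n + 2 ≤ t → ∃ s h, n * e < s ∧ s ≤ (n + 1) * e ∧ 2 * s + 1 ≤ p ∧
      h < e ∧ (min e (p - e - s - h) - h) + (min e (s + h - e) - (e - h)) + 1 ≤ t := by
    intro n h1 hn
    obtain ⟨Y, _, _, _, _, _, J, u, s, hY⟩ := S.exists_YS (k := k) hn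
    obtain ⟨h, he, H⟩ := hM.card_le S (by omega) hY
    refine ⟨s, h, hY.lo, hY.up, hY.half, he, ?_⟩
    have h2 := hY.lo
    have h3 := hY.half
    have h4 := S.het
    have h5 := Nat.mul_le_mul_left e ht
    have h6 := Nat.mul_le_mul_right e h1
    have := H (((Ico h (min e (p - e - s - h))).image fun i => (i, i + h)) ∪
      (Ico (e - h) (min e (s + h - e))).image fun i => (i, i + h - e)) (by
        simp only [mem_union, mem_image, mem_Ico]
        rintro _ (⟨i, hi, rfl⟩ | ⟨i, hi, rfl⟩) <;> dsimp only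
        · exact ⟨by omega, by omega, by omega, by omega, rfl⟩
        · refine ⟨by omega, by omega, by omega, by omega, ?_⟩
          conv_rhs => rw [show i + h = i + h - e + e by omega]
          exact (Nat.add_modEq_right).symm)
    rwa [card_union_of_disjoint (by
        simp only [disjoint_left, mem_image, mem_Ico, Prod.ext_iff]
        rintro _ ⟨i, hi, rfl, h⟩ ⟨j, hj, rfl, h'⟩
        omega), card_image_of_injective _ fun _ _ h => (Prod.ext_iff.1 h).1,
      card_image_of_injective _ fun _ _ h => (Prod.ext_iff.1 h).1, Nat.card_Ico, Nat.card_Ico] at this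
  have h4 := S.het
  by_cases h6 : 6 ≤ t
  · obtain ⟨s, h, _, _, _, _, _⟩ := key 2 one_le_two h6
    have h5 := Nat.mul_le_mul_left e h6
    omega
  · obtain ⟨s, h, _, _, _, _, _⟩ := key 1 le_rfl ht
    have h5 := Nat.mul_le_mul_left e ht
    omega

end Cfsg.Agent.Blau
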