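import Cfsg.Agent.Blau.LstB
import Cfsg.Agent.Char.SubP2

/-! Exceptional characters over the square of the central character. -/

set_option autoImplicit false
set_option linter.unusedSectionVars false

namespace Cfsg.Agent.Blau

open Cfsg Finset Subgroup Cfsg.Agent.Char Cfsg.Agent.Char.ModSl2 Cfsg.Agent.Block
open scoped MonoidAlgebra MatrixGroups commutatorElement

variable {p : ℕ} [hp : Fact p.Prime] {G : Type*} [Group G] [Finite G] {x y : G} {a e t d : ℕ}
  {ζ θ : G → ℂ} {l : ℂ} {ε : ℤ}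

theorem eq_one_of_mem_of_not_mem (hx : orderOf x = p) {K : Subgroup G} (hK : x ∉ K) {u : G}
    (h1 : u ∈ K) (h2 : u ∈ zpowers x) : u = 1 := by
  by_contra h3
  obtain ⟨i, hi⟩ := mem_powers_iff_mem_zpowers.2 h2
  have hi' : x ^ i = u := hi
  have h4 : ¬ p ∣ i := fun h => h3 (by
    rw [← hi']; exact orderOf_dvd_iff_pow_eq_one.1 (hx ▸ h))
  obtain ⟨j, hj⟩ := exists_pow_eq_self_of_coprime (x := x) (n := i)
    (hx ▸ ((Nat.Prime.coprime_iff_not_dvd hp.out).2 h4).symm)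
  exact hK (by rw [← hj, hi']; exact pow_mem h1 j)

theorem not_dvd_of_mem_normal (hx : orderOf x = p) (hG : ¬ p ^ 2 ∣ Nat.card G) {K : Subgroup G}
    [hN : K.Normal] (hK : x ∉ K) {g : G} (hg : g ∈ K) : ¬ p ∣ orderOf g := fun h => by
  have h1 : orderOf (g ^ (orderOf g / p)) = p := orderOf_pow_orderOf_div (orderOf_pos g).ne' h
  obtain ⟨c, hc⟩ := exists_conj_mem_zpowers hx hG h1
  have h2 := eq_one_of_mem_of_not_mem hx hK (hN.conj_mem _ (pow_mem hg _) c) hc
  rw [conj_eq_one_iff.1 h2, orderOf_one] at h1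
  exact hp.out.one_lt.ne h1

theorem Cs.not_mem_center (C : Cs p x y a e t ζ d l) : x ∉ center G := fun h =>
  C.hn (normal_of_commute C.hx C.hG fun _ => mem_center_iff.1 h _)

theorem Cs.not_dvd_cen0 (C : Cs p x y a e t ζ d l) {z : G} (hz : z ∈ center G) :
    ¬ p ∣ orderOf z :=
  not_dvd_of_mem_normal C.hx C.hG C.not_mem_center hz

theorem eta_congr0 (hl : l ^ p = 1) {i j : ℕ} (h : i ≡ j [MOD p]) : eta l a e i = eta l a e j := by
  refine Finset.sum_congr rfl fun k _ => ?_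
  rw [pow_eq_pow_mod _ hl, pow_eq_pow_mod (a ^ k * j) hl, h.mul_left (a ^ k)]

theorem Gs.eta_inj (S : Gs p x y a e t) (hl : IsPrimitiveRoot l p) {i j : ℕ} (hi : ¬ p ∣ i)
    (hj : ¬ p ∣ j) (h : eta l a e i = eta l a e j) :
    i % p ∈ (range e).image fun k => a ^ k * j % p := by
  classical
  have hp0 := hp.out.pos
  let r : ℕ → ℕ → Fin p := fun i k => ⟨a ^ k * i % p, Nat.mod_lt _ hp0⟩
  have h1 : ∀ i, eta l a e i =
      ∑ s : Fin p, (((range e).filter fun k => r i k = s).card : ℂ) * l ^ (s : ℕ) := fun i => by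
    rw [eta, ← Finset.sum_fiberwise_of_maps_to (g := r i) (t := univ) fun _ _ => mem_univ _]
    refine Finset.sum_congr rfl fun s _ => ?_
    rw [← nsmul_eq_mul, ← Finset.sum_const]
    refine Finset.sum_congr rfl fun k hk => ?_
    rw [← (mem_filter.1 hk).2, pow_eq_pow_mod _ hl.pow_eq_one]
  have h2 := (hl.sum_eq_zero_iff_forall_eq_int hp.out fun s =>
    (((range e).filter fun k => r i k = s).card : ℤ) -
      ((range e).filter fun k => r j k = s).card).1 (by
    push_cast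
    simp only [sub_mul, Finset.sum_sub_distrib, ← h1, h, sub_self])
    ⟨i % p, Nat.mod_lt _ hp0⟩ ⟨0, hp0⟩
  have h3 : ∀ i, ¬ p ∣ i → ((range e).filter fun k => r i k = ⟨0, hp0⟩).card = 0 :=
    fun i hi => card_eq_zero.2 (filter_eq_empty_iff.2 fun k _ hk => by
      rcases hp.out.dvd_mul.1 (Nat.dvd_of_mod_eq_zero (congrArg Fin.val hk)) with h4 | h4
      · exact S.not_dvd_a (hp.out.dvd_of_dvd_pow h4)
      · exact hi h4)
  rw [h3 i hi, h3 j hj] at h2
  have h4 : 0 < ((range e).filter fun k => r i k = ⟨i % p, Nat.mod_lt _ hp0⟩).card :=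
    card_pos.2 ⟨0, mem_filter.2 ⟨mem_range.2 S.e_pos, Fin.ext (by simp [r])⟩⟩
  have h5 : 0 < ((range e).filter fun k => r j k = ⟨i % p, Nat.mod_lt _ hp0⟩).card := by omega
  obtain ⟨k, hk⟩ := card_pos.1 h5
  exact mem_image.2 ⟨k, (mem_filter.1 hk).1, congrArg Fin.val (mem_filter.1 hk).2⟩

theorem Gs.exists_three (S : Gs p x y a e t) (hl : IsPrimitiveRoot l p) (ht : 3 ≤ t) :
    ∃ j k, ¬ p ∣ j ∧ ¬ p ∣ k ∧ eta l a e j ≠ eta l a e 1 ∧ eta l a e k ≠ eta l a e 1 ∧
      eta l a e k ≠ eta l a e j := by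
  classical
  have h0 : ∀ j, ((range e).image fun k => a ^ k * j % p).card ≤ e := fun j =>
    card_image_le.trans (card_range e).le
  have h1 : (Ico 1 p).card = e * t := by rw [Nat.card_Ico]; have := S.het; omega
  have h2 := Nat.mul_le_mul_left e ht
  have h3 := S.e_pos
  have h4 : ∀ j ∈ Ico 1 p, ¬ p ∣ j ∧ j % p = j := fun j hj => by
    rw [mem_Ico] at hj
    exact ⟨fun h => by have := Nat.le_of_dvd (by omega) h; omega, Nat.mod_eq_of_lt hj.2⟩
  have h5 : ¬ p ∣ 1 := hp.out.not_dvd_one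
  obtain ⟨j, hj, hj'⟩ := exists_mem_notMem_of_card_lt_card
    (s := (range e).image fun k => a ^ k * 1 % p) (t := Ico 1 p) (by have := h0 1; omega)
  obtain ⟨k, hk, hk'⟩ := exists_mem_notMem_of_card_lt_card
    (s := ((range e).image fun k => a ^ k * 1 % p) ∪ (range e).image fun k => a ^ k * j % p)
    (t := Ico 1 p) (by
      have := h0 1; have := h0 j
      have := card_union_le ((range e).image fun k => a ^ k * 1 % p)
        ((range e).image fun k => a ^ k * j % p)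
      omega)
  rw [mem_union, not_or] at hk'
  refine ⟨j, k, (h4 j hj).1, (h4 k hk).1, fun h => hj' ?_, fun h => hk'.1 ?_, fun h => hk'.2 ?_⟩
  · rw [← (h4 j hj).2]; exact S.eta_inj hl (h4 j hj).1 h5 h
  · rw [← (h4 k hk).2]; exact S.eta_inj hl (h4 k hk).1 h5 h
  · rw [← (h4 k hk).2]; exact S.eta_inj hl (h4 k hk).1 (h4 j hj).1 h

local notation "𝐂" => centralizer ((zpowers x : Subgroup G) : Set G)
local notation "𝐍" => normalizer ((zpowers x : Subgroup G) : Set G)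

theorem Gs.y_mem_N (S : Gs p x y a e t) : y ∈ 𝐍 := by
  refine mem_normalizer_fintype ?_
  rintro _ ⟨k, rfl⟩
  change y * x ^ k * y⁻¹ ∈ zpowers x
  rw [← conj_zpow, S.hxa]
  exact zpow_mem (pow_mem (mem_zpowers x) a) k

theorem Gs.sum_N (S : Gs p x y a e t) (F : G → ℂ) :
    ∑ᶠ n : 𝐍, F (n * x * (n : G)⁻¹) = Nat.card 𝐂 * ∑ i ∈ range e, F (x ^ a ^ i) := by
  classical
  have := Fintype.ofFinite 𝐍
  have := Fintype.ofFinite 𝐂
  let f : Fin e × 𝐂 → 𝐍 := fun q =>
    ⟨y ^ (q.1 : ℕ) * q.2, mul_mem (pow_mem S.y_mem_N _) (centralizer_le_normalizer _ q.2.2)⟩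
  have hf : ∀ q, (f q : G) * x * (f q : G)⁻¹ = x ^ a ^ (q.1 : ℕ) := fun q => by
    have h1 := SubP.mem_C_iff.1 q.2.2
    rw [← S.pow_conj]
    calc _ = y ^ (q.1 : ℕ) * (q.2 * x * (q.2 : G)⁻¹) * (y ^ (q.1 : ℕ))⁻¹ := by
          simp only [f]; group
      _ = _ := by rw [h1]
  have hb : Function.Bijective f := by
    constructor
    · rintro ⟨i, c⟩ ⟨j, c'⟩ h
      have h1 := hf (i, c)
      rw [h, hf, pow_eq_pow_iff_modEq, S.hx] at h1
      obtain rfl : j = i := Fin.ext (S.injOn_mod (by simp) (by simp) h1)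
      have h2 : y ^ (j : ℕ) * c = y ^ (j : ℕ) * c' := congrArg Subtype.val h
      rw [Subtype.ext (mul_left_cancel h2)]
    · intro n
      obtain ⟨j, hj⟩ := S.hN n ((mem_normalizer_iff.1 n.2 x).1 (mem_zpowers x))
      have h1 : y ^ e ∈ 𝐂 := SubP.mem_C_iff.2 (by
        rw [S.pow_conj]
        conv_rhs => rw [← pow_one x]
        rw [pow_eq_pow_iff_modEq, S.hx, ← ZMod.natCast_eq_natCast_iff]
        push_cast
        rw [← S.ha, pow_orderOf_eq_one])
      have h2 : (y ^ j)⁻¹ * n ∈ 𝐂 := SubP.mem_C_iff.2 (mul_inv_eq_iff_eq_mul.2 hj.eq)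
      refine ⟨(⟨j % e, Nat.mod_lt _ S.e_pos⟩, ⟨_, mul_mem (pow_mem h1 (j / e)) h2⟩),
        Subtype.ext ?_⟩
      change y ^ (j % e) * ((y ^ e) ^ (j / e) * ((y ^ j)⁻¹ * n)) = n
      rw [← mul_assoc, ← pow_mul, ← pow_add, Nat.mod_add_div, mul_inv_cancel_left]
  rw [finsum_eq_sum_of_fintype, ← hb.sum_comp fun n : 𝐍 => F (n * x * (n : G)⁻¹)]
  simp only [hf, Fintype.sum_prod_type, sum_const, card_univ, nsmul_eq_mul]
  rw [← Finset.mul_sum, Nat.card_eq_fintype_card, Fin.sum_univ_eq_sum_range fun i => F (x ^ a ^ i)]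

/-- the values of an irreducible character that is not constant on `⟨x⟩ ∖ 1` -/
theorem Gs.exists_val (S : Gs p x y a e t)
    (hC : ∀ g : G, Commute g x → ¬ p ∣ orderOf g → g ∈ center G) (hl : IsPrimitiveRoot l p)
    {χ : G → ℂ} (hχ : IsIrrCharacter G χ) {i j : ℕ} (hi : ¬ p ∣ i) (hj : ¬ p ∣ j)
    (hij : χ (x ^ i) ≠ χ (x ^ j)) :
    ∃ (δ : ℤ) (g : ℕ), (δ = 1 ∨ δ = -1) ∧ ¬ p ∣ g ∧
      ∀ k, ¬ p ∣ k → χ (x ^ k) = δ * eta l a e (g * k) := by
  classical
  have hx := S.hx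
  have hP : Nat.card (zpowers x) = p := by rw [Nat.card_zpowers, hx]
  have hC0 : (Nat.card 𝐂 : ℂ) ≠ 0 := Nat.cast_ne_zero.2 Nat.card_pos.ne'
  have h1 : ¬ p ∣ orderOf (1 : G) := not_dvd_orderOf_one
  have hm : ∀ k : ℕ, x ^ k ∈ zpowers x := fun k => pow_mem (mem_zpowers x) k
  have hne : ∀ k, ¬ p ∣ k → x ^ k ≠ 1 := fun k hk h => hk (hx ▸ orderOf_dvd_of_pow_eq_one h)
  rcases values_of_cyclic_ti (p := p) (P := zpowers x)
    (IsPGroup.of_card (n := 1) (by rw [hP, pow_one]))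
    (fun h => S.hG (by
      rw [← (zpowers x).card_mul_index, hP, pow_two]; exact Nat.mul_dvd_mul_left p h))
    inferInstance (fun u hu hu1 => by
      have h2 : zpowers u = zpowers x := le_antisymm (zpowers_le.2 hu) (zpowers_le.2 (by
        by_contra h
        exact hu1 (eq_one_of_mem_of_not_mem hx h (mem_zpowers u) hu)))
      rw [← h2, zpowers_eq_closure, centralizer_closure]) ⟨χ, hχ⟩ with
    h | ⟨θ, δ, hθ, hθP, hδ, h | ⟨lam, hm', hl1, ⟨u, hu, hlu⟩, h⟩⟩
  · have h2 := h _ (hm i) (hne i hi) 1 (one_mem _) h1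
    rw [← h _ (hm j) (hne j hj) 1 (one_mem _) h1, mul_one, mul_one] at h2
    exact absurd h2 hij
  · have h0 : (Nat.card {n : 𝐍 // ∀ z ∈ 𝐂, θ (n * z * n⁻¹) = θ z} : ℂ) ≠ 0 := by
      have : Nonempty {n : 𝐍 // ∀ z ∈ 𝐂, θ (n * z * n⁻¹) = θ z} := ⟨⟨1, by simp⟩⟩
      exact Nat.cast_ne_zero.2 Nat.card_pos.ne'
    have h2 := h _ (hm i) (hne i hi) 1 (one_mem _) h1
    rw [← h _ (hm j) (hne j hj) 1 (one_mem _) h1, mul_one, mul_one] at h2
    exact absurd (mul_left_cancel₀ h0 h2) hij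
  have hθ1 : θ 1 = 1 := hθ.one_eq_one_of_comm fun u v => Subtype.ext (by
    obtain ⟨i, z, hz, h2⟩ := S.exists_mul_center hC
      (g := u) (mul_inv_eq_iff_eq_mul.1 (SubP.mem_C_iff.1 u.2))
    have h3 : Commute (v : G) x := mul_inv_eq_iff_eq_mul.1 (SubP.mem_C_iff.1 v.2)
    have h4 : Commute (v : G) z := mem_center_iff.1 hz _
    change (u : G) * v = v * u
    rw [h2]
    exact ((h3.pow_right i).mul_right h4).eq.symm)
  have hpow : ∀ k : ℕ, lam (x ^ k) = lam x ^ k := fun k => by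
    induction k with
    | zero => simpa using hl1
    | succ k ih => rw [pow_succ, hm' _ (hm k) _ (mem_zpowers x), ih, pow_succ]
  have : NeZero p := ⟨hp.out.ne_zero⟩
  obtain ⟨g, -, hg⟩ := hl.eq_pow_of_pow_eq_one (ξ := lam x) (by
    rw [← hpow, ← hx, pow_orderOf_eq_one, hl1])
  refine ⟨δ, g, hδ, fun h2 => hlu ?_, fun k hk => ?_⟩
  · obtain ⟨k, hk⟩ := mem_powers_iff_mem_zpowers.2 hu
    have hk' : x ^ k = u := hk
    rw [← hk', hpow, ← hg, (hl.pow_eq_one_iff_dvd g).2 h2, one_pow]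
  · have h2 := h _ (hm k) (hne k hk) 1 (one_mem _) h1
    have h3 := S.sum_N fun u => lam (u ^ k)
    simp only [mul_one, InvMemClass.coe_inv, mul_inv_cancel, hθ1, ← conj_pow] at h2
    rw [h3] at h2
    rw [mul_left_comm] at h2
    refine (mul_left_cancel₀ hC0 h2).trans ?_
    congr 1
    refine Finset.sum_congr rfl fun r _ => ?_
    rw [← pow_mul, hpow, ← hg, ← pow_mul]
    congr 1
    ring

theorem exists_exp_inv (hx : orderOf x = p) (hG : ¬ p ^ 2 ∣ Nat.card G) {g : ℕ} (hg : ¬ p ∣ g) :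
    ∃ m : ℕ, m.Coprime (Nat.card G) ∧ g * m ≡ 1 [MOD p] ∧
      ∀ z : G, ¬ p ∣ orderOf z → z ^ m = z := by
  obtain ⟨n, hn⟩ : p ∣ Nat.card G := hx ▸ _root_.orderOf_dvd_natCard x
  have h2 : p.Coprime n := (Nat.Prime.coprime_iff_not_dvd hp.out).2 fun h =>
    hG (by rw [hn, pow_two]; exact Nat.mul_dvd_mul_left p h)
  obtain ⟨g', -, hg'⟩ := Nat.exists_mul_mod_eq_one_of_coprime
    ((Nat.Prime.coprime_iff_not_dvd hp.out).2 hg).symm hp.out.one_lt
  obtain ⟨m, hm1, hm2⟩ := Nat.chineseRemainder h2 g' 1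
  have h3 : g * m ≡ 1 [MOD p] := (hm1.mul_left g).trans (by
    rw [Nat.ModEq, hg', Nat.mod_eq_of_lt hp.out.one_lt])
  refine ⟨m, ?_, h3, fun z hz => ?_⟩
  · rw [hn]
    refine Nat.Coprime.mul_right (Nat.Coprime.coprime_mul_left (k := g) ?_) ?_
    · rw [Nat.Coprime, h3.gcd_eq]; simp
    · rw [Nat.Coprime, hm2.gcd_eq]; simp
  · conv_rhs => rw [← pow_one z]
    exact pow_eq_pow_iff_modEq.2 (hm2.of_dvd
      (((Nat.Prime.coprime_iff_not_dvd hp.out).2 hz).symm.dvd_of_dvd_mul_left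
        (hn ▸ _root_.orderOf_dvd_natCard z)))

/-- In `H = K ⊔ ⟨x⟩` an element normalizing `⟨x⟩` centralizes it (`H / K` is generated by `x`;
`[n, x] ∈ K ∩ ⟨x⟩ = 1` since `x ∉ K`), so `SubP.apply_comm_of_le` for `ζ` restricted to `H` gives
`[x, g] = 1` for `g ∈ K`; `K` has order prime to `p` (else it contains a conjugate of `x`:
`exists_conj_mem_zpowers`), use `hC`. -/
theorem Cs.le_center (C : Cs p x y a e t ζ d l) (he : 2 ≤ e) (K : Subgroup G) [K.Normal]
    (hK : x ∉ K) : K ≤ center G := by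
  intro g hg
  refine C.hC g ?_ (not_dvd_of_mem_normal C.hx C.hG hK hg)
  let H : Subgroup G := K ⊔ zpowers x
  have hxH : x ∈ H := mem_sup_right (mem_zpowers x)
  have h1 : orderOf (⟨x, hxH⟩ : H) = p := by rw [orderOf_mk, C.hx]
  have h2 := SubP.apply_comm_of_le h1 (fun h => C.hG (h.trans H.card_subgroup_dvd_card))
    (fun n hn => SubP.mem_C_iff.2 (Subtype.ext (by
      obtain ⟨k, hk⟩ := (mem_normalizer_iff.1 hn _).1 (mem_zpowers (⟨x, hxH⟩ : H))
      have h3 : x ^ k = (n : G) * x * (n : G)⁻¹ := congrArg Subtype.val hk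
      obtain ⟨c, hc, _, ⟨i, rfl⟩, h4⟩ := mem_sup_of_normal_left.1 n.2
      have h5 : (n : G) * x * (n : G)⁻¹ * x⁻¹ = c * (x * c⁻¹ * x⁻¹) := by
        rw [← h4]; simp only []; group
      have h6 := eq_one_of_mem_of_not_mem C.hx hK (u := (n : G) * x * (n : G)⁻¹ * x⁻¹)
        (h5 ▸ mul_mem hc (Normal.conj_mem inferInstance _ (inv_mem hc) x))
        (h3 ▸ mul_mem (zpow_mem (mem_zpowers x) k) (inv_mem (mem_zpowers x)))
      exact mul_inv_eq_one.1 h6)))
    (C.irr.isCharacter.restrict H) (fun d' hd' => by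
      have h3 : d' = d := by exact_mod_cast hd'.symm.trans C.deg
      have := C.hd
      omega) ⟨g, mem_sup_left hg⟩
  have h3 := C.hf _ h2
  have h4 : x * g * x⁻¹ * g⁻¹ = 1 := h3
  rw [mul_inv_eq_one, mul_inv_eq_iff_eq_mul] at h4
  exact h4.symm

theorem Cs.ne_e (C : Cs p x y a e t ζ d l) (he : 2 ≤ e) (ht : 3 ≤ t) (hθ : IsIrrCharacter G θ)
    (hv : ∀ j, ¬ p ∣ j → θ (x ^ j) = eta l a e j) : θ 1 ≠ e := fun h => by
  have : (charKer θ).Normal := charKer_normal hθ.isClassFunction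
  obtain ⟨j, -, hj, -, h1, -⟩ := C.toGs.exists_three C.prim ht
  have hK : x ∉ charKer θ := fun hK => h1 (by
    rw [← hv j hj, ← hv 1 hp.out.not_dvd_one, (mem_charKer_iff hθ.isCharacter).1 (pow_mem hK j),
      (mem_charKer_iff hθ.isCharacter).1 (pow_mem hK 1)])
  have hxp : x ^ p = 1 := by rw [← C.hx, pow_orderOf_eq_one]
  refine C.hn (normal_of_commute C.hx C.hG fun g => ?_)
  have h2 : ⁅x, g * x * g⁻¹⁆ ∈ center G := C.le_center he _ hK
    ((mem_charKer_iff hθ.isCharacter).2 (apply_commutator_eq C.hG hθ.isCharacter (by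
      rw [charDegree_eq_of_eq h]
      have := Nat.mul_le_mul_left e ht
      have := C.het
      omega) hxp (by rw [conj_pow, hxp]; simp)))
  set w := g * x * g⁻¹
  set c := ⁅x, w⁆ with hc
  have h3 : ∀ n : ℕ, x ^ n * w * (x ^ n)⁻¹ = c ^ n * w := fun n => by
    induction n with
    | zero => simp
    | succ n ih =>
      have h4 : x * w * x⁻¹ = c * w := by rw [hc, commutatorElement_def]; group
      have h5 := mem_center_iff.1 (pow_mem h2 n) x
      calc _ = x * (x ^ n * w * (x ^ n)⁻¹) * x⁻¹ := by rw [pow_succ']; group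
        _ = c ^ n * (x * w * x⁻¹) := by rw [ih, ← mul_assoc, h5]; group
        _ = _ := by rw [h4, pow_succ, mul_assoc]
  have h4 : c ^ p = 1 := by simpa [hxp] using (h3 p).symm
  have h5 : c = 1 := by
    by_contra h5
    exact C.not_dvd_cen0 h2 (orderOf_eq_prime h4 h5).symm.dvd
  exact (commutatorElement_eq_one_iff_commute.1 h5).symm

/-- `C = C(x) = ⟨x⟩ × Z` (`exists_mul_center`) has the linear character
`μ (x^i z) = l^i (ζ z / d)^2` (e.g. `μ = λ · ω²`, built from the projections; or avoid it: one of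
the characters `ζ · ζ(·^m)` (`SubP.exists_exp`-type Galois conjugates, `m ≡ 1` on `p'`-parts) is
not constant on `⟨x⟩ ∖ 1`).  The induced character takes the values `eta j` on `x^j`, which are
not constant as `t ≥ 2` (if `eta j = c` for all `p ∤ j` then `∑_j (eta j - c) l^(-g j) = 0` shows that
every residue `g ≠ 0` is a power of `a`); so an irreducible constituent `χ` is not constant on
`⟨x⟩ ∖ 1`, and `χ (z g) = (ζ z / d)^2 χ g`.  `Block.values_of_cyclic_ti` (see the start of the proof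
of `SubP.small_deg`) gives `|C| χ (x^j) = δ f ∑_{n ∈ N} lam (n x^j n⁻¹)` with `f = 1` (`C` abelian),
i.e. `χ (x^j) = δ eta (g j)` where `lam x = l^g`; twist by a Galois automorphism
(`g ↦ g^m`, `m g ≡ 1 [MOD p]`, `m ≡ 1` modulo the `p'`-part of `|G|`).  `fix`: clear for
`ε = -1`; if `ε = 1` and `θ 1 = e`, then `2 e + 1 < p` and `apply_commutator_eq` puts `[x, x^g]`
into `ker θ`, which does not contain `x` (`θ x = θ 1` would make `θ` constant on `⟨x⟩`), so is
central (`le_center`); then `[x, x^g]^p = 1`, `p ∤ |Z|`, and `normal_of_commute` contradicts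
`hn`. -/
theorem Cs.exists_th (C : Cs p x y a e t ζ d l) (he : 2 ≤ e) (ht : 3 ≤ t) :
    ∃ (θ : G → ℂ) (ε : ℤ), Th p x a e ζ d l θ ε := by
  classical
  have := Fintype.ofFinite G
  have hψ := C.irr.isCharacter.mul C.irr.isCharacter
  obtain ⟨i, j, hi, hj, hij⟩ : ∃ i j, ¬ p ∣ i ∧ ¬ p ∣ j ∧ (ζ * ζ) (x ^ i) ≠ (ζ * ζ) (x ^ j) := by
    obtain ⟨j, k, hj, hk, h1, h2, h3⟩ := C.toGs.exists_three C.prim ht
    have h0 := hp.out.not_dvd_one
    by_contra h
    push Not at h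
    have h4 := h j 1 hj h0
    have h5 := h k 1 hk h0
    simp only [Pi.mul_apply, C.val j hj, C.val k hk, C.val 1 h0, neg_mul_neg] at h4 h5
    exact h3 (((mul_self_eq_mul_self_iff.1 h5).resolve_left h2).trans
      ((mul_self_eq_mul_self_iff.1 h4).resolve_left h1).symm)
  obtain ⟨χ, hχ0, hχ⟩ : ∃ χ : IrrCharacter G, classInner (ζ * ζ) χ ≠ 0 ∧
      (χ : G → ℂ) (x ^ i) ≠ (χ : G → ℂ) (x ^ j) := by
    by_contra h
    push Not at h
    refine hij ?_
    rw [hψ.isClassFunction.apply_eq_sum_irr, hψ.isClassFunction.apply_eq_sum_irr (x ^ j)]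
    refine Finset.sum_congr rfl fun χ _ => ?_
    by_cases h1 : classInner (ζ * ζ) χ = 0
    · rw [h1, zero_mul, zero_mul]
    · rw [h χ h1]
  obtain ⟨χ, hirr⟩ := χ
  have hcen : ∀ z ∈ center G, cen χ z = (ζ z / d) ^ 2 := fun z hz => by
    have h1 := classInner_center_mul (ζ * ζ) hirr hz
    have h2 : (fun c => (ζ * ζ) (z * c)) = (ζ z / d) ^ 2 • (ζ * ζ) := funext fun c => by
      simp only [Pi.mul_apply, Pi.smul_apply, smul_eq_mul, apply_center_mul C.irr hz, cen, C.deg]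
      ring
    rw [h2, classInner_smul_left] at h1
    exact (mul_right_cancel₀ hχ0 h1).symm
  obtain ⟨δ, g, hδ, hg, hval⟩ := C.toGs.exists_val C.hC C.prim hirr hi hj hχ
  obtain ⟨m, hm1, hm2, hm3⟩ := exists_exp_inv C.hx C.hG hg
  have hm4 : ¬ p ∣ m := fun h => hp.out.not_dvd_one ((hm2.dvd_iff dvd_rfl).1 (h.mul_left g))
  have hv : ∀ k, ¬ p ∣ k → χ ((x ^ k) ^ m) = δ * eta l a e k := fun k hk => by
    rw [← pow_mul, hval _ fun h => (hp.out.dvd_mul.1 h).elim hk hm4]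
    congr 1
    refine eta_congr0 C.prim.pow_eq_one ?_
    rw [mul_left_comm]
    simpa using hm2.mul_left k
  refine ⟨fun u => χ (u ^ m), δ, hirr.comp_pow hm1, hδ, fun z hz k hk => ?_, ?_⟩
  · have h1 : Commute z (x ^ k) := (mem_center_iff.1 hz _).symm
    simp only [h1.mul_pow, hm3 z (C.not_dvd_cen0 hz), apply_center_mul hirr hz, hcen z hz,
      hv k hk]
    ring
  · rcases hδ with rfl | rfl
    · simpa using C.ne_e he ht (hirr.comp_pow hm1) fun k hk => by simpa using hv k hk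
    · obtain ⟨f, hf0, hf⟩ := hirr.exists_nat_one
      simp only [one_pow, hf]
      intro h
      have h1 : ((f + e : ℕ) : ℂ) = 0 := by push_cast at h ⊢; linear_combination h
      have h2 : f + e = 0 := by exact_mod_cast h1
      omega

/-- `θ g = ζ (g ^ m)` with `m = m 1` from `SubP.exists_exp` (`m ≡ 1 [MOD p]`, `z ^ m = z * z` for
central `z`, which have odd order prime to `p`); `ζ (z g) = (ζ z / d) ζ g`. -/
theorem Cs.exists_th_odd (C : Cs p x y a e t ζ d l) (hZ : Odd (Nat.card (center G))) :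
    ∃ θ : G → ℂ, Th p x a e ζ d l θ (-1) := by
  obtain ⟨m, h1, h2, -, h3, -⟩ := SubP.exists_exp (G := G) hp.out (by have := C.h3; omega) C.hG
    (C.hx ▸ _root_.orderOf_dvd_natCard x)
  refine ⟨fun u => ζ (u ^ m 1), C.irr.comp_pow (h1 1 hp.out.not_dvd_one), Or.inr rfl,
    fun z hz k hk => ?_, ?_⟩
  · have h4 : Commute z (x ^ k) := (mem_center_iff.1 hz _).symm
    have h5 : (x ^ k) ^ m 1 = x ^ k := by
      rw [← pow_mul, pow_eq_pow_iff_modEq, C.hx]
      simpa using (h2 1).mul_left k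
    simp only [h4.mul_pow, h5, h3 z (C.not_dvd_cen0 hz)
      (hZ.of_dvd_nat (orderOf_dvd_natCard _ hz)), mul_assoc, apply_center_mul C.irr hz,
      C.val k hk, cen, C.deg]
    push_cast
    ring
  · simp only [one_pow, C.deg]
    intro h
    have h4 : ((d + e : ℕ) : ℂ) = 0 := by push_cast at h ⊢; linear_combination h
    have h5 : d + e = 0 := by exact_mod_cast h4
    have := C.hd
    have := C.h3
    omega

end Cfsg.Agent.Blau
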