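import Cfsg.Agent.Blau.LstB
import Cfsg.Agent.Char.SubP2

/-! Sums of roots of unity, averages over `⟨x⟩`, and sums over the `p`-singular elements. -/

set_option autoImplicit false
set_option linter.unusedSectionVars false

namespace Cfsg.Agent.Blau

open Cfsg Finset Subgroup Cfsg.Agent.Char Cfsg.Agent.Char.ModSl2 Cfsg.Agent.Block
open scoped ComplexConjugate

variable {p : ℕ} [hp : Fact p.Prime] {G : Type*} [Group G] [Finite G] {x y : G} {a e t d : ℕ}
  {ζ θ χ : G → ℂ} {l : ℂ} {ε : ℤ}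

theorem sum_shift {M : Type*} [AddCommGroup M] (f : ℕ → M) (h : f e = f 0) :
    ∑ i ∈ range e, f (i + 1) = ∑ i ∈ range e, f i := by
  have := sum_range_succ f e
  rw [sum_range_succ', h] at this
  exact add_right_cancel this

theorem sum_range_eq {M : Type*} [AddCommMonoid M] (f : ℕ → M) :
    ∑ j ∈ range p, f j = f 0 + ∑ j ∈ Ico 1 p, f j := by
  rw [range_eq_Ico, sum_eq_sum_Ico_succ_bot hp.out.pos]

theorem not_dvd_of_Ico {j : ℕ} (hj : j ∈ Ico 1 p) : ¬ p ∣ j := fun h => by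
  have := mem_Ico.1 hj
  have := Nat.le_of_dvd (by omega) h
  omega

theorem l_pow_congr (hl : IsPrimitiveRoot l p) {u v : ℕ} (h : u ≡ v [MOD p]) : l ^ u = l ^ v := by
  rw [pow_eq_pow_mod u hl.pow_eq_one, pow_eq_pow_mod v hl.pow_eq_one, h]

theorem sum_l (hl : IsPrimitiveRoot l p) (u : ℕ) :
    ∑ j ∈ Ico 1 p, l ^ (u * j) = (if p ∣ u then (p : ℂ) else 0) - 1 := by
  have h := sum_range_eq (p := p) fun j => l ^ (u * j)
  rw [mul_zero, pow_zero] at h
  rw [eq_sub_iff_add_eq', ← h]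
  simp only [pow_mul]
  split_ifs with k
  · simp [(hl.pow_eq_one_iff_dvd u).2 k]
  · exact (hl.pow_of_coprime u ((Nat.Prime.coprime_iff_not_dvd hp.out).2 k).symm).geom_sum_eq_zero hp.out.one_lt

theorem orth_l (hl : IsPrimitiveRoot l p) (u v : ℕ) :
    ∑ j ∈ Ico 1 p, l ^ (u * j) * conj (l ^ (v * j)) = (if u ≡ v [MOD p] then (p : ℂ) else 0) - 1 := by
  have h1 : conj l = l ^ (p - 1) := by
    rw [conj_eq_inv_of_pow_eq_one' hp.out.ne_zero hl.pow_eq_one]
    exact inv_eq_of_mul_eq_one_right (by rw [← pow_succ', Nat.sub_add_cancel hp.out.pos, hl.pow_eq_one])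
  have h2 : p ∣ u + (p - 1) * v ↔ u ≡ v [MOD p] := by
    rw [← ZMod.natCast_eq_zero_iff, ← ZMod.natCast_eq_natCast_iff]
    push_cast [Nat.cast_pred hp.out.pos]
    rw [ZMod.natCast_self, ← sub_eq_zero (a := (u : ZMod p))]
    ring_nf
  simp only [← h2]
  rw [← sum_l hl]
  refine sum_congr rfl fun j _ => ?_
  rw [map_pow, h1, ← pow_mul, ← pow_add]
  congr 1
  ring

theorem eta_congr (hl : IsPrimitiveRoot l p) {u v : ℕ} (h : u ≡ v [MOD p]) : eta l a e u = eta l a e v :=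
  sum_congr rfl fun _ _ => l_pow_congr hl (h.mul_left _)

theorem Gs.sum_eta (S : Gs p x y a e t) (hl : IsPrimitiveRoot l p) {g : ℕ} (hg : ¬ p ∣ g) :
    ∑ j ∈ Ico 1 p, eta l a e (g * j) = -e := by
  simp only [eta, ← mul_assoc]
  rw [sum_comm, sum_congr rfl fun i _ => sum_l hl _, sum_congr rfl fun i _ => by
    rw [if_neg fun h => (hp.out.dvd_mul.1 h).elim (fun k => S.not_dvd_a (hp.out.dvd_of_dvd_pow k)) hg]]
  simp

theorem sum_eta_conj (hl : IsPrimitiveRoot l p) (g u : ℕ) :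
    ∑ j ∈ Ico 1 p, eta l a e (g * j) * conj (l ^ (u * j)) =
      ∑ i ∈ range e, ((if a ^ i * g ≡ u [MOD p] then (p : ℂ) else 0) - 1) := by
  simp only [eta, ← mul_assoc, sum_mul]
  rw [sum_comm]
  exact sum_congr rfl fun i _ => orth_l hl _ _

theorem sum_sq_conj (hl : IsPrimitiveRoot l p) (u : ℕ) :
    ∑ j ∈ Ico 1 p, eta l a e j ^ 2 * conj (l ^ (u * j)) =
      ∑ i ∈ range e, ∑ i' ∈ range e, ((if a ^ i + a ^ i' ≡ u [MOD p] then (p : ℂ) else 0) - 1) := by
  simp only [eta, sq, sum_mul_sum, ← pow_add, ← add_mul]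
  simp only [sum_mul]
  rw [sum_comm]
  refine sum_congr rfl fun i _ => ?_
  rw [sum_comm]
  exact sum_congr rfl fun i' _ => orth_l hl _ _

theorem Gs.n_zero (S : Gs p x y a e t) (i : ℕ) :
    ((range e).filter fun i' => p ∣ a ^ i + a ^ i').card = if Even e then 1 else 0 := by
  have h0 : ∀ i', p ∣ a ^ i + a ^ i' ↔ (a : ZMod p) ^ i' = -(a : ZMod p) ^ i := fun i' => by
    rw [← ZMod.natCast_eq_zero_iff, eq_neg_iff_add_eq_zero, add_comm]
    push_cast
    rfl
  have he := S.e_pos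
  have h1 : (a : ZMod p) ^ e = 1 := S.ha ▸ pow_orderOf_eq_one _
  simp only [h0]
  split_ifs with k
  · obtain ⟨h, rfl⟩ := k
    have h2 : (a : ZMod p) ^ h = -1 := (mul_self_eq_one_iff.1 (by rw [← pow_add, h1])).resolve_left
      (pow_ne_one_of_lt_orderOf (by omega) (by rw [S.ha]; omega))
    rw [card_eq_one]
    refine ⟨(i + h) % (h + h), Finset.ext fun i' => ?_⟩
    rw [mem_filter, mem_range, mem_singleton, ← mul_neg_one, ← h2, ← pow_add, S.a_pow_eq_iff]
    exact ⟨fun k => (Nat.mod_eq_of_lt k.1).symm.trans k.2, fun k => k ▸ ⟨Nat.mod_lt _ he, Nat.mod_modEq _ _⟩⟩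
  · rw [card_eq_zero, filter_eq_empty_iff]
    intro i' _ h
    have h2 := congrArg (· ^ e) h
    simp only [(Nat.not_even_iff_odd.1 k).neg_pow, ← pow_mul, mul_comm _ e] at h2
    simp only [pow_mul, h1, one_pow] at h2
    have h3 : ((2 : ℕ) : ZMod p) = 0 := by push_cast; linear_combination h2
    have := Nat.le_of_dvd two_pos ((ZMod.natCast_eq_zero_iff _ _).1 h3)
    have := S.h3
    omega

theorem irr_center (h : IsIrrCharacter G χ) {z : G} (hz : z ∈ center G) :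
    ‖χ z / χ 1‖ = 1 ∧ ∀ g, χ (z * g) = χ z / χ 1 * χ g := by
  obtain ⟨ω, h1, h2⟩ := (isCharacter_norm_eq_iff h.isCharacter z).1 (norm_eq_of_mem_center h hz)
  have : χ z / χ 1 = ω := by rw [← mul_one z, h2, mul_div_cancel_right₀ _ h.one_ne_zero]
  rw [this]
  exact ⟨h1, h2⟩

/-- the average over `⟨x⟩` -/
noncomputable def avg (p : ℕ) {G : Type*} [Group G] (x : G) (χ : G → ℂ) (g : G) : ℂ :=
  (p : ℂ)⁻¹ * ∑ j ∈ range p, χ (g * x ^ j)

theorem sum_range_zpowers {M : Type*} [AddCommMonoid M] [Fintype (zpowers x)] (hx : orderOf x = p) (f : G → M) :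
    ∑ j ∈ range p, f (x ^ j) = ∑ u : zpowers x, f u := by
  rw [← hx, ← Fin.sum_univ_eq_sum_range (fun j => f (x ^ j)),
    ← (finEquivZPowers (isOfFinOrder_of_finite x)).sum_comp]
  simp only [finEquivZPowers_apply]

theorem isCharacter_avg (hx : orderOf x = p) (h : IsCharacter G χ) {H : Subgroup G}
    (hH : H ≤ normalizer (zpowers x : Set G)) : IsCharacter H fun g => avg p x χ g := by
  classical
  obtain ⟨n, ρ, rfl⟩ := h
  have := Fintype.ofFinite (zpowers x)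
  have hc : (p : ℂ) ≠ 0 := Nat.cast_ne_zero.2 hp.out.ne_zero
  have := isCharacter_trace_mul_of_idempotent (ρ.comp H.subtype) ((p : ℂ)⁻¹ • ∑ u : zpowers x, ρ u) (by
    have : ∀ u : zpowers x, ρ u * ∑ v : zpowers x, ρ v = ∑ v : zpowers x, ρ v := fun u => by
      rw [mul_sum, ← Equiv.sum_comp (Equiv.mulLeft u) fun v : zpowers x => ρ v]
      simp
    rw [smul_mul_smul_comm, sum_mul, sum_congr rfl fun u _ => this u, sum_const, card_univ, ← Nat.card_eq_fintype_card,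
      Nat.card_zpowers, hx, ← Nat.cast_smul_eq_nsmul ℂ, smul_smul, inv_mul_cancel_right₀ hc]) (fun g => by
    rw [smul_mul_assoc, mul_smul_comm, sum_mul, mul_sum,
      ← ((zpowers x).normalizerMonoidHom ⟨g, hH g.2⟩).toEquiv.sum_comp]
    refine congrArg _ (sum_congr rfl fun u _ => ?_)
    change ρ (g * u * (g : G)⁻¹) * ρ g = ρ g * ρ u
    rw [← map_mul, ← map_mul, inv_mul_cancel_right])
  convert this using 2 with g
  rw [avg, sum_range_zpowers hx fun u => ρ.character (g * u), mul_smul_comm, map_smul, smul_eq_mul, mul_sum _ _ (_ : Module.End ℂ _),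
    map_sum]
  simp [Representation.character]

theorem avg_of_not_commute (hx : orderOf x = p) (h : IsClassFunction G χ) {g : G}
    (hn : g ∈ normalizer (zpowers x : Set G)) (hc : ¬ Commute g x) : avg p x χ g = χ g := by
  have h1 : g⁻¹ * x * g ∈ zpowers x := by
    simpa using (mem_normalizer_iff.1 (inv_mem hn) x).1 (mem_zpowers x)
  have h2 : Commute (g⁻¹ * x * g) x⁻¹ := by
    obtain ⟨k, hk⟩ := h1
    rw [← hk]
    exact ((Commute.refl x).zpow_left k).inv_right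
  obtain ⟨n, hn⟩ := mem_powers_iff_mem_zpowers.2 (mul_mem h1 (inv_mem (mem_zpowers x)))
  have hn' : x ^ n = g⁻¹ * x * g * x⁻¹ := hn
  have h3 : ¬ p ∣ n := fun k => hc (by
    rw [orderOf_dvd_iff_pow_eq_one.1 (hx ▸ k), eq_comm, mul_inv_eq_one, mul_assoc, inv_mul_eq_iff_eq_mul] at hn'
    exact hn'.symm)
  obtain ⟨m, hm⟩ := exists_pow_eq_self_of_coprime (x := x) (n := n)
    (hx ▸ ((Nat.Prime.coprime_iff_not_dvd hp.out).2 h3).symm)
  have h4 : ∀ j, χ (g * x ^ j) = χ g := fun j => by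
    rw [← h g (x ^ (m * j))]
    congr 1
    conv_lhs => rw [← hm, hn', ← pow_mul, h2.mul_pow, show g⁻¹ * x * g = g⁻¹ * x * g⁻¹⁻¹ by rw [inv_inv], conj_pow]
    rw [inv_pow]
    group
  simp only [avg, h4, sum_const, card_range, nsmul_eq_mul]
  rw [inv_mul_cancel_left₀ (Nat.cast_ne_zero.2 hp.out.ne_zero)]

theorem avg_center (h : IsIrrCharacter G χ) {z : G} (hz : z ∈ center G) :
    avg p x χ z = χ z / χ 1 * avg p x χ 1 := by
  simp only [avg, (irr_center h hz).2, one_mul, ← mul_sum]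
  ring

theorem Gs.commute_pow (S : Gs p x y a e t) {i : ℕ} : Commute (y ^ i) x ↔ e ∣ i := by
  rw [← Nat.modEq_zero_iff_dvd, ← S.a_pow_eq_iff (k := ZMod p), Commute, SemiconjBy, ← mul_inv_eq_iff_eq_mul,
    S.pow_conj, pow_zero, ← Nat.cast_pow, ← Nat.cast_one, ZMod.natCast_eq_natCast_iff, ← S.hx,
    ← pow_eq_pow_iff_modEq, pow_one]

namespace Cs

variable (C : Cs p x y a e t ζ d l)
include C

theorem d_ne : (d : ℂ) ≠ 0 := C.deg ▸ C.irr.one_ne_zero

theorem dvd_of_center {j : ℕ} (h : x ^ j ∈ center G) : p ∣ j := by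
  by_contra k
  obtain ⟨m, hm⟩ := exists_pow_eq_self_of_coprime (x := x) (n := j)
    (C.hx ▸ ((Nat.Prime.coprime_iff_not_dvd hp.out).2 k).symm)
  exact C.hn (normal_of_commute C.hx C.hG fun g => mem_center_iff.1 (hm ▸ pow_mem h m) _)

theorem not_dvd_center {z : G} (hz : z ∈ center G) : ¬ p ∣ orderOf z := fun h => by
  have h1 := orderOf_pow_orderOf_div (orderOf_pos z).ne' h
  have h2 := pow_mem hz (orderOf z / p)
  obtain ⟨g, hg⟩ := exists_conj_mem_zpowers C.hx C.hG h1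
  rw [mem_center_iff.1 h2 g, mul_inv_cancel_right] at hg
  obtain ⟨j, hj⟩ := mem_powers_iff_mem_zpowers.2 hg
  have hj' : x ^ j = _ := hj
  rw [← hj', orderOf_dvd_iff_pow_eq_one.1 (C.hx ▸ C.dvd_of_center (hj' ▸ h2)), orderOf_one] at h1
  exact hp.out.one_lt.ne h1

theorem eq_one_of_center {z : G} (hz : z ∈ center G) (h : z ^ p = 1) : z = 1 :=
  orderOf_eq_one_iff.1 (((Nat.dvd_prime hp.out).1 (orderOf_dvd_of_pow_eq_one h)).resolve_right
    fun k => C.not_dvd_center hz (k ▸ dvd_rfl))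

theorem eq_of_conj {z z' g : G} (hz : z ∈ center G) (hz' : z' ∈ center G) {j j' : ℕ}
    (h : g * (z * x ^ j) * g⁻¹ = z' * x ^ j') : z = z' ∧ g * x ^ j * g⁻¹ = x ^ j' := by
  have h1 : g * x ^ j * g⁻¹ = z⁻¹ * z' * x ^ j' := by
    rw [mul_assoc z⁻¹, ← h, ← mul_assoc g z, mem_center_iff.1 hz g]
    group
  have h2 := mul_mem (inv_mem hz) hz'
  have h3 := congrArg (· ^ p) h1
  have hx : x ^ p = 1 := C.hx ▸ pow_orderOf_eq_one x
  simp only [conj_pow, (show Commute (z⁻¹ * z') (x ^ j') from (mem_center_iff.1 h2 _).symm).mul_pow,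
    ← pow_mul, mul_comm _ p] at h3
  simp only [pow_mul, hx, one_pow, mul_one, mul_inv_cancel] at h3
  have h4 := C.eq_one_of_center h2 h3.symm
  rw [h4, one_mul] at h1
  exact ⟨inv_mul_eq_one.1 h4, h1⟩

theorem card_N [Fintype G] [DecidablePred fun g : G => g * x * g⁻¹ ∈ zpowers x] :
    (univ.filter fun g : G => g * x * g⁻¹ ∈ zpowers x).card = e * p * Nat.card (center G) := by
  classical
  symm
  rw [Nat.card_eq_fintype_card, ← card_univ, ← card_range e, ← card_range p, ← card_product, ← card_product]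
  have cj : ∀ (i k : ℕ) (z : center G), y ^ i * (x ^ k * z) * x * (y ^ i * (x ^ k * z))⁻¹ = x ^ a ^ i := fun i k z => by
    rw [← C.toGs.pow_conj, mul_assoc (y ^ i), mul_assoc (x ^ k), ← mem_center_iff.1 z.2 x, ← mul_assoc (x ^ k),
      ← pow_succ, pow_succ']
    group
  refine card_nbij (fun q => y ^ q.1.1 * (x ^ q.1.2 * q.2)) (fun q _ => ?_) ?_ fun g hg => ?_
  · exact mem_coe.2 (mem_filter.2 ⟨mem_univ _, (cj _ _ _).symm ▸ pow_mem (mem_zpowers x) _⟩)
  · rintro ⟨⟨i, k⟩, z⟩ h1 ⟨⟨i', k'⟩, z'⟩ h2 h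
    simp only [coe_product, coe_range, Set.mem_prod, Set.mem_Iio] at h1 h2
    have h3 := cj i k z
    rw [show y ^ i * (x ^ k * z) = _ from h, cj, pow_eq_pow_iff_modEq, C.hx, ← ZMod.natCast_eq_natCast_iff,
      Nat.cast_pow, Nat.cast_pow, C.toGs.a_pow_eq_iff] at h3
    obtain rfl : i' = i := Nat.ModEq.eq_of_lt_of_lt h3 h2.1.1 h1.1.1
    have h4 := C.eq_of_conj (g := 1) z.2 z'.2 (j := k) (j' := k') (by
      rw [one_mul, inv_one, mul_one, ← mem_center_iff.1 z.2, ← mem_center_iff.1 z'.2]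
      exact mul_left_cancel h)
    rw [one_mul, inv_one, mul_one, pow_eq_pow_iff_modEq, C.hx] at h4
    rw [Subtype.ext h4.1, Nat.ModEq.eq_of_lt_of_lt h4.2 h1.1.2 h2.1.2]
  · obtain ⟨j, hj⟩ := C.hN g (by simpa using hg)
    obtain ⟨i, z, hz, h⟩ := C.toGs.exists_mul_center C.hC
      ((C.toGs.commute_pow.2 (dvd_mul_right e (j / e))).mul_left hj)
    refine ⟨⟨⟨j % e, i % p⟩, ⟨z, hz⟩⟩, by simp [Nat.mod_lt _ C.toGs.e_pos, Nat.mod_lt _ hp.out.pos], ?_⟩
    conv_lhs => simp only [← C.hx, pow_mod_orderOf, ← h]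
    rw [← mul_assoc, ← pow_add, Nat.mod_add_div, mul_inv_cancel_left]

theorem sum_sing [Fintype G] [Fintype (center G)] {F : G → ℂ} (hF : IsClassFunction G F)
    (h0 : ∀ h, ¬ p ∣ orderOf h → F h = 0) :
    (e * p * Nat.card (center G) : ℂ) * ∑ h, F h =
      Nat.card G * ∑ z : center G, ∑ j ∈ Ico 1 p, F (z * x ^ j) := by
  classical
  let S : Finset G := (univ ×ˢ Ico 1 p).image fun q : center G × ℕ => q.1 * x ^ q.2
  have h1 : ∑ z : center G, ∑ j ∈ Ico 1 p, F (z * x ^ j) = ∑ c ∈ S, F c := by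
    rw [sum_image, sum_product]
    rintro ⟨z, j⟩ h1 ⟨z', j'⟩ h2 h
    simp only [coe_product, coe_Ico, Set.mem_prod, Set.mem_Ico] at h1 h2
    have h4 := C.eq_of_conj (g := 1) z.2 z'.2 (j := j) (j' := j') (by simpa using h)
    rw [one_mul, inv_one, mul_one, pow_eq_pow_iff_modEq, C.hx] at h4
    rw [Subtype.ext h4.1, Nat.ModEq.eq_of_lt_of_lt h4.2 h1.2.2 h2.2.2]
  have h2 : ∀ g : G, ∑ c ∈ S, F c = ∑ h, if g * h * g⁻¹ ∈ S then F h else 0 := fun g => by
    rw [← Fintype.sum_ite_mem, ← (MulAut.conj g).toEquiv.sum_comp]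
    exact sum_congr rfl fun h _ => if_congr Iff.rfl (hF h g) rfl
  rw [h1, Nat.card_eq_fintype_card (α := G), ← nsmul_eq_mul (Fintype.card G), ← card_univ, ← sum_const, sum_congr rfl fun g _ => h2 g,
    sum_comm, mul_sum]
  refine sum_congr rfl fun h _ => ?_
  rw [← sum_filter, sum_const, nsmul_eq_mul]
  by_cases k : p ∣ orderOf h
  · obtain ⟨i, z, b, hi, hz, -, hb⟩ := SubP.exists_conj_of_dvd C.hx C.hG
      (fun w hw => C.hC w (hw x (mem_zpowers x)).symm) k
    congr 1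
    rw [← Nat.cast_mul, ← Nat.cast_mul, ← C.card_N, Nat.cast_inj]
    refine card_equiv (Equiv.mulRight b) fun g => ?_
    simp only [mem_filter, mem_univ, true_and, Equiv.coe_mulRight]
    rw [show g * b * h * (g * b)⁻¹ = g * (z * x ^ i) * g⁻¹ by rw [← hb]; group]
    simp only [S, Finset.mem_image, mem_product, mem_univ, true_and]
    constructor
    · intro hg
      obtain ⟨n, hn⟩ := mem_powers_iff_mem_zpowers.2 (pow_mem hg i)
      have hn' : x ^ n = g * x ^ i * g⁻¹ := by rw [← conj_pow]; exact hn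
      refine ⟨⟨⟨z, hz⟩, n % p⟩, mem_Ico.2 ⟨Nat.pos_of_ne_zero fun k => hi ?_, Nat.mod_lt _ hp.out.pos⟩, ?_⟩
      · rw [orderOf_dvd_iff_pow_eq_one.1 (C.hx ▸ Nat.dvd_of_mod_eq_zero k), eq_comm, conj_eq_one_iff] at hn'
        exact C.hx ▸ orderOf_dvd_of_pow_eq_one hn'
      · conv_lhs => simp only [← C.hx, pow_mod_orderOf, hn']
        rw [← mul_assoc g z, mem_center_iff.1 hz g]
        group
    · rintro ⟨⟨z', j⟩, -, hq⟩
      obtain ⟨m, hm⟩ := exists_pow_eq_self_of_coprime (x := x) (n := i)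
        (C.hx ▸ ((Nat.Prime.coprime_iff_not_dvd hp.out).2 hi).symm)
      conv => enter [2, 1, 2]; rw [← hm]
      rw [← conj_pow, (C.eq_of_conj hz z'.2 hq.symm).2]
      exact pow_mem (pow_mem (mem_zpowers x) _) _
  · rw [h0 h k, mul_zero, mul_zero]

end Cs

end Cfsg.Agent.Blau
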