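import Cfsg.Agent.Blau.LstB
import Cfsg.Agent.Char.SubP2
import Cfsg.Agent.Blau.ChA

/-! Multiplicities of the exceptional characters in the symmetric and alternating squares. -/

set_option autoImplicit false
set_option linter.unusedSectionVars false

namespace Cfsg.Agent.Blau

open Cfsg Finset Subgroup Cfsg.Agent.Char Cfsg.Agent.Char.ModSl2 Cfsg.Agent.Block
open scoped MonoidAlgebra MatrixGroups ComplexConjugate

variable {p : ℕ} [hp : Fact p.Prime] {G : Type*} [Group G] [Finite G] {x y : G} {a e t d : ℕ}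
  {ζ θ : G → ℂ} {l : ℂ} {ε : ℤ}

/-- `n₂ g + s n₁ g`: ordered pairs `(i, i')` with `a^i + a^i' ≡ g`, and `s` times the number of
`i` with `2 a^i ≡ g`. -/
def cyc (p a e : ℕ) (s : ℤ) (g : ℕ) : ℤ :=
  (((range e ×ˢ range e).filter fun q => a ^ q.1 + a ^ q.2 ≡ g [MOD p]).card : ℤ) +
    s * (((range e).filter fun i => 2 * a ^ i ≡ g [MOD p]).card : ℤ)

theorem cyc_eq (s : ℤ) (g : ℕ) : cyc p a e s g =
    (∑ i ∈ range e, ∑ i' ∈ range e, if a ^ i + a ^ i' ≡ g [MOD p] then 1 else 0) +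
      s * ∑ i ∈ range e, if 2 * a ^ i ≡ g [MOD p] then 1 else 0 := by
  simp only [cyc, card_filter, sum_product]
  push_cast
  rfl

/-- swap the two coordinates: the non-diagonal pairs are even in number -/
theorem cyc_even_nonneg {s : ℤ} (hs : s = 1 ∨ s = -1) (g : ℕ) :
    Even (cyc p a e s g) ∧ 0 ≤ cyc p a e s g := by
  rw [cyc_eq]
  induction e with
  | zero => simp
  | succ e ih =>
    have h1 : ∑ i ∈ range e, (if a ^ e + a ^ i ≡ g [MOD p] then (1 : ℤ) else 0) =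
        ∑ i ∈ range e, if a ^ i + a ^ e ≡ g [MOD p] then 1 else 0 := by simp only [add_comm]
    have h2 : 0 ≤ ∑ i ∈ range e, (if a ^ i + a ^ e ≡ g [MOD p] then (1 : ℤ) else 0) :=
      sum_nonneg fun i _ => by split_ifs <;> norm_num
    simp only [sum_range_succ, sum_add_distrib, h1, ← two_mul, mul_add]
    obtain ⟨⟨r, hr⟩, h3⟩ := ih
    generalize ∑ i ∈ range e, (if a ^ i + a ^ e ≡ g [MOD p] then (1 : ℤ) else 0) = u at *
    rw [Int.even_iff]
    rcases hs with rfl | rfl <;> split_ifs <;> omega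

theorem two_le_cyc (he : 0 < e) : 2 ≤ cyc p a e 1 2 := by
  have h1 : 0 < ((range e ×ˢ range e).filter fun q => a ^ q.1 + a ^ q.2 ≡ 2 [MOD p]).card :=
    card_pos.2 ⟨(0, 0), mem_filter.2 ⟨by simp [he], rfl⟩⟩
  have h2 : 0 < ((range e).filter fun i => 2 * a ^ i ≡ 2 [MOD p]).card :=
    card_pos.2 ⟨0, mem_filter.2 ⟨by simp [he], rfl⟩⟩
  unfold cyc
  omega

theorem sum_Ico_modEq (u : ℕ) :
    ∑ g ∈ Ico 1 p, (if u ≡ g [MOD p] then (1 : ℤ) else 0) = 1 - if p ∣ u then 1 else 0 := by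
  have h := sum_range_eq (p := p) fun g => if u ≡ g [MOD p] then (1 : ℤ) else 0
  rw [sum_eq_single_of_mem (u % p) (mem_range.2 (Nat.mod_lt _ hp.out.pos)) fun b hb k =>
    if_neg fun c => k ((Nat.mod_eq_of_lt (mem_range.1 hb)).symm.trans c.symm), if_pos (Nat.mod_modEq u p).symm] at h
  simp only [Nat.modEq_zero_iff_dvd] at h
  rw [eq_sub_iff_add_eq', ← h]

/-- `a^i + a^i' ≡ 0` iff `e` is even and `i' ≡ i + e/2 [MOD e]` (`Gs.a_pow_eq_iff` with
`k = ZMod p`); `2 a^i ≢ 0`. -/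
theorem Gs.sum_cyc (S : Gs p x y a e t) (s : ℤ) :
    ∑ g ∈ Ico 1 p, cyc p a e s g = e * (e + s - if Even e then 1 else 0) := by
  have h1 : ∀ i, ∑ i' ∈ range e, ((1 : ℤ) - if p ∣ a ^ i + a ^ i' then 1 else 0) = e - if Even e then 1 else 0 :=
    fun i => by
      have := S.n_zero i
      rw [card_filter] at this
      rw [sum_sub_distrib, sum_const, card_range, nsmul_one]
      exact congrArg _ (by exact_mod_cast this)
  have h2 : ∀ i, ¬ p ∣ 2 * a ^ i := fun i h => (hp.out.dvd_mul.1 h).elim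
    (fun k => by have := Nat.le_of_dvd two_pos k; have := S.h3; omega) fun k => S.not_dvd_a (hp.out.dvd_of_dvd_pow k)
  simp only [cyc_eq, sum_add_distrib, ← mul_sum]
  rw [sum_comm, sum_congr rfl fun i _ => sum_comm, sum_comm (s := Ico 1 p)]
  simp only [sum_Ico_modEq, h1, h2, if_false, sum_const, card_range, nsmul_eq_mul]
  ring

theorem Gs.cyc_mul (S : Gs p x y a e t) (s : ℤ) (g : ℕ) : cyc p a e s (a * g) = cyc p a e s g := by
  have h0 : a ^ e ≡ a ^ 0 [MOD p] := by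
    rw [← ZMod.natCast_eq_natCast_iff, Nat.cast_pow, Nat.cast_pow, S.a_pow_eq_iff]
    exact Nat.modEq_zero_iff_dvd.2 dvd_rfl
  have h1 : ∀ {u v w : ℕ}, u ≡ v [MOD p] → (if u ≡ w [MOD p] then (1 : ℤ) else 0) = if v ≡ w [MOD p] then 1 else 0 :=
    fun h => if_congr ⟨h.symm.trans, h.trans⟩ rfl rfl
  have h2 : ∀ u : ℕ, a * u ≡ a * g [MOD p] ↔ u ≡ g [MOD p] := fun u =>
    ⟨Nat.ModEq.cancel_left_of_coprime ((Nat.Prime.coprime_iff_not_dvd hp.out).2 S.not_dvd_a), Nat.ModEq.mul_left a⟩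
  rw [cyc_eq, cyc_eq, ← sum_shift _ (sum_congr rfl fun i _ => h1 (h0.add_right _)),
    ← sum_shift (fun i => if 2 * a ^ i ≡ a * g [MOD p] then (1 : ℤ) else 0) (h1 (h0.mul_left 2)),
    sum_congr rfl fun i _ => (sum_shift _ (h1 (h0.add_left _))).symm]
  simp only [pow_succ', ← mul_add, mul_left_comm 2 a, h2]

theorem Gs.cyc_pow (S : Gs p x y a e t) (s : ℤ) (g k : ℕ) : cyc p a e s (a ^ k * g) = cyc p a e s g := by
  induction k with
  | zero => rw [pow_zero, one_mul]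
  | succ k ih => rw [pow_succ', mul_assoc, S.cyc_mul, ih]

theorem Gs.sum_W (S : Gs p x y a e t) (hl : IsPrimitiveRoot l p) (s : ℤ) (g : ℕ) :
    ∑ j ∈ Ico 1 p, (eta l a e j ^ 2 + s * eta l a e (2 * j)) * conj (eta l a e (g * j)) =
      e * (p * cyc p a e s g - e ^ 2 - s * e) := by
  have h1 : ∀ u, ∑ j ∈ Ico 1 p, (eta l a e j ^ 2 + s * eta l a e (2 * j)) * conj (l ^ (u * j)) =
      p * cyc p a e s u - e ^ 2 - s * e := fun u => by
    simp only [add_mul, sum_add_distrib, mul_assoc (s : ℂ), ← mul_sum, sum_sq_conj hl, sum_eta_conj hl, cyc_eq]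
    push_cast
    simp only [sum_sub_distrib, sum_const, card_range, nsmul_eq_mul, mul_add, mul_sum,
      mul_ite, mul_one, mul_zero, mul_comm _ 2, mul_sub]
    ring_nf
  conv_lhs => enter [2, j, 2]; rw [eta, map_sum]
  simp only [mul_sum, ← mul_assoc]
  rw [sum_comm]
  simp only [h1, S.cyc_pow, sum_const, card_range, nsmul_eq_mul]

theorem exists_exp_one (hG : ¬ p ^ 2 ∣ Nat.card G) (hd : p ∣ Nat.card G) :
    ∃ m : ℕ → ℕ, (∀ j, ¬ p ∣ j → (m j).Coprime (Nat.card G)) ∧ (∀ j, m j ≡ j [MOD p]) ∧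
      (∀ j (g : G), ¬ p ∣ orderOf g → g ^ m j = g) ∧ ∀ g : G, g ^ m 1 = g := by
  obtain ⟨n, hn⟩ := hd
  have h2 : p.Coprime n := (Nat.Prime.coprime_iff_not_dvd hp.out).2 fun h =>
    hG (by rw [hn, pow_two]; exact Nat.mul_dvd_mul_left p h)
  refine ⟨fun j => Nat.chineseRemainder h2 j 1, fun j hj => ?_, fun j => (Nat.chineseRemainder h2 j 1).2.1,
    fun j g hg => ?_, fun g => ?_⟩
  · rw [hn]
    refine Nat.Coprime.mul_right ?_ ?_
    · rw [Nat.Coprime, (Nat.chineseRemainder h2 j 1).2.1.gcd_eq]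
      exact ((Nat.Prime.coprime_iff_not_dvd hp.out).2 hj).symm
    · rw [Nat.Coprime, (Nat.chineseRemainder h2 j 1).2.2.gcd_eq, Nat.gcd_one_left]
  · conv_rhs => rw [← pow_one g]
    exact pow_eq_pow_iff_modEq.2 ((Nat.chineseRemainder h2 j 1).2.2.of_dvd
      (((Nat.Prime.coprime_iff_not_dvd hp.out).2 hg).symm.dvd_of_dvd_mul_left (hn ▸ orderOf_dvd_natCard g)))
  · conv_rhs => rw [← pow_one g]
    exact pow_eq_pow_iff_modEq.2 (((Nat.modEq_and_modEq_iff_modEq_mul h2).1 (Nat.chineseRemainder h2 1 1).2).of_dvd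
      (hn ▸ orderOf_dvd_natCard g))

theorem Cs.inner_sub [Fintype G] (C : Cs p x y a e t ζ d l) {A φ φ' : G → ℂ} {s : ℤ} {g g' : ℕ}
    (hA : IsClassFunction G A) (hφ : IsClassFunction G φ) (hφ' : IsClassFunction G φ')
    (h0 : ∀ h, ¬ p ∣ orderOf h → φ h = φ' h)
    (vA : ∀ z ∈ center G, ∀ j, ¬ p ∣ j →
      2 * A (z * x ^ j) = (ζ z / d) ^ 2 * (eta l a e j ^ 2 + s * eta l a e (2 * j)))
    (v : ∀ z ∈ center G, ∀ j, ¬ p ∣ j → φ (z * x ^ j) = ε * (ζ z / d) ^ 2 * eta l a e (g * j))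
    (v' : ∀ z ∈ center G, ∀ j, ¬ p ∣ j → φ' (z * x ^ j) = ε * (ζ z / d) ^ 2 * eta l a e (g' * j)) :
    2 * (classInner A φ - classInner A φ') = ε * (cyc p a e s g - cyc p a e s g' : ℤ) := by
  have := Fintype.ofFinite (center G)
  have h1 := C.sum_sing (F := fun h => 2 * A h * (conj (φ h) - conj (φ' h)))
    (fun h k => by simp only [hA h k, hφ h k, hφ' h k]) fun h k => by simp only [h0 h k, sub_self, mul_zero]
  have h2 : ∀ z : center G, ∑ j ∈ Ico 1 p, 2 * A (z * x ^ j) * (conj (φ (z * x ^ j)) - conj (φ' (z * x ^ j))) =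
      ε * (e * (p * cyc p a e s g - e ^ 2 - s * e) - e * (p * cyc p a e s g' - e ^ 2 - s * e)) := fun z => by
    rw [← C.toGs.sum_W C.prim, ← C.toGs.sum_W C.prim, ← sum_sub_distrib, mul_sum]
    refine sum_congr rfl fun j hj => ?_
    have h3 : ζ z / d * conj (ζ z / d) = 1 := by
      rw [Complex.mul_conj', ← C.deg, (irr_center C.irr z.2).1]; simp
    rw [vA z z.2 j (not_dvd_of_Ico hj), v z z.2 j (not_dvd_of_Ico hj), v' z z.2 j (not_dvd_of_Ico hj)]
    generalize ζ z / d = ω at *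
    simp only [map_mul, map_pow, map_intCast]
    linear_combination (ε * (eta l a e j ^ 2 + s * eta l a e (2 * j)) *
      (conj (eta l a e (g * j)) - conj (eta l a e (g' * j))) * (ω * conj ω + 1)) * h3
  simp only [h2, sum_const, card_univ, nsmul_eq_mul, ← Nat.card_eq_fintype_card] at h1
  simp only [mul_sub, sum_sub_distrib, mul_assoc (2 : ℂ), ← mul_sum, sum_mul_conj_eq] at h1
  have h3 : (e * p * Nat.card (center G) * Nat.card G : ℂ) ≠ 0 := by
    have := C.toGs.e_pos.ne'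
    have := hp.out.ne_zero
    have := (Nat.card_pos (α := G)).ne'
    have := (Nat.card_pos (α := center G)).ne'
    positivity
  refine mul_left_cancel₀ h3 ?_
  push_cast
  linear_combination h1

/-- `θ' g = θ (· ^ m g)`, `m g ≡ g [MOD p]`, `m g ≡ 1` modulo the `p'`-part of `|G|` (Galois
conjugates, cf. `SubP.Hyp.irr'`), so `θ' g (z x^j) = ε (ζ z / d)^2 eta (g j)`.  With
`∑_{j<p} l^(u j) = p [p ∣ u]`: `∑_{j<p} θ' g (x^j) = θ 1 - ε e`, and `θ' g = θ' g'` forces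
`g' ≡ a^i g` (so at most `e` values `g' ∈ Ico 1 p`).  The difference `θ' g - θ' g'` vanishes on
`p`-regular elements; each `p`-singular element is conjugate to some `z x^j`
(`SubP.exists_conj_of_dvd`), and for a class function `F`,
`∑_{h p-singular} F h = |G : N| ∑_{z ∈ Z, 0<j<p} F (z x^j)`, `|N| = e p |Z|` (e.g. count pairs
`(g, c)` with `c ∈ {z x^j}`, `g c g⁻¹ = h`: for fixed `h` there are `|N|` of them).  For
`A = altSq ζ` (`s = 1`), `symSq ζ` (`s = -1`): `A (z x^j) = (ζ z / d)^2 (eta j ^ 2 + s eta (2 j)) / 2`,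
`|ζ z / d| = 1`, and `∑_{0<j<p} (eta j ^ 2 + s eta (2 j)) conj (eta (g j)) = e (p cyc s g - e² - s e)`
(`cyc s (a^i g) = cyc s g`, or compute with `eta (a j) = eta j`). -/
theorem Cs.exists_family [Fintype G] (C : Cs p x y a e t ζ d l) (hθ : Th p x a e ζ d l θ ε) :
    ∃ θ' : ℕ → G → ℂ, (∀ g, ¬ p ∣ g → IsIrrCharacter G (θ' g) ∧
        (∀ h, ¬ p ∣ orderOf h → θ' g h = θ h) ∧ ∑ j ∈ range p, θ' g (x ^ j) = θ 1 - ε * e) ∧
      θ' 1 = θ ∧
      (∀ g, ¬ p ∣ g → ((Ico 1 p).filter fun g' => θ' g' = θ' g).card ≤ e) ∧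
      ∀ g g', ¬ p ∣ g → ¬ p ∣ g' →
        2 * (classInner (altSq ζ) (θ' g) - classInner (altSq ζ) (θ' g')) =
          ε * (cyc p a e 1 g - cyc p a e 1 g' : ℤ) ∧
        2 * (classInner (symSq ζ) (θ' g) - classInner (symSq ζ) (θ' g')) =
          ε * (cyc p a e (-1) g - cyc p a e (-1) g' : ℤ) := by
  obtain ⟨m, m1, m2, m3, m4⟩ := exists_exp_one C.hG (C.hx ▸ orderOf_dvd_natCard x)
  have v : ∀ g, ¬ p ∣ g → ∀ z ∈ center G, ∀ j, ¬ p ∣ j →
      θ ((z * x ^ j) ^ m g) = ε * (ζ z / d) ^ 2 * eta l a e (g * j) := fun g hg z hz j hj => by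
    have h1 : j * m g ≡ g * j [MOD p] := mul_comm g j ▸ (m2 g).mul_left j
    rw [(show Commute z (x ^ j) from (mem_center_iff.1 hz _).symm).mul_pow, m3 g z (C.not_dvd_center hz), ← pow_mul,
      hθ.val z hz _ fun k => (hp.out.dvd_mul.1 ((h1.dvd_iff dvd_rfl).1 k)).elim hg hj, eta_congr C.prim h1]
  have v1 : ∀ g, ¬ p ∣ g → ∀ j ∈ Ico 1 p, θ ((x ^ j) ^ m g) = ε * eta l a e (g * j) := fun g hg j hj => by
    have := v g hg 1 (one_mem _) j (not_dvd_of_Ico hj)
    rwa [one_mul, C.deg, div_self C.d_ne, one_pow, mul_one] at this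
  have hε : (ε : ℂ) ≠ 0 := by rcases hθ.sgn with rfl | rfl <;> simp
  have sc : ∀ z ∈ center G, ∀ j, ¬ p ∣ j → ζ (z * x ^ j) = -(ζ z / d * eta l a e j) ∧
      ζ (z * x ^ j * (z * x ^ j)) = -((ζ z / d) ^ 2 * eta l a e (2 * j)) := fun z hz j hj => by
    have h1 := (irr_center C.irr hz).2
    rw [C.deg] at h1
    rw [(show Commute z (x ^ j) from (mem_center_iff.1 hz _).symm).symm.mul_mul_mul_comm, ← pow_add, ← two_mul,
      mul_assoc, h1, h1, h1, C.val j hj, C.val _ fun k => (hp.out.dvd_mul.1 k).elim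
        (fun k => by have := Nat.le_of_dvd two_pos k; have := C.h3; omega) hj]
    constructor <;> ring
  refine ⟨fun g h => θ (h ^ m g), fun g hg => ⟨hθ.irr.comp_pow (m1 g hg), fun h k => congrArg θ (m3 g h k), ?_⟩,
    funext fun h => congrArg θ (m4 h), fun g hg => ?_, fun g g' hg hg' => ⟨?_, ?_⟩⟩
  · rw [sum_range_eq, sum_congr rfl (v1 g hg), ← mul_sum, C.toGs.sum_eta C.prim hg, pow_zero]
    simp only [one_pow]
    ring
  · refine (card_le_card (t := (range e).image fun i => a ^ i * g % p) fun g' h => ?_).trans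
      (card_image_le.trans (card_range e).le)
    obtain ⟨h1, h2⟩ := mem_filter.1 h
    have h3 : ∀ j ∈ Ico 1 p, eta l a e (g' * j) * conj (l ^ (g' * j)) = eta l a e (g * j) * conj (l ^ (g' * j)) :=
      fun j hj => by
        have := congrFun h2 (x ^ j)
        simp only [v1 g hg j hj, v1 g' (not_dvd_of_Ico h1) j hj] at this
        rw [mul_left_cancel₀ hε this]
    have h4 := sum_congr rfl h3
    rw [sum_eta_conj C.prim, sum_eta_conj C.prim, sum_sub_distrib, sum_sub_distrib, sub_left_inj] at h4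
    by_contra k
    rw [sum_eq_zero (s := range e) (f := fun i => if a ^ i * g ≡ g' [MOD p] then (p : ℂ) else 0) fun i hi =>
      if_neg fun c => k (Finset.mem_image.2 ⟨i, hi, Eq.trans c (Nat.mod_eq_of_lt (mem_Ico.1 h1).2)⟩), ← sum_filter,
      sum_const, nsmul_eq_mul, mul_eq_zero, Nat.cast_eq_zero, Nat.cast_eq_zero, card_eq_zero] at h4
    refine h4.elim (fun c => (filter_eq_empty_iff.1 c (mem_range.2 C.toGs.e_pos)) ?_) hp.out.ne_zero
    rw [pow_zero, one_mul]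
  · refine C.inner_sub (isCharacter_altSq C.irr.isCharacter).isClassFunction
      (hθ.irr.comp_pow (m1 g hg)).isClassFunction (hθ.irr.comp_pow (m1 g' hg')).isClassFunction
      (fun h k => congrArg θ ((m3 g h k).trans (m3 g' h k).symm)) (fun z hz j hj => ?_) (v g hg) (v g' hg')
    rw [altSq, (sc z hz j hj).1, (sc z hz j hj).2]
    push_cast
    ring
  · refine C.inner_sub (isCharacter_symSq C.irr.isCharacter).isClassFunction
      (hθ.irr.comp_pow (m1 g hg)).isClassFunction (hθ.irr.comp_pow (m1 g' hg')).isClassFunction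
      (fun h k => congrArg θ ((m3 g h k).trans (m3 g' h k).symm)) (fun z hz j hj => ?_) (v g hg) (v g' hg')
    rw [symSq, (sc z hz j hj).1, (sc z hz j hj).2]
    push_cast
    ring

end Cfsg.Agent.Blau
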