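import Cfsg.Agent.Blau.Ch1a
import Cfsg.Agent.Blau.Ch1b

/-! The character-theoretic dichotomy. -/

set_option autoImplicit false
set_option linter.unusedSectionVars false

namespace Cfsg.Agent.Blau

open Cfsg Finset Subgroup Cfsg.Agent.Char Cfsg.Agent.Char.ModSl2 Cfsg.Agent.Block
open scoped MonoidAlgebra MatrixGroups

variable {p : ℕ} [hp : Fact p.Prime] {G : Type*} [Group G] [Finite G] {x y : G} {a e t d : ℕ}
  {ζ θ : G → ℂ} {l : ℂ} {ε : ℤ}

theorem Cs.bound (C : Cs p x y a e t ζ d l) (hθ : Th p x a e ζ d l θ ε) (ht : 2 ≤ t)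
    (he : 3 ≤ e) :
    (Odd e → (ε = 1 → e + 3 ≤ t ∨ 2 * t ≤ e + 1) ∧ (ε = -1 → t + 1 ≤ e)) ∧
      (Even e → 2 * t ≤ e) := by
  classical
  have := Fintype.ofFinite G
  obtain ⟨θ', h1, h2, h3, h4⟩ := C.exists_family hθ
  have hI : ∀ j ∈ Ico 1 p, ¬ p ∣ j := fun j hj h =>
    absurd (Nat.le_of_dvd (mem_Ico.1 hj).1 h) (not_le.2 (mem_Ico.1 hj).2)
  have hp3 := C.h3
  have h1I : ¬ p ∣ 1 := hI 1 (mem_Ico.2 ⟨le_rfl, by omega⟩)
  have hs : ∑ j ∈ range p, θ (x ^ j) = θ 1 - ε * e := h2 ▸ (h1 1 h1I).2.2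
  have h0 : ∑ j ∈ range p, θ (x ^ j) ≠ 0 := hs ▸ sub_ne_zero.2 hθ.fix
  have h5 : ∀ g, ¬ p ∣ g → IsIrrCharacter G (θ' g) ∧ (∀ h, ¬ p ∣ orderOf h → θ' g h = θ h) ∧
      ∑ j ∈ range p, θ' g (x ^ j) = ∑ j ∈ range p, θ (x ^ j) := fun g hg => hs ▸ h1 g hg
  have hc : ((Ico 1 p).card : ℤ) = e * t := by
    rw [Nat.card_Ico, ← C.het, Nat.add_sub_cancel, Nat.cast_mul]
  have he' : (3 : ℤ) ≤ e := by exact_mod_cast he
  have ht' : (2 : ℤ) ≤ t := by exact_mod_cast ht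
  refine ⟨fun ho => ?_, fun hev => ?_⟩
  · have h6 : ∀ φ : G → ℂ, ∃ n : ℕ, IsIrrCharacter G φ → classInner (altSq ζ) φ = n := fun φ => by
      by_cases h : IsIrrCharacter G φ
      · obtain ⟨n, hn⟩ := (isCharacter_altSq C.irr.isCharacter).exists_nat_inner h.isCharacter
        exact ⟨n, fun _ => hn⟩
      · exact ⟨0, fun h' => absurd h' h⟩
    choose n hn using h6
    have h7 := C.odd_bound ht ho h0 ((Ico 1 p).image θ') (fun φ hφ => by
      obtain ⟨g, hg, rfl⟩ := mem_image.1 hφ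
      exact h5 g (hI g hg)) n fun φ hφ => by
      obtain ⟨g, hg, rfl⟩ := mem_image.1 hφ
      exact hn _ (h5 g (hI g hg)).1
    have h8 : ∑ g ∈ Ico 1 p, n (θ' g) ≤ e * ∑ φ ∈ (Ico 1 p).image θ', n φ := by
      rw [sum_comp n θ', mul_sum]
      refine sum_le_sum fun φ hφ => ?_
      obtain ⟨g, hg, rfl⟩ := mem_image.1 hφ
      exact Nat.mul_le_mul_right _ (h3 g (hI g hg))
    have h9 : ∀ g ∈ Ico 1 p, 2 * (n (θ' g) : ℤ) - ε * cyc p a e 1 g =
        2 * n (θ' 1) - ε * cyc p a e 1 1 := fun g hg => by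
      have := (h4 g 1 (hI g hg) h1I).1
      rw [hn _ (h5 g (hI g hg)).1, hn _ (h5 1 h1I).1] at this
      have h : 2 * ((n (θ' g) : ℤ) - n (θ' 1)) = ε * (cyc p a e 1 g - cyc p a e 1 1) := by
        exact_mod_cast this
      linarith
    have h10 := sum_congr rfl h9
    rw [sum_const, sum_sub_distrib, ← mul_sum, ← mul_sum, C.toGs.sum_cyc, nsmul_eq_mul, hc,
      if_neg (Nat.not_even_iff_odd.2 ho), ← Nat.cast_sum] at h10
    have h11 : 2 * ((∑ g ∈ Ico 1 p, n (θ' g) : ℕ) : ℤ) ≤ e * (t - 2) := by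
      zify at h7 h8
      push_cast
      nlinarith
    have h12 := Nat.cast_nonneg (α := ℤ) (∑ g ∈ Ico 1 p, n (θ' g))
    refine ⟨fun hε => ?_, fun hε => ?_⟩
    · obtain ⟨r, hr⟩ := (cyc_even_nonneg (p := p) (a := a) (e := e) (Or.inl rfl) 1).1
      rw [hε, hr] at h10
      rcases le_or_gt r (n (θ' 1)) with h | h
      · refine Or.inl ?_
        have h13 : (e : ℤ) * (e + 3) ≤ e * t := by nlinarith [mul_nonneg (mul_nonneg
          (by omega : (0 : ℤ) ≤ e) (by omega : (0 : ℤ) ≤ t)) (sub_nonneg.2 h)]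
        exact_mod_cast le_of_mul_le_mul_left h13 (by omega)
      · refine Or.inr ?_
        have h13 : (e : ℤ) * (2 * t) ≤ e * (e + 1) := by nlinarith [mul_nonneg (mul_nonneg
          (by omega : (0 : ℤ) ≤ e) (by omega : (0 : ℤ) ≤ t)) (sub_nonneg.2 (Int.add_one_le_of_lt h))]
        exact_mod_cast le_of_mul_le_mul_left h13 (by omega)
    · have h13 := two_le_cyc (p := p) (a := a) (e := e) (by omega)
      rw [← h9 2 (mem_Ico.2 ⟨by omega, by omega⟩), hε] at h10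
      have h14 : (e : ℤ) * (t + 1) ≤ e * e := by
        nlinarith [mul_nonneg (mul_nonneg (by omega : (0 : ℤ) ≤ e) (by omega : (0 : ℤ) ≤ t))
          (by omega : 0 ≤ 2 * (n (θ' 2) : ℤ) + cyc p a e 1 2 - 2)]
      exact_mod_cast le_of_mul_le_mul_left h14 (by omega)
  · have hε : (ε : ℂ) ≠ 0 := by rcases hθ.sgn with h | h <;> simp [h]
    obtain ⟨s, hs, h6⟩ : ∃ s : ℤ, (s = 1 ∨ s = -1) ∧ ∀ g ∈ Ico 1 p,
        cyc p a e s g = cyc p a e s 1 := by
      by_cases h : ∀ g, ¬ p ∣ g → classInner (altSq ζ) (θ' g) = 0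
      · refine ⟨1, Or.inl rfl, fun g hg => ?_⟩
        have := (h4 g 1 (hI g hg) h1I).1
        rw [h g (hI g hg), h 1 h1I, sub_zero, mul_zero, eq_comm, mul_eq_zero] at this
        exact sub_eq_zero.1 (by exact_mod_cast this.resolve_left hε)
      · push Not at h
        obtain ⟨g₀, h7, h8⟩ := h
        have h : ∀ g, ¬ p ∣ g → classInner (symSq ζ) (θ' g) = 0 := fun g hg =>
          (C.even_excl hev h0 (h5 g₀ h7) (h5 g hg)).resolve_left h8
        refine ⟨-1, Or.inr rfl, fun g hg => ?_⟩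
        have := (h4 g 1 (hI g hg) h1I).2
        rw [h g (hI g hg), h 1 h1I, sub_zero, mul_zero, eq_comm, mul_eq_zero] at this
        exact sub_eq_zero.1 (by exact_mod_cast this.resolve_left hε)
    have h7 := sum_congr rfl h6
    rw [sum_const, C.toGs.sum_cyc, nsmul_eq_mul, hc, if_pos hev, mul_assoc] at h7
    have h8 := mul_left_cancel₀ (by omega) h7
    obtain ⟨⟨r, hr⟩, h9⟩ := cyc_even_nonneg (p := p) (a := a) (e := e) hs 1
    rw [hr] at h8 h9
    have h10 : 1 ≤ r := by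
      by_contra h
      obtain rfl : r = 0 := by omega
      omega
    have h11 : (2 : ℤ) * t ≤ e := by nlinarith [hs.elim le_of_eq fun h => (by omega : s ≤ 1)]
    exact_mod_cast h11

end Cfsg.Agent.Blau
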