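import Cfsg.Agent.Blau.LstB
import Cfsg.Agent.Char.SubP2
import Cfsg.Agent.Blau.ChA

/-! The `⟨x⟩`-fixed parts of the symmetric and alternating squares of `ζ`.

Let `N = N(⟨x⟩)`, `C = C(x) = ⟨x⟩ × Z`.  For a character `χ` of `G` the average
`χ^P (g) = p⁻¹ ∑_{j<p} χ (g x^j)` is a character of `N` (the sum of the constituents of `χ_N` with
`x` in the kernel; an irreducible character of `N` without `x` in its kernel has zero average), it
equals `χ` on `N ∖ C` (there `g x^j` is conjugate to `g` under `⟨x⟩`; these elements are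
`p`-regular).  `ζ^P` has degree `p⁻¹ (d + e) = 1`, so is a linear character `α` of `N`.
`∑_{j<p} ζ (x^j)^2 = d² - e² + p n₀` with `n₀ = #{(i, i') ∣ a^i + a^i' ≡ 0} = 0` (`e` odd), `e`
(`e` even), and `∑_{j<p} ζ (x^(2j)) = p`. -/

set_option autoImplicit false
set_option linter.unusedSectionVars false

namespace Cfsg.Agent.Blau

open Cfsg Finset Subgroup Cfsg.Agent.Char Cfsg.Agent.Char.ModSl2 Cfsg.Agent.Block
open scoped MonoidAlgebra MatrixGroups ComplexConjugate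

variable {p : ℕ} [hp : Fact p.Prime] {G : Type*} [Group G] [Finite G] {x y : G} {a e t d : ℕ}
  {ζ θ : G → ℂ} {l : ℂ} {ε : ℤ}

/-- the abelian complement `⟨y⟩ Z` -/
def hy {G : Type*} [Group G] (y : G) : Subgroup G := zpowers y ⊔ center G

theorem mem_hy {g : G} : g ∈ hy y ↔ ∃ i : ℕ, ∃ z ∈ center G, g = y ^ i * z := by
  rw [hy, ← SetLike.mem_coe, mul_normal]
  constructor
  · rintro ⟨u, hu, z, hz, rfl⟩
    obtain ⟨i, rfl⟩ := mem_powers_iff_mem_zpowers.2 hu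
    exact ⟨i, z, hz, rfl⟩
  · rintro ⟨i, z, hz, rfl⟩
    exact ⟨_, pow_mem (mem_zpowers y) i, z, hz, rfl⟩

theorem hy_comm (g h : hy y) : g * h = h * g := by
  obtain ⟨i, z, hz, e1⟩ := mem_hy.1 g.2
  obtain ⟨j, w, hw, e2⟩ := mem_hy.1 h.2
  have c : ∀ {z}, z ∈ center G → ∀ g, Commute g z := fun h g => mem_center_iff.1 h g
  refine Subtype.ext ?_
  rw [Subgroup.coe_mul, Subgroup.coe_mul, e1, e2]
  exact (((Commute.refl y).pow_pow i j).mul_right (c hw _)).mul_left (c hz _).symm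

theorem avg_sub (φ ψ : G → ℂ) (g : G) : avg p x (φ - ψ) g = avg p x φ g - avg p x ψ g := by
  simp only [avg, Pi.sub_apply, sum_sub_distrib, mul_sub]

theorem eq_of_add_eq {u v c : ℂ} {m n : ℝ} (hc : ‖c‖ = 1) (hu : ‖u‖ ≤ m) (hv : ‖v‖ ≤ n)
    (h : u + v = c * (m + n)) : u = c * m := by
  have h0 : c ≠ 0 := by rintro rfl; simp at hc
  obtain ⟨u, rfl⟩ : ∃ u', u = c * u' := ⟨c⁻¹ * u, by rw [mul_inv_cancel_left₀ h0]⟩
  obtain ⟨v, rfl⟩ : ∃ u', v = c * u' := ⟨c⁻¹ * v, by rw [mul_inv_cancel_left₀ h0]⟩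
  rw [norm_mul, hc, one_mul] at hu hv
  rw [← mul_add, mul_right_inj' h0] at h
  have h1 := congrArg Complex.re h
  simp only [Complex.add_re, Complex.ofReal_re] at h1
  have h2 := Complex.re_le_norm u
  have h3 := Complex.re_le_norm v
  have h4 : u.re = ‖u‖ := by linarith
  rw [← Complex.re_add_im u, Complex.abs_re_eq_norm.1 (by rw [h4, abs_norm]), show u.re = m by linarith]
  simp

namespace Cs

variable (C : Cs p x y a e t ζ d l)
include C

theorem hy_le : hy y ≤ normalizer (zpowers x : Set G) := by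
  refine sup_le (zpowers_le.2 ?_) (center_le_normalizer _)
  refine mem_normalizer_fintype ?_
  rintro _ ⟨k, rfl⟩
  rw [← conj_zpow, C.hxa]
  exact zpow_mem (pow_mem (mem_zpowers x) a) k

theorem hy_reg {g : G} (hg : g ∈ hy y) : ¬ p ∣ orderOf g := fun h => by
  obtain ⟨i, z, hz, rfl⟩ := mem_hy.1 hg
  exact (hp.out.dvd_mul.1 (h.trans (show Commute (y ^ i) z from mem_center_iff.1 hz _).orderOf_mul_dvd_mul_orderOf)).elim
    (fun k => C.hy (k.trans (orderOf_pow_dvd i))) (C.not_dvd_center hz)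

theorem avg_off {χ : G → ℂ} (h : IsClassFunction G χ) {g : G} (hg : g ∈ hy y) (hz : g ∉ center G) :
    avg p x χ g = χ g :=
  avg_of_not_commute C.hx h (C.hy_le hg) fun c => hz (C.hC g c (C.hy_reg hg))

theorem mul_mem_center {i : ℕ} {z : G} (hz : z ∈ center G) : y ^ i * z ∈ center G ↔ e ∣ i := by
  rw [mul_mem_cancel_right hz, ← C.toGs.commute_pow]
  exact ⟨fun h => (mem_center_iff.1 h x).symm, fun h => C.hC _ h (C.hy_reg (mem_hy.2 ⟨i, 1, one_mem _, (mul_one _).symm⟩))⟩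

theorem not_dvd_two : ¬ p ∣ 2 := fun k => by
  have := Nat.le_of_dvd two_pos k
  have := C.h3
  omega

theorem sum_zeta {g : ℕ} (hg : ¬ p ∣ g) : ∑ j ∈ range p, ζ (x ^ (g * j)) = p := by
  rw [sum_range_eq, sum_congr rfl fun j hj => C.val _ fun k => (hp.out.dvd_mul.1 k).elim hg (not_dvd_of_Ico hj),
    sum_neg_distrib, C.toGs.sum_eta C.prim hg, mul_zero, pow_zero, C.deg, ← C.hd]
  push_cast
  ring

theorem sum_zeta_sq : ∑ j ∈ range p, ζ (x ^ j) ^ 2 = p * (d - e + if Even e then e else 0) := by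
  have h1 := sum_sq_conj (a := a) (e := e) C.prim 0
  have h2 : ∀ i, ∑ i' ∈ range e, ((if p ∣ a ^ i + a ^ i' then (p : ℂ) else 0) - 1) =
      p * (if Even e then 1 else 0) - e := fun i => by
    rw [sum_sub_distrib, ← sum_filter, sum_const, C.toGs.n_zero, sum_const, card_range]
    split_ifs <;> simp
  simp only [zero_mul, pow_zero, map_one, mul_one, Nat.modEq_zero_iff_dvd, h2, sum_const, card_range,
    nsmul_eq_mul] at h1
  rw [sum_range_eq, sum_congr rfl fun j hj => by rw [C.val _ (not_dvd_of_Ico hj), neg_sq], h1, pow_zero, C.deg,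
    ← C.hd]
  push_cast
  split_ifs <;> ring

theorem avg_sq : 2 * avg p x (altSq ζ) 1 = (d - e + if Even e then e else 0) - 1 ∧
    2 * avg p x (symSq ζ) 1 = (d - e + if Even e then e else 0) + 1 := by
  have h1 := C.sum_zeta C.not_dvd_two
  have h2 : (p : ℂ) ≠ 0 := Nat.cast_ne_zero.2 hp.out.ne_zero
  simp only [avg, altSq, symSq, one_mul, ← pow_add, ← two_mul, ← sum_div, sum_sub_distrib, sum_add_distrib, h1,
    C.sum_zeta_sq]
  constructor <;> field_simp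

theorem exists_alpha : ∃ α : hy y →* ℂˣ, ∀ g : hy y, ((g : G) ∉ center G → ζ g = α g) ∧
    ((g : G) ∈ center G → ζ g = d * α g) := by
  have h1 : avg p x ζ 1 = 1 := by
    have := C.sum_zeta (g := 1) hp.out.not_dvd_one
    simp only [one_mul] at this
    simp only [avg, one_mul, this]
    exact inv_mul_cancel₀ (Nat.cast_ne_zero.2 hp.out.ne_zero)
  obtain ⟨α, hα⟩ := (isCharacter_avg C.hx C.irr.isCharacter C.hy_le).exists_linear h1
  refine ⟨α, fun g => ⟨fun h => ?_, fun h => ?_⟩⟩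
  · rw [← congrFun hα g, C.avg_off C.irr.isClassFunction g.2 h]
  · rw [← congrFun hα g, avg_center C.irr h, h1, C.deg, mul_one, mul_div_cancel₀ _ C.d_ne]

theorem avg_fam {φ : G → ℂ} (hφ : IsIrrCharacter G φ ∧ (∀ g, ¬ p ∣ orderOf g → φ g = θ g) ∧
      ∑ j ∈ range p, φ (x ^ j) = ∑ j ∈ range p, θ (x ^ j)) :
    avg p x φ 1 = avg p x θ 1 ∧ ∀ g ∈ hy y, (g ∉ center G → avg p x φ g = θ g) ∧
      (g ∈ center G → avg p x φ g = θ g / θ 1 * avg p x θ 1) := by
  have h1 : avg p x φ 1 = avg p x θ 1 := by simp only [avg, one_mul, hφ.2.2]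
  refine ⟨h1, fun g hg => ⟨fun h => ?_, fun h => ?_⟩⟩
  · rw [C.avg_off hφ.1.isClassFunction hg h, hφ.2.1 g (C.hy_reg hg)]
  · rw [avg_center hφ.1 h, h1, hφ.2.1 g (C.hy_reg hg), hφ.2.1 1 (C.hy_reg (one_mem _))]

theorem card_hy : e * Nat.card (center G) ≤ Nat.card (hy y) := by
  rw [← Nat.card_fin e, ← Nat.card_prod]
  refine Nat.card_le_card_of_injective
    (fun q : Fin e × center G => (⟨y ^ (q.1 : ℕ) * q.2, mem_hy.2 ⟨_, _, q.2.2, rfl⟩⟩ : hy y)) ?_
  have key : ∀ (i j : Fin e) (z w : center G), i ≤ j → y ^ (i : ℕ) * z = y ^ (j : ℕ) * w → i = j := by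
    intro i j z w hij h
    obtain ⟨k, hk⟩ := Nat.exists_eq_add_of_le hij
    rw [hk, pow_add, mul_assoc, mul_left_cancel_iff] at h
    have := Nat.eq_zero_of_dvd_of_lt ((C.mul_mem_center w.2).1 (h ▸ z.2)) (by have := j.2; omega)
    exact Fin.ext (by omega)
  rintro ⟨i, z⟩ ⟨j, w⟩ h
  have h1 : y ^ (i : ℕ) * z = y ^ (j : ℕ) * w := congrArg Subtype.val h
  obtain rfl : i = j := (le_total i j).elim (fun k => key _ _ _ _ k h1) fun k => (key _ _ _ _ k h1.symm).symm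
  rw [Subtype.ext (mul_left_cancel h1)]

theorem avg_eq_of_sub [Fintype G] {A φ : G → ℂ} (hA : IsCharacter G A) (hφ : IsIrrCharacter G φ)
    (h : classInner A φ ≠ 0) {g : G} (hg : g ∈ hy y) {c : ℂ} (hc : ‖c‖ = 1)
    (hv : avg p x A g = c * avg p x A 1) : avg p x φ g = c * avg p x φ 1 := by
  have h1 := isCharacter_avg C.hx hφ.isCharacter C.hy_le
  have h2 := isCharacter_avg C.hx (hA.sub_irr hφ h) C.hy_le
  obtain ⟨m, hm⟩ := h1.exists_nat_one
  obtain ⟨n, hn⟩ := h2.exists_nat_one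
  have h3 := h1.norm_le ⟨g, hg⟩
  have h4 := h2.norm_le ⟨g, hg⟩
  simp only [OneMemClass.coe_one] at hm hn h3 h4
  rw [hm] at h3 ⊢
  rw [hn] at h4
  refine eq_of_add_eq (m := m) (n := n) hc h3 h4 ?_
  rw [avg_sub, add_sub_cancel, hv, Complex.ofReal_natCast, Complex.ofReal_natCast, ← hm, ← hn, avg_sub, add_sub_cancel]

end Cs

/-- `e` odd: for `g ∈ N ∖ C` also `g² ∈ N ∖ C`, so `A = altSq ζ` vanishes on `N ∖ C`; `A^P` has degree
`(d - e - 1)/2 = e (t - 2)/2`.  All `φ^P` (`φ ∈ T`) equal `θ^P ≠ 0` (on `z x^i` the value is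
`(φ z / φ 1) φ^P 1`); let `β` be an irreducible constituent (linear, as `N / ⟨x⟩` is abelian; or
bound with `β 1`: `(A^P, β) ≤ A^P(1) β(1) / e` and take care).  `A - ∑ n φ • φ` is a character, so
`∑ n φ ≤ (A_N, β) = |N|⁻¹ ∑_{c ∈ C} A^P c conj (β c) ≤ A^P(1) / e` (`|N| = e |C|`). -/
theorem Cs.odd_bound [Fintype G] (C : Cs p x y a e t ζ d l) (ht : 2 ≤ t) (he : Odd e)
    (h0 : ∑ j ∈ range p, θ (x ^ j) ≠ 0) (T : Finset (G → ℂ))
    (hT : ∀ φ ∈ T, IsIrrCharacter G φ ∧ (∀ g, ¬ p ∣ orderOf g → φ g = θ g) ∧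
      ∑ j ∈ range p, φ (x ^ j) = ∑ j ∈ range p, θ (x ^ j))
    (n : (G → ℂ) → ℕ) (hn : ∀ φ ∈ T, classInner (altSq ζ) φ = n φ) :
    2 * ∑ φ ∈ T, n φ + 2 ≤ t := by
  classical
  rcases T.eq_empty_or_nonempty with rfl | ⟨φ₀, hφ₀⟩
  · simpa using ht
  have hA := isCharacter_altSq C.irr.isCharacter
  have hB : IsCharacter G (altSq ζ - ∑ φ ∈ T, n φ • φ) := by
    refine (hA.isGen.sub (isCharacter_sum _ _ fun φ h => (hT φ h).1.isCharacter.nsmul _).isGen).isCharacter_of_nonneg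
      fun ψ hψ => ?_
    rw [classInner_sub_left, classInner_sum_left, sum_congr rfl fun φ h => by
      rw [classInner_nsmul_left, (hT φ h).1.inner_eq_ite hψ, mul_ite, mul_one, mul_zero], sum_ite_eq']
    obtain ⟨m, hm⟩ := hA.exists_nat_inner hψ.isCharacter
    split_ifs with k
    · rw [hn ψ k, sub_self]; rfl
    · rw [hm, sub_zero]; simp
  have h1 : avg p x θ 1 ≠ 0 := by
    simp only [avg, one_mul]
    exact mul_ne_zero (inv_ne_zero (Nat.cast_ne_zero.2 hp.out.ne_zero)) h0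
  have hψ := isCharacter_avg C.hx (hT φ₀ hφ₀).1.isCharacter C.hy_le
  have := Fintype.ofFinite (hy y)
  obtain ⟨β, hβ, h2⟩ := hψ.isClassFunction.exists_irr_inner_ne_zero fun k => h1 ((C.avg_fam (hT φ₀ hφ₀)).1 ▸ congrFun k 1)
  obtain ⟨k, hk⟩ := hψ.exists_nat_inner hβ.isCharacter
  obtain ⟨m, hm⟩ := (isCharacter_avg C.hx hB C.hy_le).exists_nat_inner hβ.isCharacter
  have h3 : (fun g : hy y => avg p x (altSq ζ - ∑ φ ∈ T, n φ • φ) g) =
      (fun g : hy y => avg p x (altSq ζ) g) - (∑ φ ∈ T, n φ) • fun g : hy y => avg p x φ₀ g := by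
    funext g
    have : ∀ φ ∈ T, avg p x φ g = avg p x φ₀ g := fun φ h => by
      by_cases c : (g : G) ∈ center G
      · rw [((C.avg_fam (hT φ h)).2 g g.2).2 c, ((C.avg_fam (hT φ₀ hφ₀)).2 g g.2).2 c]
      · rw [((C.avg_fam (hT φ h)).2 g g.2).1 c, ((C.avg_fam (hT φ₀ hφ₀)).2 g g.2).1 c]
    rw [avg_sub, Pi.sub_apply, Pi.smul_apply, sum_smul, ← sum_congr rfl fun φ h => congrArg (n φ • ·) (this φ h)]
    simp only [avg, Finset.sum_apply, nsmul_eq_mul, mul_sum, Pi.mul_apply, Pi.natCast_apply]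
    rw [sum_comm]
    exact congrArg _ (sum_congr rfl fun _ _ => sum_congr rfl fun _ _ => by ring)
  rw [h3, classInner_sub_left, classInner_nsmul_left, hk, sub_eq_iff_eq_add] at hm
  obtain ⟨α, hα⟩ := C.exists_alpha
  have hAH := isCharacter_avg C.hx hA C.hy_le
  obtain ⟨r, hr⟩ := hAH.exists_nat_one
  have h4 : ∀ g : hy y, ‖avg p x (altSq ζ) g * conj (β g)‖ ≤ if (g : G) ∈ center G then (r : ℝ) else 0 := fun g => by
    split_ifs with c
    · have a1 := hAH.norm_le g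
      have a2 := hβ.isCharacter.norm_le g
      rw [hβ.one_eq_one_of_comm hy_comm] at a2
      rw [hr] at a1
      rw [norm_mul, Complex.norm_conj]
      exact (mul_le_of_le_one_right (norm_nonneg _) a2).trans a1
    · have c2 : ((g * g : hy y) : G) ∉ center G := fun c2 => c (by
        obtain ⟨i, z, hz, e1⟩ := mem_hy.1 g.2
        rw [Subgroup.coe_mul, e1, (show Commute (y ^ i) z from mem_center_iff.1 hz _).symm.mul_mul_mul_comm, ← pow_add,
          C.mul_mem_center (mul_mem hz hz), ← two_mul] at c2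
        rw [e1, C.mul_mem_center hz]
        exact (Nat.coprime_two_right.2 he).dvd_of_dvd_mul_left c2)
      rw [C.avg_off hA.isClassFunction g.2 c, altSq, (hα g).1 c, ← Subgroup.coe_mul, (hα _).1 c2]
      simp [sq]
  have h5 := (norm_sum_le _ _).trans (sum_le_sum fun g (_ : g ∈ univ) => h4 g)
  have h6 : (univ.filter fun g : hy y => (g : G) ∈ center G).card = Nat.card (center G) := by
    rw [← Fintype.card_subtype, ← Nat.card_eq_fintype_card]
    exact Nat.card_congr (subgroupOfEquivOfLe (le_sup_right : center G ≤ hy y)).toEquiv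
  rw [sum_mul_conj_eq, hm, ← sum_filter, sum_const, h6, nsmul_eq_mul] at h5
  have h7 : Nat.card (hy y) * (m + (∑ φ ∈ T, n φ) * k) ≤ Nat.card (center G) * r := by exact_mod_cast h5
  have h8 := C.avg_sq.1
  rw [show avg p x (altSq ζ) 1 = r from hr, if_neg (Nat.not_even_iff_odd.2 he), Nat.cast_zero, add_zero, sub_sub,
    eq_sub_iff_add_eq] at h8
  have h9 : 2 * r + (e + 1) = d := by exact_mod_cast h8
  have h10 : 0 < k := Nat.pos_of_ne_zero (by rintro rfl; exact h2 (by simpa using hk))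
  have h11 := Nat.le_of_mul_le_mul_left ((mul_comm e _ ▸ Nat.mul_le_mul C.card_hy
    ((Nat.le_mul_of_pos_right (∑ φ ∈ T, n φ) h10).trans (Nat.le_add_left _ m))).trans' (mul_assoc _ _ _).ge |>.trans h7) Nat.card_pos
  have := C.hd
  have := C.het
  refine Nat.le_of_mul_le_mul_left (c := e) ?_ C.toGs.e_pos
  nlinarith

/-- `e` even, `τ = y^(e/2) ∈ N ∖ C`, `τ² ∈ Z`, `ζ τ = α τ =: s`, `ζ (τ²) = d s²` (`ζ^P (z) =
(ζ z / d)`).  So `altSq ζ τ = -(d-1)/2 s²` with `(altSq ζ)^P 1 = (d-1)/2`, and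
`symSq ζ τ = (d+1)/2 s²` with `(symSq ζ)^P 1 = (d+1)/2`, `|s| = 1`.  If `φ` is a constituent of
`A`, `A - φ` is a character and `|χ τ| = |χ^P τ| ≤ χ^P 1` for `χ = φ, A - φ`, so
`φ τ = ∓ s² φ^P 1`; but `φ τ = φ' τ = θ τ` and `φ^P 1 = φ'^P 1 ≠ 0`. -/
theorem Cs.even_excl [Fintype G] (C : Cs p x y a e t ζ d l) (he : Even e)
    (h0 : ∑ j ∈ range p, θ (x ^ j) ≠ 0) {φ φ' : G → ℂ}
    (hφ : IsIrrCharacter G φ ∧ (∀ g, ¬ p ∣ orderOf g → φ g = θ g) ∧
      ∑ j ∈ range p, φ (x ^ j) = ∑ j ∈ range p, θ (x ^ j))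
    (hφ' : IsIrrCharacter G φ' ∧ (∀ g, ¬ p ∣ orderOf g → φ' g = θ g) ∧
      ∑ j ∈ range p, φ' (x ^ j) = ∑ j ∈ range p, θ (x ^ j)) :
    classInner (altSq ζ) φ = 0 ∨ classInner (symSq ζ) φ' = 0 := by
  by_contra k
  rw [not_or] at k
  have h1 : avg p x θ 1 ≠ 0 := by
    simp only [avg, one_mul]
    exact mul_ne_zero (inv_ne_zero (Nat.cast_ne_zero.2 hp.out.ne_zero)) h0
  obtain ⟨α, hα⟩ := C.exists_alpha
  have h2 := C.avg_sq
  rw [if_pos he, sub_add_cancel] at h2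
  obtain ⟨h, hh⟩ := he
  have hτ : y ^ h ∈ hy y := mem_hy.2 ⟨h, 1, one_mem _, (mul_one _).symm⟩
  have c1 : y ^ h ∉ center G := fun c => by
    have := C.toGs.e_pos
    have := Nat.le_of_dvd (by omega) ((C.mul_mem_center (one_mem _)).1 ((mul_one (y ^ h)).symm ▸ c))
    omega
  have c2 : y ^ h * y ^ h ∈ center G := by
    rw [← pow_add, ← mul_one (y ^ _), C.mul_mem_center (one_mem _), hh]
  have a1 := (hα ⟨_, hτ⟩).1 c1
  have a2 := (hα (⟨_, hτ⟩ * ⟨_, hτ⟩)).2 c2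
  have a3 := SubP.norm_hom α ⟨_, hτ⟩
  rw [map_mul, Units.val_mul] at a2
  generalize ((α ⟨_, hτ⟩ : ℂˣ) : ℂ) = s at *
  change ζ (y ^ h) = s at a1
  change ζ (y ^ h * y ^ h) = _ at a2
  have hA := isCharacter_altSq C.irr.isCharacter
  have hS := isCharacter_symSq C.irr.isCharacter
  have b1 := C.avg_eq_of_sub hA hφ.1 k.1 hτ (c := -s ^ 2) (by simp [a3]) (by
    rw [C.avg_off hA.isClassFunction hτ c1, altSq, a1, a2]
    linear_combination s ^ 2 / 2 * h2.1)
  have b2 := C.avg_eq_of_sub hS hφ'.1 k.2 hτ (c := s ^ 2) (by simp [a3]) (by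
    rw [C.avg_off hS.isClassFunction hτ c1, symSq, a1, a2]
    linear_combination -s ^ 2 / 2 * h2.2)
  rw [((C.avg_fam hφ).2 _ hτ).1 c1, (C.avg_fam hφ).1] at b1
  rw [((C.avg_fam hφ').2 _ hτ).1 c1, (C.avg_fam hφ').1, b1] at b2
  have s0 : s ≠ 0 := by rintro rfl; simp at a3
  exact mul_ne_zero (pow_ne_zero 2 s0) h1 (by linear_combination -b2 / 2)

end Cfsg.Agent.Blau
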