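import Cfsg.Agent.Blau.One

/-! Splitting `M` into submodules with one non-free Jordan block each. -/

set_option autoImplicit false
set_option linter.unusedSectionVars false

namespace Cfsg.Agent.Blau

open Cfsg Finset Subgroup Cfsg.Agent.Char.ModSl2 Cfsg.Agent.Block
open scoped MonoidAlgebra MatrixGroups

variable {k : Type*} [Field k] [IsAlgClosed k] {p : ℕ} [hp : Fact p.Prime] [CharP k p]
  {G : Type*} [Group G] [Finite G] {x y : G} {a e t : ℕ}
variable {M : Type*} [AddCommGroup M] [Module k M] [Module k[G] M] [IsScalarTower k k[G] M]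
  [FiniteDimensional k M] {b : ℕ → ℕ → M}

omit [IsAlgClosed k] [FiniteDimensional k M] in
theorem St.two_e (S : St p x y a e t) : 2 * e + 1 ≤ p := by
  have := S.het
  have := Nat.mul_le_mul_left e S.ht
  omega

omit [IsAlgClosed k] [FiniteDimensional k M] in
theorem MS.ind' (S : St p x y a e t) (hM : MS k p x y a e t M b) {γ : ℕ → k} {m : M}
    (h : ∑ j ∈ range e, γ j • b j (2 * j) = Dl k p x ^ (p - 1) • m) {j : ℕ} (hj : j < e) :
    γ j = 0 := by
  have h2 := S.two_e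
  refine hM.ind ((range e).image fun j => (j, 2 * j)) (fun q => γ q.1) (p - 1) m ?_ ?_ (j, 2 * j)
    (mem_image_of_mem _ (mem_range.2 hj))
  · simp only [mem_image, mem_range]
    rintro _ ⟨j, hj, rfl⟩
    exact ⟨hj, le_rfl, by dsimp only; omega⟩
  · rw [sum_image fun _ _ _ _ h => (Prod.ext_iff.1 h).1, h]

omit [IsAlgClosed k] [FiniteDimensional k M] in
theorem MS.ne_smul' (S : St p x y a e t) (hM : MS k p x y a e t M b) {i : ℕ} (hi : i < e)
    (m m' : M) : b i (2 * i) + Dl k p x ^ (p - 1) • m ≠ Dl k p x ^ (2 * i + 1) • m' := fun h => by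
  have h2 := S.two_e
  refine one_ne_zero (hM.ind {(i, 2 * i)} (fun _ => 1) (2 * i + 1)
    (m' - Dl k p x ^ (p - 1 - (2 * i + 1)) • m) (by simp [hi]) ?_ _ (mem_singleton_self _))
  rw [smul_sub, ← pow_smul_of_le _ (by omega), ← h]
  simp

omit [IsAlgClosed k] [FiniteDimensional k M] in
theorem MS.D_b (hM : MS k p x y a e t M b) {i : ℕ} (hi : i < e) : Dl k p x • b i (2 * i) = 0 := by
  simpa using hM.kill i hi _ le_rfl

omit [IsAlgClosed k] [FiniteDimensional k M] in
theorem MS.y_b (S : St p x y a e t) (hM : MS k p x y a e t M b) {i : ℕ} (hi : i < e) :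
    og k y • b i (2 * i) = (a : k) ^ i • b i (2 * i) :=
  smul_right_injective M (pow_ne_zero i S.a_ne_zero)
    ((hM.wt i hi _).trans (by dsimp only; rw [smul_smul, ← pow_add, two_mul]))

omit [IsAlgClosed k] [FiniteDimensional k M] in
theorem St.lift (S : St p x y a e t) {i : ℕ} {K : Submodule k M} (hK : ∀ v ∈ K, og k y • v ∈ K)
    {v w : M} (hv : v ∈ K) (h : Dl k p x ^ (2 * i) • v = w) (hw : og k y • w = (a : k) ^ i • w) :
    ∃ g ∈ K, og k y • g = ((a : k) ^ i)⁻¹ • g ∧ Dl k p x ^ (2 * i) • g = w :=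
  S.exists_wt_lift hK hv (by rw [inv_pow, ← pow_mul, mul_comm, pow_mul, S.prim.pow_eq_one]; simp) h
    (by rw [hw, two_mul, pow_add, mul_inv_cancel_right₀ (pow_ne_zero i S.a_ne_zero)])

omit [IsAlgClosed k] [FiniteDimensional k M] in
theorem MS.exists_F (S : St p x y a e t) (hM : MS k p x y a e t M b) (i : ℕ) :
    ∃ F : M →ₗ[k[G]] M, i < e → ∀ j < e, ∃ w : M,
      F (b j (2 * j)) = (if j = i then b j (2 * j) else 0) + Dl k p x ^ (p - 1) • w := by
  refine (em (i < e)).elim (fun hi => ?_) fun hi => ⟨0, fun h => absurd h hi⟩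
  obtain ⟨m, hm⟩ := hM.hi i hi (2 * i)
  obtain ⟨g, -, g1, g2⟩ := S.lift (K := ⊤) (fun _ _ => trivial) trivial hm.symm (hM.y_b S hi)
  have g3 : Dl k p x ^ (2 * i + 1) • g = 0 := by rw [← one_smul_pow, g2, hM.D_b hi]
  have g4 : ∀ v : M, Dl k p x ^ (2 * i + 1 - 1) • g ≠ Dl k p x ^ (2 * i + 1) • v := fun v => by
    simpa [g2] using hM.ne_smul' S hi 0 v
  obtain ⟨f, f1, f2, f3, f4⟩ := S.exists_Nmap g3 g4 g1 g3 g1
  obtain ⟨F, hF⟩ := S.exists_Gmap' f f2 f3
  refine ⟨F, fun _ j hj => ?_⟩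
  obtain ⟨w, hw⟩ := hF 1 (by have := S.h3; omega) (b j (2 * j)) (by rw [pow_one, hM.D_b hj])
  refine ⟨w, ?_⟩
  rw [hw]
  congr 1
  split_ifs with h
  · rw [h, ← g2, map_pow_smul f2, f1]
  have g5 : Dl k p x ^ (2 * i) • g ≠ 0 := by simpa using g4 0
  obtain ⟨r, hr⟩ := span_ker g3 g5 (f4 (b j (2 * j))) (by rw [← f2, hM.D_b hj, map_zero])
  have h1 := f3 (b j (2 * j))
  rw [hM.y_b S hj, map_smul, hr, smul_comm (og k y), g2, hM.y_b S hi, smul_comm r] at h1
  rw [hr, g2]
  by_contra h2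
  exact h ((S.toGs.a_pow_eq_iff.1 (smul_left_injective k h2 h1)).eq_of_lt_of_lt hj hi)

omit [IsAlgClosed k] [FiniteDimensional k M] in
theorem MS.exists_Phi (S : St p x y a e t) (hM : MS k p x y a e t M b) (c : ℕ → k) :
    ∃ Φ : M →ₗ[k[G]] M, ∀ j < e, ∃ w : M,
      Φ (b j (2 * j)) = c j • b j (2 * j) + Dl k p x ^ (p - 1) • w := by
  choose F hF using hM.exists_F S
  choose! w hw using hF
  refine ⟨∑ i ∈ range e, c i • F i, fun j hj => ⟨∑ i ∈ range e, c i • w i j, ?_⟩⟩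
  rw [LinearMap.sum_apply, sum_congr rfl fun i hi => show (c i • F i) (b j (2 * j)) =
    (if j = i then c j • b j (2 * j) else 0) + Dl k p x ^ (p - 1) • c i • w i j by
      rw [LinearMap.smul_apply, hw i (mem_range.1 hi) j hj, smul_add, smul_comm]
      split_ifs with h <;> simp [h], sum_add_distrib, smul_sum]
  simp [hj]

omit [IsAlgClosed k] [FiniteDimensional k M] in
theorem indep_k {U : ℕ → Submodule k[G] M} (hU : iSupIndep U) {V : ℕ → Submodule k M}
    (h : ∀ i, ∀ v ∈ V i, v ∈ U i) : iSupIndep V :=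
  (iSupIndep_iff_finsetSum_eq_zero_imp_eq_zero _).2 fun s v hv =>
    (iSupIndep_iff_finsetSum_eq_zero_imp_eq_zero _).1 hU s v fun i hi => h i _ (hv i hi)

omit [IsAlgClosed k] in
theorem sum_finrank {V : ℕ → Submodule k M} (hV : iSupIndep V) (s : Finset ℕ) :
    ∑ i ∈ s, Module.finrank k (V i) = Module.finrank k (s.sup V : Submodule k M) := by
  induction s using Finset.induction_on with
  | empty => rw [sum_empty, sup_empty, finrank_bot]
  | insert i s hi ih =>
    rw [sum_insert hi, sup_insert, ih, ← Submodule.finrank_sup_add_finrank_inf_eq,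
      ((hV i).mono_right (Finset.sup_le fun j hj =>
        le_iSup₂_of_le j (ne_of_mem_of_not_mem hj hi) le_rfl)).eq_bot, finrank_bot, add_zero]

omit [IsAlgClosed k] in
instance fin_sub (U : Submodule k[G] M) : FiniteDimensional k U :=
  FiniteDimensional.of_injective (U.subtype.restrictScalars k) Subtype.val_injective

/-- For `i < e`, `b i 0` generates a block of size `2 i + 1` up to a correction: choose by
`exists_wt_lift` (`hi`, `wt`; `c = (a^i)⁻¹`) `g_i` of weight `(a^i)⁻¹` with `D^(2i) g_i = b i (2i)`;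
`D^(2i+1) g_i = 0` (`kill`), `b i (2i) ∉ D^(2i+1) M` (`ind`).  `exists_Nmap` (`m = g_i`) and
`exists_Gmap'` give `f_i`, `F_i` with `F_i w ∈ f_i w + D^(p-1) M` for `D w = 0`; `f_i (b i 2i) = b i 2i`
and `f_i (b j 2j) = 0` for `j ≠ i` (it is a multiple of `b i 2i` of weight `a^j ≠ a^i`).  With
`c : ℕ → k` injective and `Φ = ∑_{i<e} c i • F_i` (`A`-linear): `(Φ - c i) (b i 2i) ∈ D^(p-1) M`.
Let `U i` be the generalized `c i`-eigenspace of `Φ` (an `A`-submodule: the kernel of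
`(Φ - c i)^N`; independence from `Module.End.independent_maxGenEigenspace`), `R i` the range of
`(Φ - c i)^N` (Fitting complement, `Φ - c i` bijective on it) and `w i` the `U i`-component of
`b i 2i`.  The `R i`-component `r` has `(Φ - c i) r ∈ D^(p-1) R i`, so `r ∈ D^(p-1) R i`.  For
`m ∈ U i` with `D m = 0` write `m = ∑ γ_j b j 2j + D^(p-1) m'` (`fix`); applying `(Φ - c i)^N` and
`ind` gives `γ_j = 0` for `j ≠ i`; project to `U i`. -/
theorem MS.exists_dec (S : St p x y a e t) (hM : MS k p x y a e t M b) :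
    ∃ (U : ℕ → Submodule k[G] M) (w : ℕ → M), iSupIndep U ∧ ∀ i < e, w i ∈ U i ∧
      Dl k p x • w i = 0 ∧ og k y • w i = (a : k) ^ i • w i ∧
      (∃ m : M, w i = b i (2 * i) + Dl k p x ^ (p - 1) • m) ∧
      (∃ m ∈ U i, w i = Dl k p x ^ (2 * i) • m) ∧
      ∀ m ∈ U i, Dl k p x • m = 0 →
        ∃ (c : k), ∃ m' ∈ U i, m = c • w i + Dl k p x ^ (p - 1) • m' := by
  set c : ℕ ↪ k := Infinite.natEmbedding k
  obtain ⟨Φ, hΦ⟩ := hM.exists_Phi S c
  have : IsNoetherian k[G] M := isNoetherian_of_tower k inferInstance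
  have : IsArtinian k[G] M := isArtinian_of_tower k inferInstance
  have h1 : ∀ i, ∃ N, IsCompl (LinearMap.ker ((Φ - c i • 1 : Module.End k[G] M) ^ (N + 1)))
      (LinearMap.range ((Φ - c i • 1 : Module.End k[G] M) ^ (N + 1))) := fun i => by
    obtain ⟨N, hN⟩ := Filter.eventually_atTop.1
      (LinearMap.eventually_isCompl_ker_pow_range_pow (Φ - c i • 1 : Module.End k[G] M))
    exact ⟨N, hN _ N.le_succ⟩
  choose N hN using h1
  have h2 : ∀ i n, ∀ j < e, ∃ w : M, ((Φ - c i • 1 : Module.End k[G] M) ^ n) (b j (2 * j)) =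
      (c j - c i) ^ n • b j (2 * j) + Dl k p x ^ (p - 1) • w := fun i n j hj => by
    induction n with
    | zero => exact ⟨0, by simp⟩
    | succ n ih =>
      obtain ⟨w, hw⟩ := ih
      obtain ⟨w', hw'⟩ := hΦ j hj
      refine ⟨(c j - c i) ^ n • w' + (Φ - c i • 1 : Module.End k[G] M) w, ?_⟩
      rw [pow_succ', Module.End.mul_apply, hw, map_add, LinearMap.map_smul_of_tower,
        LinearMap.map_smul, LinearMap.sub_apply, hw', smul_add _ (_ • w'),
        smul_comm _ ((c j - c i) ^ n), LinearMap.smul_apply, Module.End.one_apply]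
      generalize Dl k p x ^ (p - 1) • w' = w₁
      generalize Dl k p x ^ (p - 1) • (Φ - c i • 1 : Module.End k[G] M) w = w₂
      module
  refine ⟨fun i => LinearMap.ker ((Φ - c i • 1 : Module.End k[G] M) ^ (N i + 1)),
    fun i => Submodule.projection _ _ (hN i) (b i (2 * i)), ?_, fun i hi => ?_⟩
  · have h3 := (iSupIndep_iff_finsetSum_eq_zero_imp_eq_zero _).1
      ((Module.End.independent_maxGenEigenspace (Φ.restrictScalars k)).comp c.injective)
    refine (iSupIndep_iff_finsetSum_eq_zero_imp_eq_zero _).2 fun s v hv => h3 s v fun i hi => ?_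
    refine (Module.End.mem_maxGenEigenspace _ _ _).2 ⟨N i + 1, ?_⟩
    have h4 : _ = (0 : M) := hv i hi
    rw [Module.End.pow_apply] at h4 ⊢
    exact h4
  have h3 := h2 i (N i + 1)
  dsimp only
  generalize hN i = hN
  generalize (Φ - c i • 1 : Module.End k[G] M) ^ (N i + 1) = A at hN h3 ⊢
  set π := Submodule.projection _ _ hN
  have π1 : ∀ m, π m ∈ LinearMap.ker A := Submodule.projection_apply_mem hN
  have π2 : ∀ m ∈ LinearMap.ker A, π m = m := fun _ => Submodule.projection_apply_of_mem_left hN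
  refine ⟨π1 _, by rw [← map_smul, hM.D_b hi, map_zero],
    by rw [← map_smul, hM.y_b S hi, LinearMap.map_smul_of_tower], ?_, ?_, fun m hm hD => ?_⟩
  · have hE : Function.Bijective (A + π) := IsArtinian.bijective_of_injective_endomorphism _
      ((injective_iff_map_eq_zero _).2 fun m hm => by
        have h4 : A m = 0 := Submodule.disjoint_def.1 hN.disjoint _
          (by rw [eq_neg_of_add_eq_zero_left hm]; exact neg_mem (π1 m)) ⟨m, rfl⟩
        simpa [h4, π2 m h4] using hm)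
    obtain ⟨w, hw⟩ := h3 i hi
    obtain ⟨w', e⟩ := hE.2 (-w)
    refine ⟨w', hE.1 ?_⟩
    rw [map_add, map_smul, e, LinearMap.add_apply, LinearMap.add_apply, hw, π2 _ (π1 _),
      show A (π _) = 0 from π1 _]
    simp
  · obtain ⟨m, hm⟩ := hM.hi i hi (2 * i)
    exact ⟨π m, π1 _, by rw [hm, map_smul]⟩
  obtain ⟨γ, m', rfl⟩ := hM.fix m hD
  choose! w hw using h3
  have h4 : ∑ j ∈ range e, (γ j * (c j - c i) ^ (N i + 1)) • b j (2 * j) =
      Dl k p x ^ (p - 1) • (-(∑ j ∈ range e, γ j • w j) - A m') := by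
    have h5 : A _ = 0 := hm
    rw [map_add, map_sum, sum_congr rfl fun j hj => show A (γ j • b j (2 * j)) =
      (γ j * (c j - c i) ^ (N i + 1)) • b j (2 * j) + Dl k p x ^ (p - 1) • γ j • w j by
        rw [LinearMap.map_smul_of_tower, hw j (mem_range.1 hj), smul_add, mul_smul,
          smul_comm (γ j) (Dl k p x ^ (p - 1))],
      sum_add_distrib, ← smul_sum, map_smul, add_assoc] at h5
    rw [eq_neg_of_add_eq_zero_left h5, smul_sub, smul_neg]
    abel
  refine ⟨γ i, π m', π1 _, ?_⟩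
  rw [← π2 _ hm, sum_eq_single i (fun j hj n => by
    rw [(mul_eq_zero.1 (hM.ind' S h4 (mem_range.1 hj))).resolve_right
      (pow_ne_zero _ (sub_ne_zero.2 (c.injective.ne n))), zero_smul]) (by simp [hi]), map_add,
    LinearMap.map_smul_of_tower, LinearMap.map_smul]

/-- `w = b i (2i) + D^(p-1) m` is not in `D^(2i+1) M` (`ind`, `2 i + 1 ≤ p - 1`). -/
theorem MS.ne_smul (S : St p x y a e t) (hM : MS k p x y a e t M b) {i : ℕ} (hi : i < e)
    (m m' : M) : b i (2 * i) + Dl k p x ^ (p - 1) • m ≠ Dl k p x ^ (2 * i + 1) • m' :=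
  hM.ne_smul' S hi m m'

/-- If `D^(p-1)` kills `U` then `ker D ∩ U = k w` and `D^(2i+1) U = 0` (if `D^r v ≠ 0 = D^(r+1) v`
then `w ∈ D^r M`).  If `ker D ∩ U'` is `G`-invariant for a nonzero submodule `U' ≤ U`, then `k w`
is invariant, `w = c • b 0 0` (`line`), against `ind` (`i ≥ 1`). -/
theorem MS.uniserial (S : St p x y a e t) (hM : MS k p x y a e t M b) {i : ℕ} (hi : i < e)
    (h1 : 1 ≤ i) {U : Submodule k[G] M} {w m : M}
    (hw : w = b i (2 * i) + Dl k p x ^ (p - 1) • m)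
    (hU : ∀ v ∈ U, Dl k p x • v = 0 → ∃ c : k, v = c • w) :
    (∀ v ∈ U, Dl k p x ^ (2 * i + 1) • v = 0) ∧ ∀ U' : Submodule k[G] M, U' ≤ U → U' ≠ ⊥ →
      ¬ ∀ (g : G) (v : U'), Dl k p x • v = 0 → Dl k p x • og k g • v = 0 := by
  have h3 := S.h3
  have top : ∀ v : M, v ≠ 0 → ∃ r, Dl k p x ^ r • v ≠ 0 ∧ Dl k p x • Dl k p x ^ r • v = 0 :=
    fun v => exists_top (n := p) (by rw [D_pow_p S.hx h3, zero_smul])
  refine ⟨fun v hv => by_contra fun h => ?_, fun U' h2 h4 h5 => ?_⟩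
  · obtain ⟨r, r1, r2⟩ := top _ h
    obtain ⟨c, hc⟩ := hU _ (U.smul_mem _ (U.smul_mem _ hv)) r2
    have h0 : c ≠ 0 := by rintro rfl; exact r1 (by simpa using hc)
    refine hM.ne_smul' S hi m (c⁻¹ • Dl k p x ^ r • v) ?_
    rw [smul_comm, pow_smul_add, add_comm (2 * i + 1), ← pow_smul_add, hc, inv_smul_smul₀ h0, hw]
  obtain ⟨v, hv, v0⟩ := (Submodule.ne_bot_iff _).1 h4
  obtain ⟨r, r1, r2⟩ := top _ v0
  have r3 := U'.smul_mem (Dl k p x ^ r) hv
  generalize Dl k p x ^ r • v = v at r1 r2 r3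
  obtain ⟨c, hc⟩ := hU _ (h2 r3) r2
  have h0 : c ≠ 0 := by rintro rfl; exact r1 (by simpa using hc)
  obtain ⟨d, hd⟩ := hM.line v fun g => by
    obtain ⟨d, hd⟩ := hU _ (U.smul_mem (og k g) (h2 r3))
      (congrArg Subtype.val (h5 g ⟨v, r3⟩ (Subtype.ext r2)))
    exact ⟨d * c⁻¹, by rw [hd, hc, mul_smul, inv_smul_smul₀ h0]⟩
  have h6 := S.two_e
  have h7 : i ≠ 0 := by omega
  have := hM.ind {(i, 2 * i), (0, 0)} (fun q => if q.1 = 0 then -d else c) (p - 1) (-(c • m))
    (by simp only [mem_insert, mem_singleton]; rintro _ (rfl | rfl) <;> dsimp only <;> omega)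
    (by
      rw [sum_pair (by simp [h7])]
      simp only [h7, if_true, if_false, neg_smul, ← hd, hc, hw, smul_add, smul_neg, smul_comm c]
      abel) (i, 2 * i) (by simp)
  exact h0 (by simpa [h7] using this)

/-- `t = 2`: `D^(p-1) M` has dimension `≤ 1` (`rk`), so `D^(p-1)` kills `U 1` or `U 2`
(independence); apply `uniserial` and `Gs.pgl` (`s = 5`) to it. -/
theorem MS.two (S : St p x y a e t) (hM : MS k p x y a e t M b) (ht : t = 2) (hp : 11 ≤ p) :
    ∃ ψ : G →* PSL(2, ZMod p), Function.Surjective ψ ∧ ψ x ≠ 1 := by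
  obtain ⟨U, w, hU, hw⟩ := hM.exists_dec S
  have h1 := S.het
  subst ht
  have h2 : ∃ i, 1 ≤ i ∧ i ≤ 2 ∧ ∀ v ∈ U i, Dl k p x ^ (p - 1) • v = 0 := by
    by_contra! h
    set V : ℕ → Submodule k M := fun i =>
      ((U i).restrictScalars k).map (lm k M (Dl k p x ^ (p - 1)))
    have h3 : ∀ i, 1 ≤ i → i ≤ 2 → 1 ≤ Module.finrank k (V i) := fun i i1 i2 => by
      obtain ⟨v, hv, v0⟩ := h i i1 i2
      exact Nat.one_le_iff_ne_zero.2 fun h => v0
        ((Submodule.eq_bot_iff _).1 (Submodule.finrank_eq_zero.1 h) _ ⟨v, hv, rfl⟩)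
    have h4 := sum_finrank (indep_k hU (V := V) (by
      rintro i _ ⟨v, hv, rfl⟩; exact (U i).smul_mem _ hv)) {1, 2}
    have h5 := hM.rk (Finset.sup {1, 2} V) fun m hm => by
      obtain ⟨m', e⟩ := Finset.sup_le (f := V) (fun i _ => LinearMap.map_le_range) hm
      exact ⟨m', e.symm⟩
    have := h3 1 le_rfl one_le_two
    have := h3 2 one_le_two le_rfl
    rw [sum_pair (by omega)] at h4
    omega
  obtain ⟨i, i1, i2, h2⟩ := h2
  have hi : i < e := by omega
  obtain ⟨w1, -, -, ⟨m, hm⟩, -, w2⟩ := hw i hi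
  obtain ⟨h3, h4⟩ := hM.uniserial S hi i1 hm (U := U i) fun v hv hD => by
    obtain ⟨c, m', h1, h3⟩ := w2 v hv hD
    exact ⟨c, by rw [h3, h2 _ h1, add_zero]⟩
  refine ((S.toGs.pgl (k := k) (V := U i) le_rfl (s := 5) (by omega) fun v => Subtype.ext ?_).resolve_right
    (h4 _ le_rfl ((Submodule.ne_bot_iff _).2 ⟨_, w1, ?_⟩))).2
  · change Dl k p x ^ 5 • (v : M) = 0
    rw [pow_smul_of_le' _ (show 2 * i + 1 ≤ 5 by omega), h3 _ v.2, smul_zero]
  · simpa [hm] using hM.ne_smul' S hi m 0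

end Cfsg.Agent.Blau
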