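import Mathlib
import Cfsg.Agent.Char.ModSl2Char
import Cfsg.Agent.Char.FS
import Cfsg.Agent.Block.AlgBasic

/-! Linear groups of degree less than `p - 1` with a Sylow subgroup of prime order `p`:
definitions. -/

set_option autoImplicit false
set_option linter.unusedSectionVars false

namespace Cfsg.Agent.Blau

open Cfsg Finset Subgroup Cfsg.Agent.Char.ModSl2 Cfsg.Agent.Block
open scoped MonoidAlgebra

/-- `⟨x⟩` is a Sylow subgroup of order `p`, `N(⟨x⟩) = ⟨y⟩ C(x)`, `y x y⁻¹ = x ^ a`,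
`e = |N : C|` and `e t = p - 1`. -/
structure Gs (p : ℕ) {G : Type*} [Group G] (x y : G) (a e t : ℕ) : Prop where
  hx : orderOf x = p
  hG : ¬ p ^ 2 ∣ Nat.card G
  h3 : 3 ≤ p
  hxa : y * x * y⁻¹ = x ^ a
  ha : orderOf (a : ZMod p) = e
  het : e * t + 1 = p
  hN : ∀ g : G, g * x * g⁻¹ ∈ zpowers x → ∃ j : ℕ, Commute ((y ^ j)⁻¹ * g) x
  hy : ¬ p ∣ orderOf y

/-- the case of a self-centralizing `⟨x⟩` -/
structure St (p : ℕ) {G : Type*} [Group G] (x y : G) (a e t : ℕ) : Prop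
    extends Gs p x y a e t where
  hC : ∀ g : G, Commute g x → g ∈ zpowers x
  hye : y ^ e = 1
  he : 2 ≤ e
  ht : 2 ≤ t
  nrm : ∀ K : Subgroup G, K.Normal → x ∈ K → y ∈ K

/-- a group element in the group algebra -/
noncomputable abbrev og (k : Type*) [Field k] {G : Type*} [Group G] (g : G) : k[G] :=
  MonoidAlgebra.of k G g

/-- the logarithm of `x` in the group algebra -/
noncomputable def Dl (k : Type*) [Field k] (p : ℕ) {G : Type*} [Group G] (x : G) : k[G] :=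
  lg k p (og k x)

/-- the trace from `1` to `⟨x⟩` in the group algebra -/
noncomputable def trP (k : Type*) [Field k] (p : ℕ) {G : Type*} [Group G] (x : G) (w : k[G]) :
    k[G] :=
  ∑ j ∈ range p, og k (x ^ j) * w * og k (x ^ j)⁻¹

/-- the trace from `1` to `⟨x⟩` of a linear map, evaluated at a vector -/
noncomputable def trF {k : Type*} [Field k] (p : ℕ) {G : Type*} [Group G] (x : G)
    {V W : Type*} [AddCommGroup V] [Module k V] [Module k[G] V]
    [AddCommGroup W] [Module k W] [Module k[G] W] (ψ : V →ₗ[k] W) (v : V) : W :=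
  ∑ j ∈ range p, og k (x ^ j) • ψ (og k (x ^ j)⁻¹ • v)

/-- the class sum of `x` minus `e` -/
noncomputable def zc (k : Type*) [Field k] {G : Type*} [Group G] [Finite G] (x : G) (e : ℕ) :
    k[G] :=
  Alg.cls k ⊤ x - (e : k[G])

/-- The structure of `End (L)` as a module for `N(⟨x⟩)`: `b i 0, …, b i (2 i)` (`i < e`) are the
non-free Jordan chains of `D = log x`. -/
structure MS (k : Type*) [Field k] (p : ℕ) {G : Type*} [Group G] (x y : G) (a e t : ℕ)
    (M : Type*) [AddCommGroup M] [Module k M] [Module k[G] M] [IsScalarTower k k[G] M]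
    (b : ℕ → ℕ → M) : Prop where
  wt : ∀ i < e, ∀ j, (a : k) ^ i • og k y • b i j = (a : k) ^ j • b i j
  kill : ∀ i < e, ∀ j ≤ 2 * i, Dl k p x ^ (2 * i + 1 - j) • b i j = 0
  hi : ∀ i < e, ∀ j, ∃ m : M, b i j = Dl k p x ^ j • m
  ind : ∀ (S : Finset (ℕ × ℕ)) (c : ℕ × ℕ → k) (n : ℕ) (m : M),
    (∀ q ∈ S, q.1 < e ∧ q.2 ≤ 2 * q.1 ∧ q.2 < n) →
      ∑ q ∈ S, c q • b q.1 q.2 = Dl k p x ^ n • m → ∀ q ∈ S, c q = 0
  fix : ∀ m : M, Dl k p x • m = 0 → ∃ (c : ℕ → k) (m' : M),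
    m = ∑ i ∈ range e, c i • b i (2 * i) + Dl k p x ^ (p - 1) • m'
  rk : ∀ U : Submodule k M, (∀ m ∈ U, ∃ m' : M, m = Dl k p x ^ (p - 1) • m') →
    Module.finrank k U + 2 * e ≤ p
  rkw : ∀ (h : ℕ) (U : Submodule k M),
    (∀ m ∈ U, (∃ m' : M, m = Dl k p x ^ (p - 1) • m') ∧ og k y • m = (a : k) ^ h • m) →
      Module.finrank k U + 1 ≤ t ∧ (¬ e ∣ h → Module.finrank k U + 2 ≤ t)
  line : ∀ m : M, (∀ g : G, ∃ c : k, og k g • m = c • m) → ∃ c : k, m = c • b 0 0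

/-- a module with a unique maximal submodule and a Jordan block of middle size -/
structure YS (k : Type*) [Field k] (p : ℕ) {G : Type*} [Group G] [Finite G] (x y : G) (e n : ℕ)
    (Y : Type*) [AddCommGroup Y] [Module k Y] [Module k[G] Y] [IsScalarTower k k[G] Y]
    (J : Submodule k[G] Y) (u : Y) (s : ℕ) : Prop where
  ne : J ≠ ⊤
  max : ∀ U : Submodule k[G] Y, U ≠ ⊤ → U ≤ J
  nil : ∃ N : ℕ, ∀ v : Y, zc k x e ^ N • v = 0
  ntr : ∃ v : Y, og k y • v - v ∉ J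
  lo : n * e < s
  up : s ≤ (n + 1) * e
  half : 2 * s + 1 ≤ p
  kill : Dl k p x ^ s • u = 0
  blk : ∀ v : Y, Dl k p x ^ (s - 1) • u ≠ Dl k p x ^ s • v

/-- the nilpotent Jordan block -/
def jb (k : Type*) [Field k] (d : ℕ) : Matrix (Fin d) (Fin d) k :=
  Matrix.of fun i j => if (i : ℕ) = j + 1 then 1 else 0

/-- a representation of degree `d = p - e` in normal form -/
structure Rp {k : Type*} [Field k] (p : ℕ) {G : Type*} [Group G] (x y : G) (a e d : ℕ)
    (ρ : G →* Matrix (Fin d) (Fin d) k) : Prop where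
  hd : d + e = p
  hJ : lg k p (ρ x) = jb k d
  hy : ∃ μ : k, ρ y = μ • Matrix.diagonal fun j : Fin d => (a : k) ^ (j : ℕ)
  irr : ∀ W : Submodule k (Fin d → k), (∀ g, ∀ w ∈ W, (ρ g).mulVec w ∈ W) → W = ⊥ ∨ W = ⊤

/-- Gauss periods -/
noncomputable def eta (l : ℂ) (a e j : ℕ) : ℂ := ∑ i ∈ range e, l ^ (a ^ i * j)

/-- a faithful irreducible character of degree `p - e` -/
structure Cs (p : ℕ) {G : Type*} [Group G] (x y : G) (a e t : ℕ) (ζ : G → ℂ) (d : ℕ) (l : ℂ) :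
    Prop extends Gs p x y a e t where
  irr : IsIrrCharacter G ζ
  hf : ∀ g, ζ g = ζ 1 → g = 1
  deg : ζ 1 = d
  hd : d + e = p
  hn : ¬ (zpowers x).Normal
  hC : ∀ g : G, Commute g x → ¬ p ∣ orderOf g → g ∈ center G
  prim : IsPrimitiveRoot l p
  val : ∀ j, ¬ p ∣ j → ζ (x ^ j) = -eta l a e j

/-- an exceptional character lying over the square of the central character of `ζ` -/
structure Th (p : ℕ) {G : Type*} [Group G] (x : G) (a e : ℕ) (ζ : G → ℂ) (d : ℕ) (l : ℂ)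
    (θ : G → ℂ) (ε : ℤ) : Prop where
  irr : IsIrrCharacter G θ
  sgn : ε = 1 ∨ ε = -1
  val : ∀ z ∈ center G, ∀ j, ¬ p ∣ j → θ (z * x ^ j) = ε * (ζ z / d) ^ 2 * eta l a e j
  fix : θ 1 ≠ ε * e

end Cfsg.Agent.Blau
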