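import Cfsg.Agent.Blau.Base
import Cfsg.Agent.Char.ModDeg

/-! Jordan blocks of `D = log x`: weight vectors, maps defined on a block, and the criterion for
`D ^ n` to be a trace from the trivial subgroup. -/

set_option autoImplicit false
set_option linter.unusedSectionVars false

namespace Cfsg.Agent.Blau

open Cfsg Finset Subgroup Cfsg.Agent.Char.ModSl2 Cfsg.Agent.Block
open scoped MonoidAlgebra MatrixGroups

variable {k : Type*} [Field k] {p : ℕ} [hp : Fact p.Prime] [CharP k p] {G : Type*} [Group G]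
  [Finite G] {x y : G} {a e t : ℕ}
variable {V W : Type*} [AddCommGroup V] [Module k V] [Module k[G] V] [IsScalarTower k k[G] V]
  [AddCommGroup W] [Module k W] [Module k[G] W] [IsScalarTower k k[G] W]

theorem jor_mul (g h : G) : og k (g * h) = og k g * og k h := map_mul _ g h

theorem jor_pow (g : G) (n : ℕ) : og k (g ^ n) = og k g ^ n := map_pow _ g n

theorem jor_one : og k (1 : G) = 1 := map_one _

theorem jor_map_og {f : V →ₗ[k] W} {z : G} (hf : ∀ v, f (og k z • v) = og k z • f v) {g : G}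
    (hg : g ∈ zpowers z) (v : V) : f (og k g • v) = og k g • f v := by
  obtain ⟨n, rfl⟩ := mem_powers_iff_mem_zpowers.2 hg
  induction n generalizing v with
  | zero => simp only [pow_zero, map_one, one_smul]
  | succ n ih =>
    simp only [pow_succ', map_mul, mul_smul, hf]
    rw [ih _ (pow_mem (mem_zpowers z) n)]

theorem jor_map_pow {f : V →ₗ[k] W} {z : k[G]} (hf : ∀ v, f (z • v) = z • f v) (n : ℕ) (v : V) :
    f (z ^ n • v) = z ^ n • f v := by
  induction n generalizing v with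
  | zero => simp only [pow_zero, one_smul]
  | succ n ih => simp only [pow_succ', mul_smul, hf, ih]

theorem jor_shift {F : ℕ → V} {e : ℕ} (h : F e = F 0) :
    ∑ j ∈ range e, F (j + 1) = ∑ j ∈ range e, F j :=
  add_right_cancel (b := F 0) (by rw [← sum_range_succ', sum_range_succ, h])

theorem jor_avg (he : (e : k) ≠ 0) (m : V) : (e : k)⁻¹ • ∑ _j ∈ range e, m = m := by
  rw [sum_const, card_range, ← Nat.cast_smul_eq_nsmul k, smul_smul, inv_mul_cancel₀ he, one_smul]

theorem jor_eig {z : k[G]} {c : k} {u : V} (h : z • u = c • u) (j : ℕ) : z ^ j • u = c ^ j • u := by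
  induction j with
  | zero => simp only [pow_zero, one_smul]
  | succ j ih => rw [pow_succ', mul_smul, ih, smul_comm, h, smul_smul, pow_succ]

/-- `ModDeg.exists_eigen` for `X = Algebra.lsmul k k V (og k y)` (`X ^ e = 1`), then
`Gs.exists_pow`. -/
theorem St.exists_wt [IsAlgClosed k] [FiniteDimensional k V] (S : St p x y a e t)
    {K U : Submodule k V} (hK : ∀ v ∈ K, og k y • v ∈ K) (h : ¬ K ≤ U) :
    ∃ w ∈ K, w ∉ U ∧ ∃ h < e, og k y • w = (a : k) ^ h • w := by
  have hX : Algebra.lsmul k k V (og k y) ^ e = 1 := by rw [← map_pow, ← map_pow, S.hye, map_one, map_one]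
  obtain ⟨w, hw, hU, c, hc⟩ := Char.ModDeg.exists_eigen (S.e_ne_zero (k := k)) hX hK h
  obtain ⟨j, hj, rfl⟩ := S.exists_pow (Char.ModDeg.pow_eq_one_of_eigen hX (v := w)
    (fun e => hU (by rw [e]; exact U.zero_mem)) hc)
  exact ⟨w, hw, hU, j, hj, hc⟩

/-- the projection onto the `c`-eigenspace of `y`: `pr c v = e⁻¹ ∑_{j<e} (c⁻¹)^j y^j v`.  If
`D ^ n v = m` with `y m = a ^ n c m`, then `w = pr c v` has weight `c`, lies in every
`y`-invariant subspace containing `v`, and `D ^ n w = m` (`Gs.y_smul_D_pow`). -/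
theorem St.exists_wt_lift (S : St p x y a e t) {K : Submodule k V} (hK : ∀ v ∈ K, og k y • v ∈ K)
    {v m : V} (hv : v ∈ K) {n : ℕ} {c : k} (hc : c ^ e = 1) (h : Dl k p x ^ n • v = m)
    (hm : og k y • m = ((a : k) ^ n * c) • m) :
    ∃ w ∈ K, og k y • w = c • w ∧ Dl k p x ^ n • w = m := by
  have c0 : c ≠ 0 := fun e0 => by simp [e0, S.e_pos.ne'] at hc
  have h1 : ∀ j : ℕ, og k y ^ j • v ∈ K := fun j => by
    induction j with
    | zero => simpa using hv
    | succ j ih => rw [pow_succ', mul_smul]; exact hK _ ih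
  have h2 : ∀ j : ℕ, Dl k p x ^ n • og k y ^ j • v = c ^ j • m := fun j => by
    induction j with
    | zero => simpa using h
    | succ j ih =>
      refine smul_right_injective V (pow_ne_zero n (S.a_ne_zero (k := k))) ?_
      simp only
      rw [pow_succ', mul_smul, ← S.y_smul_D_pow, ih, smul_comm, hm, smul_smul, smul_smul]
      congr 1; ring
  refine ⟨(e : k)⁻¹ • ∑ j ∈ range e, c⁻¹ ^ j • og k y ^ j • v,
    K.smul_mem _ (K.sum_mem fun j _ => K.smul_mem _ (h1 j)), ?_, ?_⟩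
  · rw [smul_comm, smul_comm c]
    conv_rhs => rw [← jor_shift (F := fun j => c⁻¹ ^ j • og k y ^ j • v) (by
      rw [← jor_pow, S.hye, inv_pow, hc, jor_one, inv_one, pow_zero, pow_zero])]
    rw [smul_sum (r := og k y), smul_sum (r := c)]
    refine congrArg _ (sum_congr rfl fun j _ => ?_)
    rw [smul_comm, pow_succ' c⁻¹, smul_smul c, mul_inv_cancel_left₀ c0, pow_succ', mul_smul]
  · rw [smul_comm, smul_sum, sum_congr rfl (g := fun _ => m) fun j _ => by
      rw [smul_comm, h2, smul_smul, ← mul_pow, inv_mul_cancel₀ c0, one_pow, one_smul],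
      jor_avg (S.e_ne_zero (k := k))]

theorem jor_indep {z : k[G]} {u : V} {r : ℕ} (hu : z ^ (r + 1) • u = 0)
    (hb : ∀ v : V, z ^ r • u ≠ z ^ (r + 1) • v) {c : ℕ → k} {v : V}
    (h : ∑ j ∈ range (r + 1), c j • z ^ j • u = z ^ (r + 1) • v) (j : ℕ) (hj : j ≤ r) : c j = 0 := by
  induction j using Nat.strong_induction_on with
  | _ j ih =>
  by_contra c0
  refine hb ((c j)⁻¹ • z ^ (r - j) • v) ?_
  rw [smul_comm, smul_smul (z ^ (r + 1)), pow_mul_comm, mul_smul, ← h, smul_sum, sum_eq_single j,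
    smul_comm (z ^ (r - j)), smul_smul, smul_smul (z ^ (r - j)), inv_mul_cancel₀ c0, one_smul, ← pow_add,
    Nat.sub_add_cancel hj]
  · intro i _ hi
    rcases lt_or_gt_of_ne hi with l | l
    · rw [ih i l (l.le.trans hj), zero_smul, smul_zero]
    · rw [smul_comm, smul_smul (z ^ (r - j)), ← pow_add, show r - j + i = (i - j - 1) + (r + 1) by omega,
        pow_add, mul_smul, hu, smul_zero, smul_zero]
  · exact fun e => absurd (mem_range.2 (by omega)) e

/-- `u` generates a Jordan block of size `s` (`s ≥ 1` by `hb`).  The `D^j u` (`j < s`) are linearly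
independent modulo `D^s V` (apply `D^(s-1-j₀)`, `j₀` least with nonzero coefficient), so there is a
functional `φ` vanishing on `D^s V` and on `D^j u` (`j < s - 1`) with `φ (D^(s-1) u) = 1`; put
`f₀ v = ∑_{j<s} φ (D^(s-1-j) v) D^j m`.  It commutes with `D`, and `f₀ u = m`. -/
theorem exists_Pmap {u : V} {m : W} {s : ℕ} (hu : Dl k p x ^ s • u = 0)
    (hb : ∀ v : V, Dl k p x ^ (s - 1) • u ≠ Dl k p x ^ s • v) (hm : Dl k p x ^ s • m = 0) :
    ∃ f : V →ₗ[k] W, f u = m ∧ (∀ v, f (Dl k p x • v) = Dl k p x • f v) ∧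
      ∀ v, f v ∈ Submodule.span k (Set.range fun j : ℕ => Dl k p x ^ j • m) := by
  generalize Dl k p x = z at *
  obtain _ | r := s
  · exact absurd rfl (hb u)
  rw [Nat.add_sub_cancel] at hb
  let L : k[G] → V →ₗ[k] V := fun c => Algebra.lsmul k k V c
  have nm : z ^ r • u ∉ LinearMap.range (L (z ^ (r + 1))) ⊔
      Submodule.span k (Set.range fun j : Fin r => z ^ (j : ℕ) • u) := fun hm => by
    obtain ⟨_, ⟨v, rfl⟩, w, hw, e⟩ := Submodule.mem_sup.1 hm
    obtain ⟨c, rfl⟩ := (Submodule.mem_span_range_iff_exists_fun k).1 hw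
    have := jor_indep hu hb (c := fun j => if h : j < r then -c ⟨j, h⟩ else 1) (v := v) (by
      rw [sum_range_succ, dif_neg (lt_irrefl r), one_smul, ← e, sum_range]
      simp [L, -map_pow]) r le_rfl
    simp at this
  obtain ⟨φ, h1, h2⟩ := LinearMap.exists_extend_of_notMem (0 : _ →ₗ[k] k) nm 1
  have h3 : ∀ v, φ (z ^ (r + 1) • v) = 0 := fun v =>
    LinearMap.congr_fun h1 ⟨_, Submodule.mem_sup_left ⟨v, rfl⟩⟩
  have h4 : ∀ j < r, φ (z ^ j • u) = 0 := fun j hj =>
    LinearMap.congr_fun h1 ⟨_, Submodule.mem_sup_right (Submodule.subset_span ⟨⟨j, hj⟩, rfl⟩)⟩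
  have ap : ∀ v, (∑ j ∈ range (r + 1), (φ ∘ₗ L (z ^ (r - j))).smulRight (z ^ j • m)) v =
      ∑ j ∈ range (r + 1), φ (z ^ (r - j) • v) • z ^ j • m := fun v => by
    rw [LinearMap.sum_apply]; rfl
  refine ⟨∑ j ∈ range (r + 1), (φ ∘ₗ L (z ^ (r - j))).smulRight (z ^ j • m), ?_, fun v => ?_,
    fun v => ?_⟩
  · rw [ap, sum_range_succ', sum_eq_zero fun j hj => by
      rw [h4 _ (by have := mem_range.1 hj; omega), zero_smul]]
    simp [h2]
  · rw [ap, ap, sum_range_succ', smul_sum, sum_range_succ, smul_smul (z ^ (r - 0)), Nat.sub_zero,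
      ← pow_succ, h3, zero_smul, add_zero, smul_comm z, smul_smul z, ← pow_succ', hm, smul_zero, add_zero]
    refine sum_congr rfl fun j hj => ?_
    rw [smul_smul (z ^ _), ← pow_succ, smul_comm z, smul_smul z, ← pow_succ',
      show r - (j + 1) + 1 = r - j by have := mem_range.1 hj; omega]
  · rw [ap]
    exact Submodule.sum_mem _ fun j _ => Submodule.smul_mem _ _ (Submodule.subset_span ⟨j, rfl⟩)

/-- Average `f₀` of `exists_Pmap` over `⟨y⟩`: `f = e⁻¹ ∑_{j<e} y^j f₀ y^{-j}` (commutes with `D` by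
`Gs.y_smul_D_pow`, with `y` since `y ^ e = 1`; the span of the `D^j m` is `y`-invariant). -/
theorem St.exists_Nmap (S : St p x y a e t) {u : V} {m : W} {s : ℕ} {c : k}
    (hu : Dl k p x ^ s • u = 0) (hb : ∀ v : V, Dl k p x ^ (s - 1) • u ≠ Dl k p x ^ s • v)
    (hyu : og k y • u = c • u) (hm : Dl k p x ^ s • m = 0) (hym : og k y • m = c • m) :
    ∃ f : V →ₗ[k] W, f u = m ∧ (∀ v, f (Dl k p x • v) = Dl k p x • f v) ∧
      (∀ v, f (og k y • v) = og k y • f v) ∧
      ∀ v, f v ∈ Submodule.span k (Set.range fun j : ℕ => Dl k p x ^ j • m) := by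
  obtain ⟨f, f1, f2, f3⟩ := exists_Pmap hu hb hm
  have u0 : u ≠ 0 := fun e => hb 0 (by rw [e, smul_zero, smul_zero])
  have c0 : c ≠ 0 := fun e => u0 (by
    have := congrArg (og k y⁻¹ • ·) hyu
    simpa only [e, zero_smul, smul_zero, smul_smul, ← map_mul, inv_mul_cancel, map_one, one_smul] using this)
  have cn : ∀ (j : ℕ) (v : V), og k (y ^ j) • og k (y ^ j)⁻¹ • v = v := fun j v => by
    rw [smul_smul, ← map_mul, mul_inv_cancel, map_one, one_smul]
  have cn' : ∀ (j : ℕ) (v : V), og k (y ^ j)⁻¹ • og k (y ^ j) • v = v := fun j v => by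
    rw [smul_smul, ← map_mul, inv_mul_cancel, map_one, one_smul]
  have yD : ∀ j : ℕ, og k (y ^ j) * Dl k p x = (a : k) ^ j • (Dl k p x * og k (y ^ j)) := fun j => by
    induction j with
    | zero => simp only [pow_zero, map_one, one_mul, mul_one, one_smul]
    | succ j ih => rw [pow_succ, jor_mul, mul_assoc, S.og_mul_D, mul_smul_comm, ← mul_assoc, ih,
        smul_mul_assoc, smul_smul, mul_assoc, pow_succ']
  let F : ℕ → V →ₗ[k] W := fun j =>
    Algebra.lsmul k k W (og k (y ^ j)) ∘ₗ f ∘ₗ Algebra.lsmul k k V (og k (y ^ j)⁻¹)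
  have hF : ∀ j v, F j v = og k (y ^ j) • f (og k (y ^ j)⁻¹ • v) := fun _ _ => rfl
  have ap : ∀ v, ((e : k)⁻¹ • ∑ j ∈ range e, F j) v = (e : k)⁻¹ • ∑ j ∈ range e, F j v := fun v => by
    rw [LinearMap.smul_apply, LinearMap.sum_apply]
  refine ⟨(e : k)⁻¹ • ∑ j ∈ range e, F j, ?_, fun v => ?_, fun v => ?_, fun v => ?_⟩
  · rw [ap, sum_congr rfl (g := fun _ => m) fun j _ => ?_, jor_avg (S.e_ne_zero (k := k))]
    refine smul_right_injective W (pow_ne_zero j c0) ?_
    simp only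
    rw [hF, smul_comm, ← map_smul, smul_comm, ← jor_eig hyu, ← jor_pow, cn', f1, jor_pow, jor_eig hym]
  · rw [ap, ap, smul_comm, smul_sum (r := Dl k p x)]
    refine congrArg _ (sum_congr rfl fun j _ => ?_)
    refine smul_right_injective W (pow_ne_zero j (S.a_ne_zero (k := k))) ?_
    simp only
    rw [hF, hF, smul_smul (Dl k p x), ← smul_assoc _ (Dl k p x * _), ← yD, mul_smul, ← f2, smul_comm,
      ← map_smul, smul_comm]
    conv_lhs => rw [← cn j v, smul_smul (Dl k p x), ← smul_assoc _ (Dl k p x * _), ← yD, mul_smul, cn']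
  · rw [ap, ap, smul_comm, smul_sum (r := og k y), ← jor_shift (F := fun j => F j (og k y • v)) (by
      rw [hF, hF, S.hye, pow_zero])]
    refine congrArg _ (sum_congr rfl fun j _ => ?_)
    rw [hF, hF, smul_smul (og k y), smul_smul (og k _⁻¹), ← map_mul, ← map_mul, ← pow_succ',
      pow_succ' y j, mul_inv_rev, inv_mul_cancel_right]
  · rw [ap]
    refine Submodule.smul_mem _ _ (Submodule.sum_mem _ fun j hj => ?_)
    clear hj
    rw [hF, jor_pow]
    generalize f _ = w, f3 (og k (y ^ j)⁻¹ • v) = hw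
    induction j with
    | zero => simpa using hw
    | succ j ih =>
      rw [pow_succ', mul_smul]
      refine Submodule.span_induction (p := fun w _ => og k y • w ∈ _) ?_ (by simp)
        (fun _ _ _ _ h1 h2 => by rw [smul_add]; exact Submodule.add_mem _ h1 h2)
        (fun r _ _ h => by rw [smul_comm]; exact Submodule.smul_mem _ _ h) ih
      rintro _ ⟨i, rfl⟩
      rw [S.y_smul_D_pow, hym, smul_comm _ c]
      exact Submodule.smul_mem _ _ (Submodule.smul_mem _ _ (Submodule.subset_span ⟨i, rfl⟩))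

/-- `exists_Gmap` (an element normalizing `⟨x⟩` is `y^j x^i` by `hN`, `hC`; `map_x_of_map_D`) and
`trF_mem`. -/
theorem St.exists_Gmap' (S : St p x y a e t) (f : V →ₗ[k] W)
    (hD : ∀ v, f (Dl k p x • v) = Dl k p x • f v) (hy : ∀ v, f (og k y • v) = og k y • f v) :
    ∃ F : V →ₗ[k[G]] W, ∀ s ≤ p, ∀ u : V, Dl k p x ^ s • u = 0 →
      ∃ w : W, F u = f u + Dl k p x ^ (p - s) • w := by
  obtain ⟨F, ψ, hF⟩ := exists_Gmap S.hx S.hG f fun g hg v => by
    obtain ⟨j, hj⟩ := S.hN g hg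
    rw [← mul_inv_cancel_left (y ^ j) g, jor_mul, mul_smul, mul_smul,
      jor_map_og hy (pow_mem (mem_zpowers y) j), jor_map_og (map_x_of_map_D S.hx S.h3 f hD) (S.hC _ hj)]
  refine ⟨F, fun s hs u hu => ?_⟩
  obtain ⟨w, hw⟩ := trF_mem S.hx S.h3 ψ hs hu
  exact ⟨w, by rw [hF, hw]⟩

theorem jor_sum (hx : orderOf x = p) {c : k[G]} (hc : Alg.Supp (zpowers x) c) :
    ∑ j ∈ range p, c.coeff (x ^ j) • og k (x ^ j) = c := by
  classical
  refine Alg.ext_coeff fun g => ?_
  rw [Alg.coeff_sum_apply]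
  have e : ∀ j : ℕ, (c.coeff (x ^ j) • og k (x ^ j)).coeff g = if x ^ j = g then c.coeff g else 0 :=
    fun j => by
      simp only [og, MonoidAlgebra.of_apply, MonoidAlgebra.smul_single, smul_eq_mul, mul_one,
        MonoidAlgebra.coeff_single, Finsupp.single_apply]
      split_ifs with h
      exacts [by rw [h], rfl]
  simp only [e]
  by_cases h0 : c.coeff g = 0
  · simp [h0]
  obtain ⟨n, rfl⟩ := mem_powers_iff_mem_zpowers.2 (hc.mem h0)
  rw [sum_eq_single (n % p), if_pos (by rw [← hx, pow_mod_orderOf])]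
  · intro j hj ne
    refine if_neg fun e => ne ?_
    rw [← Nat.mod_eq_of_lt (mem_range.1 hj)]
    exact hx ▸ pow_eq_pow_iff_modEq.1 e
  · exact fun e => absurd (mem_range.2 (Nat.mod_lt _ hp.out.pos)) e

theorem jor_span {z : k[G]} {f g : V →ₗ[k] W} {u : V} (hf : ∀ v, f (z • v) = z • f v)
    (hg : ∀ v, g (z • v) = z • g v) (h : f u = g u) {v : V}
    (hv : v ∈ Submodule.span k (Set.range fun j : ℕ => z ^ j • u)) : f v = g v :=
  LinearMap.eqOn_span (by
    rintro _ ⟨j, rfl⟩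
    rw [jor_map_pow hf, jor_map_pow hg, h]) hv

theorem jor_block (hx : orderOf x = p) (h3 : 3 ≤ p) {n s : ℕ} {u : V} (hs : s ≤ p)
    (hn : s ≤ n ∨ p ≤ s + n) (hu : Dl k p x ^ s • u = 0)
    (hb : ∀ v : V, Dl k p x ^ (s - 1) • u ≠ Dl k p x ^ s • v) {π : V →ₗ[k] V}
    (hπ : ∀ v, π (Dl k p x • v) = Dl k p x • π v)
    (hr : ∀ v, π v ∈ Submodule.span k (Set.range fun j : ℕ => Dl k p x ^ j • u)) :
    ∃ ψ : V →ₗ[k] V, ∀ v, trF p x ψ v = Dl k p x ^ n • π v := by
  have cm : ∀ v : V, Algebra.lsmul k k V (Dl k p x ^ n) (Dl k p x • v) =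
      Dl k p x • Algebra.lsmul k k V (Dl k p x ^ n) v := fun v => by
    simp only [Algebra.lsmul_coe, smul_smul, pow_mul_comm']
  rcases hn with hn | hn
  · refine ⟨0, fun v => ?_⟩
    have := jor_span (g := 0) cm (by simp) (by
      change Dl k p x ^ n • u = 0
      rw [← Nat.sub_add_cancel hn, pow_add, mul_smul, hu, smul_zero]) (hr v)
    simpa [trF, ← map_pow] using this.symm
  obtain ⟨i, i1, i2, i3⟩ := exists_Pmap (W := k[G]) (m := Dl k p x ^ (p - s)) hu hb (by
    rw [smul_eq_mul, ← pow_add, Nat.add_sub_cancel' hs, D_pow_p hx h3])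
  have sp : ∀ v, Alg.Supp (zpowers x) (i v) := fun v => by
    refine Alg.supp_iff.2 ((Submodule.span_le (p := (Alg.fix k (zpowers x) ⊥).toSubmodule)).2 ?_ (i3 v))
    rintro _ ⟨j, rfl⟩
    exact (Alg.fix k (zpowers x) ⊥).mul_mem (pow_mem (Alg.supp_iff.1 supp_D) _)
      (pow_mem (Alg.supp_iff.1 supp_D) _)
  let w := Dl k p x ^ (n + s - p) • u
  let q : k[G] →ₗ[k] V := (LinearMap.toSpanSingleton k[G] V w).restrictScalars k
  let c1 : k[G] →ₗ[k] k :=
    { toFun := fun c => c.coeff 1, map_add' := fun _ _ => rfl, map_smul' := fun _ _ => rfl }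
  refine ⟨(c1 ∘ₗ i ∘ₗ π).smulRight w, fun v => ?_⟩
  have e1 : (q ∘ₗ i) (π v) = Dl k p x ^ n • π v := jor_span (g := Algebra.lsmul k k V (Dl k p x ^ n))
    (fun v => by
      change i _ • w = _ • i v • w
      rw [i2, smul_assoc]) cm (by
      change i u • w = Dl k p x ^ n • u
      rw [i1, smul_smul, ← pow_add, show p - s + (n + s - p) = n by omega]) (hr v)
  rw [← e1]
  change _ = i (π v) • w
  rw [← jor_sum hx (sp (π v)), sum_smul]
  refine sum_congr rfl fun j _ => ?_
  change og k (x ^ j) • ((i ∘ₗ π) (og k (x ^ j)⁻¹ • v)).coeff 1 • w = _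
  rw [jor_map_og (map_x_of_map_D hx h3 (i ∘ₗ π) fun v => by
    simp only [LinearMap.comp_apply, hπ, i2]) (inv_mem (pow_mem (mem_zpowers x) j)), smul_comm, smul_assoc]
  congr 1
  simp [og]

/-- If every Jordan block of `D` has size `≤ n` or `≥ p - n`, then `D ^ n` is a trace from `1`.
Suggested proof: prove by induction on the dimension, for `D`-invariant subspaces `U` (these are
`x`-invariant: `map_x_of_map_D`-like, or use `exists_D_unit`) satisfying the hypothesis inside `U`,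
that there is `ψ : V → V` with `trF ψ v = D^n v` on `U`.  Take `u ∈ U` of maximal order `s`
(`D^s U = 0 ≠ D^(s-1) u`); the construction of `exists_Pmap` (with `m = u`) gives a projection `π`
of `U` onto `B = span (D^j u)` commuting with `D`; `U = B ⊕ ker π`, the hypothesis passes to
`ker π`, and `s ≤ n` or `p ≤ s + n`.  On `B`: if `s ≤ n` take `0`.  Otherwise the maps
`i : B → k⟨x⟩, D^j u ↦ D^(p-s+j)` and `q : k⟨x⟩ → B, c ↦ c D^(n+s-p) u` commute with `x`,
`q i = D^n`, and `id = trF ψ₀` on `k⟨x⟩` for `ψ₀ c = c.coeff 1 • 1`; so `D^n = trF (q ψ₀ i)`.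
(One may instead use the structure theorem for torsion modules over `k[X]`.) -/
theorem exists_trF [FiniteDimensional k V] (hx : orderOf x = p) (h3 : 3 ≤ p) {n : ℕ}
    (h : ∀ (s : ℕ) (u : V), n < s → s + n < p → Dl k p x ^ s • u = 0 →
      ∃ v : V, Dl k p x ^ (s - 1) • u = Dl k p x ^ s • v) :
    ∃ ψ : V →ₗ[k] V, ∀ v, trF p x ψ v = Dl k p x ^ n • v := by
  classical
  suffices ∀ (d : ℕ) (P : V →ₗ[k] V), Module.finrank k (LinearMap.range P) = d → (∀ v, P (P v) = P v) →
      (∀ v, P (Dl k p x • v) = Dl k p x • P v) → ∃ ψ : V →ₗ[k] V, ∀ v,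
        trF p x ψ v = Dl k p x ^ n • P v from this _ LinearMap.id rfl (fun _ => rfl) fun _ => rfl
  intro d
  induction d using Nat.strong_induction_on with
  | _ d ih =>
  intro P hd P2 PD
  have ex : ∃ s, ∀ v, Dl k p x ^ s • P v = 0 := ⟨p, fun v => by rw [D_pow_p hx h3, zero_smul]⟩
  have s1 := Nat.find_spec ex
  have s2 : Nat.find ex ≤ p := Nat.find_min' ex fun v => by rw [D_pow_p hx h3, zero_smul]
  by_cases s0 : Nat.find ex = 0
  · refine ⟨0, fun v => ?_⟩
    have := s1 v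
    rw [s0, pow_zero, one_smul] at this
    simp [trF, this]
  obtain ⟨u0, hu0⟩ := not_forall.1 (Nat.find_min ex (Nat.sub_one_lt s0))
  generalize Nat.find ex = s at *
  have hb : ∀ v : V, Dl k p x ^ (s - 1) • P u0 ≠ Dl k p x ^ s • v := fun v e => hu0 (by
    rw [← P2, ← jor_map_pow PD, e, jor_map_pow PD, s1])
  obtain ⟨f, f1, f2, f3⟩ := exists_Pmap (s1 u0) hb (s1 u0)
  have Pf : ∀ v, P (f v) = f v := fun v => jor_span (g := LinearMap.id) PD (fun _ => rfl) (P2 u0) (f3 v)
  have ff : ∀ v, f (f v) = f v := fun v => jor_span (g := LinearMap.id) f2 (fun _ => rfl) f1 (f3 v)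
  obtain ⟨ψ1, h1⟩ := jor_block hx h3 (n := n) s2 (by
    by_contra! c
    obtain ⟨v, e⟩ := h s _ c.1 c.2 (s1 u0)
    exact hb v e) (s1 u0) hb (π := f ∘ₗ P) (fun v => by simp only [LinearMap.comp_apply, PD, f2])
    fun v => f3 _
  have Q2 : ∀ v, (P - f ∘ₗ P) ((P - f ∘ₗ P) v) = (P - f ∘ₗ P) v := fun v => by
    simp only [LinearMap.sub_apply, LinearMap.comp_apply, map_sub, P2, Pf, ff, sub_self, sub_zero]
  obtain ⟨ψ2, h2⟩ := ih _ (hd ▸ Submodule.finrank_lt_finrank_of_lt (lt_of_le_of_ne (by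
      rintro _ ⟨v, rfl⟩
      exact ⟨v - f (P v), by simp only [LinearMap.sub_apply, LinearMap.comp_apply, map_sub, Pf]⟩)
      fun e => by
        obtain ⟨v, hv⟩ : P u0 ∈ LinearMap.range (P - f ∘ₗ P) := e ▸ ⟨u0, rfl⟩
        have := Q2 v
        rw [hv, LinearMap.sub_apply, LinearMap.comp_apply, P2, f1, sub_self] at this
        exact hu0 (by rw [← this, smul_zero]))) (P - f ∘ₗ P) rfl Q2
    fun v => by simp only [LinearMap.sub_apply, LinearMap.comp_apply, PD, f2, smul_sub]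
  refine ⟨ψ1 + ψ2, fun v => ?_⟩
  have : trF p x (ψ1 + ψ2) v = trF p x ψ1 v + trF p x ψ2 v := by
    simp only [trF, LinearMap.add_apply, smul_add, sum_add_distrib]
  rw [this, h1, h2, ← smul_add, LinearMap.sub_apply, add_sub_cancel]

end Cfsg.Agent.Blau
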