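import Cfsg.Agent.Blau.Base
import Cfsg.Agent.Char.ModDeg

/-! The reduction modulo `p` of a faithful character of degree at most `p - e`. -/

set_option autoImplicit false
set_option linter.unusedSectionVars false

namespace Cfsg.Agent.Blau

open Cfsg Finset Subgroup Cfsg.Agent.Char Cfsg.Agent.Char.ModSl2 Cfsg.Agent.Block
open scoped MonoidAlgebra MatrixGroups

variable {p : ℕ} [hp : Fact p.Prime] {G : Type*} [Group G] [Finite G] {x y : G} {a e t : ℕ}

namespace LstA

variable {k : Type*} [Field k] [IsAlgClosed k] [CharP k p] {W : Type*}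
    [AddCommGroup W] [Module k W] [FiniteDimensional k W]

theorem lift_Dl (τ : G →* Module.End k W) :
    MonoidAlgebra.lift k (Module.End k W) G τ (Dl k p x) = lg k p (τ x) := by
  rw [Dl, map_lg, og, MonoidAlgebra.lift_of]

theorem lg_pow_finrank (S : Gs p x y a e t) (τ : G →* Module.End k W) :
    lg k p (τ x) ^ Module.finrank k W = 0 := by
  have h1 : lg k p (τ x) ^ p = 0 := by
    rw [← lift_Dl, ← map_pow, D_pow_p S.hx S.h3, map_zero]
  have h2 := LinearMap.aeval_self_charpoly (lg k p (τ x))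
  rwa [(LinearMap.isNilpotent_iff_charpoly _).1 ⟨p, h1⟩, map_pow, Polynomial.aeval_X] at h2

theorem mul_lg (S : Gs p x y a e t) (τ : G →* Module.End k W) :
    τ y * lg k p (τ x) = (a : k) • (lg k p (τ x) * τ y) := by
  have h1 := congrArg (MonoidAlgebra.lift k (Module.End k W) G τ) (S.og_mul_D (k := k))
  rwa [map_smul, map_mul, map_mul, lift_Dl, og, MonoidAlgebra.lift_of] at h1

theorem e_lt (S : Gs p x y a e t) : e < p := by
  have := S.het; have := S.h3
  rcases Nat.eq_zero_or_pos t with rfl | h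
  · omega
  · have := Nat.le_mul_of_pos_right e h
    omega

theorem alt (S : Gs p x y a e t) (ht : 2 ≤ t) (τ : G →* Module.End k W)
    (hirr : ∀ U : Submodule k W, (∀ g, ∀ w ∈ U, τ g w ∈ U) → U = ⊥ ∨ U = ⊤)
    (hnc : ∃ g, ¬ Commute (τ (g * x * g⁻¹)) (τ x)) (hde : Module.finrank k W + e ≤ p) :
    (2 * e + 1 = p ∧ ∃ ψ : G →* PSL(2, ZMod p), Function.Surjective ψ ∧ ψ x ≠ 1) ∨
      (Module.finrank k W + e = p ∧ lg k p (τ x) ^ (Module.finrank k W - 1) ≠ 0) := by
  let L := MonoidAlgebra.lift k (Module.End k W) G τ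
  let _ : Module k[G] W := Module.compHom W L.toRingHom
  have hs : ∀ (u : k[G]) (w : W), u • w = L u w := fun _ _ => rfl
  have : IsScalarTower k k[G] W := ⟨fun c u w => by rw [hs, hs, map_smul]; rfl⟩
  have hog : ∀ (g : G) (w : W), og k g • w = τ g w := fun g w => by
    rw [hs, og, MonoidAlgebra.lift_of]
  have hD : ∀ (n : ℕ) (w : W), Dl k p x ^ n • w = (lg k p (τ x) ^ n) w := fun n w => by
    rw [hs, map_pow, lift_Dl]
  have hD1 : ∀ w : W, Dl k p x • w = lg k p (τ x) w := fun w => by
    rw [hs, lift_Dl]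
  obtain ⟨g₀, hg₀⟩ := hnc
  have hW : Nontrivial W := by
    by_contra h
    rw [not_nontrivial_iff_subsingleton] at h
    exact hg₀ (Subsingleton.elim _ _)
  have he := S.e_pos
  have hn := lg_pow_finrank S τ
  have hz : ∃ c : k, ∀ v : W, zc k x e • v = c • v := by
    obtain ⟨c, hc⟩ := Module.End.exists_eigenvalue (L (zc k x e))
    refine ⟨c, fun v => ?_⟩
    rcases hirr (Module.End.eigenspace (L (zc k x e)) c) (fun g w hw => by
      rw [Module.End.mem_eigenspace_iff] at hw ⊢
      rw [← hog, ← hs, ← mul_smul, (zc_commute _).eq, mul_smul, hs (zc k x e), hw, hog, hog,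
        map_smul]) with h | h
    · exact absurd h hc
    · exact Module.End.mem_eigenspace_iff.1 (h ▸ Submodule.mem_top)
  rcases S.small_or_large (V := W) hz (fun v => by
    rw [hD, pow_eq_zero_of_le (by omega) hn, LinearMap.zero_apply]) with h | ⟨v, hv⟩
  · have h1 := S.het
    have h2 := Nat.mul_le_mul_left e ht
    refine Or.inl ((S.pgl (V := W) ht (s := e) (by omega) h).resolve_right fun h3 => ?_)
    rcases hirr (LinearMap.ker (lg k p (τ x))) (fun g w hw => by
      rw [LinearMap.mem_ker, ← hD1] at hw ⊢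
      rw [← hog]
      exact h3 g w hw) with h4 | h4
    · have h5 : IsUnit (lg k p (τ x)) :=
        (LinearMap.isUnit_iff_ker_eq_bot _).2 h4
      exact (h5.pow _).ne_zero hn
    · have h5 : τ x = 1 := LinearMap.ext fun w => by
        rw [← hog, Module.End.one_apply, ← D_smul_eq_zero_iff S.hx S.h3, hD1]
        exact LinearMap.mem_ker.1 (h4 ▸ Submodule.mem_top)
      exact hg₀ (h5 ▸ Commute.one_right _)
  · rw [hD] at hv
    have h1 : p - e - 1 < Module.finrank k W := by
      by_contra h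
      exact hv (by rw [pow_eq_zero_of_le (by omega) hn, LinearMap.zero_apply])
    refine Or.inr ⟨by omega, fun h => hv ?_⟩
    rw [show p - e - 1 = Module.finrank k W - 1 by omega, h, LinearMap.zero_apply]

end LstA

/-- Change of basis.  `D = lg (τ x)` is nilpotent on a space of dimension `d` with
`D^(d-1) ≠ 0`; `τ y` has finite order prime to `p` and `τ y D = a D τ y` (`lg_pow`), so there is an
eigenvector `v` of `τ y` outside `ker D^(d-1)` (`ModDeg.exists_eigen`); the `D^j v` form a basis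
(`ModDeg.indep_chain`), take matrices in it (`LinearMap.toMatrixAlgEquiv`; it commutes with
`lg`). -/
theorem exists_rp_of_end {k : Type*} [Field k] [IsAlgClosed k] [CharP k p] {W : Type*}
    [AddCommGroup W] [Module k W] [FiniteDimensional k W] (S : Gs p x y a e t) {d : ℕ}
    (hd : d + e = p) (hW : Module.finrank k W = d) (τ : G →* Module.End k W)
    (hirr : ∀ U : Submodule k W, (∀ g, ∀ w ∈ U, τ g w ∈ U) → U = ⊥ ∨ U = ⊤)
    (h : lg k p (τ x) ^ (d - 1) ≠ 0) :
    ∃ ρ : G →* Matrix (Fin d) (Fin d) k, Rp p x y a e d ρ := by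
  classical
  have hep := LstA.e_lt S
  obtain ⟨s, rfl⟩ : ∃ s, d = s + 1 := ⟨d - 1, by omega⟩
  rw [Nat.add_sub_cancel] at h
  have h1 : lg k p (τ x) ^ (s + 1) = 0 := hW ▸ LstA.lg_pow_finrank S τ
  have h2 := LstA.mul_lg S τ
  obtain ⟨v, -, hv, μ, hμ⟩ := ModDeg.exists_eigen (X := τ y) (e := orderOf y) (K := ⊤)
    (U := LinearMap.ker (lg k p (τ x) ^ s))
    (fun h => S.hy ((CharP.cast_eq_zero_iff k p _).1 h))
    (by rw [← map_pow, pow_orderOf_eq_one, map_one]) (fun _ _ => trivial)
    fun h' => h (LinearMap.ker_eq_top.1 (top_le_iff.1 h'))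
  have hv' : (lg k p (τ x) ^ s) v ≠ 0 := hv
  have h3 := ModDeg.indep_chain h1 hv'
  let B := basisOfLinearIndependentOfCardEqFinrank h3 (by simp [hW])
  have hB : ∀ j, B j = (lg k p (τ x) ^ (j : ℕ)) v := fun j => by simp [B]
  let L := LinearMap.toMatrixAlgEquiv B
  refine ⟨L.toAlgHom.toMonoidHom.comp τ, hd, ?_, ⟨μ, ?_⟩, fun U hU => ?_⟩
  · change lg k p (L.toAlgHom (τ x)) = _
    rw [← map_lg]
    ext i j
    change LinearMap.toMatrixAlgEquiv B _ i j = _
    rw [LinearMap.toMatrixAlgEquiv_apply, hB, ← Module.End.mul_apply, ← pow_succ', jb,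
      Matrix.of_apply]
    by_cases h4 : (j : ℕ) + 1 < s + 1
    · rw [show (lg k p (τ x) ^ ((j : ℕ) + 1)) v = B ⟨_, h4⟩ from (hB ⟨_, h4⟩).symm,
        Module.Basis.repr_self, Finsupp.single_apply]
      simp only [Fin.ext_iff, eq_comm]
    · rw [pow_eq_zero_of_le (by omega) h1, LinearMap.zero_apply, map_zero, if_neg (by omega)]
      rfl
  · ext i j
    change LinearMap.toMatrixAlgEquiv B _ i j = _
    rw [LinearMap.toMatrixAlgEquiv_apply, hB, ModDeg.eigen_pow h2 hμ, ← hB, map_smul,
      Module.Basis.repr_self, Matrix.smul_apply, Matrix.diagonal_apply, Finsupp.smul_apply,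
      Finsupp.single_apply]
    by_cases h4 : i = j
    · simp [h4]
    · simp [h4, Ne.symm h4]
  · have h4 : ∀ g w, B.equivFun (τ g w) =
        ((L.toAlgHom.toMonoidHom.comp τ) g).mulVec (B.equivFun w) := fun g w =>
      (LinearMap.toMatrix_mulVec_repr B B (τ g) w).symm
    have h5 := Submodule.map_comap_eq_of_surjective (f := B.equivFun.toLinearMap)
      B.equivFun.surjective U
    rcases hirr (U.comap B.equivFun.toLinearMap) (fun g w hw => by
      change B.equivFun (τ g w) ∈ U
      rw [h4]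
      exact hU g _ hw) with h6 | h6
    · exact Or.inl (by rw [← h5, h6, Submodule.map_bot])
    · exact Or.inr (by rw [← h5, h6, Submodule.map_top, LinearEquiv.range])

/-- Take `i` from `ModSl2.exists_brRep`, `τ = ModDeg.brEnd i` (irreducible: `span_brEnd`) of
dimension `n = brDeg i ≤ d` (`brDeg_le_charDegree`), and the module `V = Representation.asModule τ`.
`zc k x e` is scalar on `V` (eigenvector, `zc_commute`), `D^n = 0` on `V` (nilpotent,
`n ≤ p - e ≤ p - 1`).  `small_or_large`: in the small case `Gs.pgl` (`s = e`) gives the first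
alternative, since an invariant `ker D ≠ 0` would be everything and then all conjugates of `x` act
trivially.  In the large case `p - e ≤ n ≤ d`, so `n = d = p - e`; `exists_rp_of_end`. -/
theorem Gs.exists_rp (S : Gs p x y a e t) (ht : 2 ≤ t) (hn : ¬ (zpowers x).Normal) {ζ : G → ℂ}
    (hζ : IsCharacter G ζ) (hf : ∀ g, ζ g = ζ 1 → g = 1) {d : ℕ} (hd : ζ 1 = d)
    (hde : d + e ≤ p) :
    (2 * e + 1 = p ∧ ∃ ψ : G →* PSL(2, ZMod p), Function.Surjective ψ ∧ ψ x ≠ 1) ∨
      (d + e = p ∧ ∃ (k : Type) (_ : Field k) (_ : IsAlgClosed k) (_ : CharP k p)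
        (ρ : G →* Matrix (Fin d) (Fin d) k), Rp p x y a e d ρ) := by
  obtain ⟨M, hM⟩ := exists_isPModular hp.out
  have := charP_resField hM
  obtain ⟨i, hi, g, hnc⟩ := exists_brRep hM S.hx S.hG hn hζ hf
  have h1 := brDeg_le_charDegree hζ hi
  rw [charDegree_eq_of_one_eq hd] at h1
  have hirr : ∀ U : Submodule (resField M) (Fin (brDeg i) → resField M),
      (∀ g, ∀ w ∈ U, ModDeg.brEnd i g w ∈ U) → U = ⊥ ∨ U = ⊤ := fun U hU => by
    refine or_iff_not_imp_left.2 fun h => ?_
    obtain ⟨w, hw, hw0⟩ := (Submodule.ne_bot_iff U).1 h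
    rw [eq_top_iff, ← ModDeg.span_brEnd i hw0, Submodule.span_le]
    rintro _ ⟨g, rfl⟩
    exact hU g w hw
  have h2 : Module.finrank (resField M) (Fin (brDeg i) → resField M) = brDeg i := by simp
  refine (LstA.alt S ht (ModDeg.brEnd i) hirr ⟨g, fun h => hnc ?_⟩ (by omega)).imp_right
    fun ⟨h3, h4⟩ => ?_
  · refine (Matrix.toLinAlgEquiv' (R := resField M) (n := Fin (brDeg i))).injective ?_
    rw [map_mul Matrix.toLinAlgEquiv', map_mul Matrix.toLinAlgEquiv']
    exact h.eq
  · have h5 : Module.finrank (resField M) (Fin (brDeg i) → resField M) = d := by omega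
    rw [h5] at h3 h4
    exact ⟨h3, resField M, inferInstance, inferInstance, inferInstance,
      exists_rp_of_end S h3 h5 _ hirr h4⟩

end Cfsg.Agent.Blau
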