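import Cfsg.Agent.Blau.MatA
import Cfsg.Agent.Blau.Base

/-! Passing to `G / Z(G)`. -/

set_option autoImplicit false
set_option linter.unusedSectionVars false

namespace Cfsg.Agent.Blau

open Cfsg Finset Subgroup Cfsg.Agent.Char Cfsg.Agent.Char.ModSl2 Cfsg.Agent.Block
open scoped MonoidAlgebra MatrixGroups

variable {k : Type*} [Field k] [IsAlgClosed k] {p : ℕ} [hp : Fact p.Prime] [CharP k p]
  {G : Type*} [Group G] [Finite G] {x y : G} {a e t : ℕ}
variable {d : ℕ} {ρ : G →* Matrix (Fin d) (Fin d) k}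

namespace LstB

theorem ker_jb {s : ℕ} {w : Fin (s + 1) → k} (h : (jb k (s + 1)).mulVec w = 0) :
    w = w (Fin.last s) • Pi.single (Fin.last s) (1 : k) := by
  ext i
  refine Fin.lastCases (by simp) (fun j => ?_) i
  have h1 := congrFun h j.succ
  rw [Matrix.mulVec, dotProduct, sum_eq_single j.castSucc (fun b _ hb => by
    rw [jb, Matrix.of_apply, if_neg (fun h => hb (Fin.ext (by simpa using h.symm))), zero_mul])
    (by simp)] at h1
  simpa [jb, (Fin.castSucc_lt_last j).ne] using h1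

theorem jb_last {s : ℕ} : (jb k (s + 1)).mulVec (Pi.single (Fin.last s) (1 : k)) = 0 := by
  ext i
  have := i.2
  rw [Matrix.mulVec_single_one]
  simp [jb, Matrix.col, show (i : ℕ) ≠ s + 1 by omega]

theorem last_mem {s : ℕ} {U : Submodule k (Fin (s + 1) → k)} (h0 : U ≠ ⊥)
    (hU : ∀ w ∈ U, (jb k (s + 1)).mulVec w ∈ U) : Pi.single (Fin.last s) (1 : k) ∈ U := by
  classical
  obtain ⟨w, hw, hw0⟩ := (Submodule.ne_bot_iff U).1 h0
  have hex : ∃ r, (jb k (s + 1) ^ r).mulVec w = 0 := ⟨s + 1, by rw [jb_pow_eq_zero le_rfl]; simp⟩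
  obtain ⟨r, hr⟩ := Nat.exists_eq_add_one_of_ne_zero (n := Nat.find hex) fun h => by
    have := Nat.find_spec hex
    rw [h, pow_zero, Matrix.one_mulVec] at this
    exact hw0 this
  have h1 : (jb k (s + 1) ^ (r + 1)).mulVec w = 0 := hr ▸ Nat.find_spec hex
  have h2 : (jb k (s + 1) ^ r).mulVec w ≠ 0 := Nat.find_min hex (by omega)
  have h3 : ∀ n, (jb k (s + 1) ^ n).mulVec w ∈ U := fun n => by
    induction n with
    | zero => simpa using hw
    | succ n ih => rw [pow_succ', ← Matrix.mulVec_mulVec]; exact hU _ ih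
  rw [pow_succ', ← Matrix.mulVec_mulVec] at h1
  have h4 := ker_jb h1
  have h5 := h3 r
  rw [h4] at h2 h5
  exact (U.smul_mem_iff (left_ne_zero_of_smul h2)).1 h5

theorem lg_mem {n : ℕ} {U : Submodule k (Fin n → k)} {X : Matrix (Fin n) (Fin n) k}
    (hU : ∀ w ∈ U, X.mulVec w ∈ U) {w : Fin n → k} (hw : w ∈ U) : (lg k p X).mulVec w ∈ U := by
  have h3 : ∀ n, (X ^ n).mulVec w ∈ U := fun n => by
    induction n with
    | zero => simpa using hw
    | succ n ih => rw [pow_succ', ← Matrix.mulVec_mulVec]; exact hU _ ih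
  rw [lg, Matrix.neg_mulVec, Matrix.sum_mulVec]
  exact neg_mem (sum_mem fun i _ => by rw [Matrix.smul_mulVec]; exact U.smul_mem _ (h3 i))

end LstB

/-- Let `K ⊴ G` contain `x` and `C(x)`.  `exists_gs` for `x' = ⟨x, _⟩ : K` gives `e'`.  On the
module `V = asModule` of `ρ` restricted to `K`, `B = ρ (zc k x' e')` commutes with `ρ K`; it commutes
with `J = lg (ρ x)`, so `B = c + nilpotent` (`eq_sum_of_adJ`) and `W = ker (B - c)` is `K`-invariant
and contains the last basis vector `v` (which spans `ker J`).  Every `ρ g W` is `K`-invariant and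
nonzero, so contains `v` (a nonzero `J`-invariant subspace meets `ker J`); hence `⨅ g, ρ g W` is a
nonzero invariant subspace, `W = ⊤`.  `small_or_large` for `K` (`J^(d-1) ≠ 0 = J^d`) gives
`d ≤ e'` or `p - e' ≤ d`; as `fus p x' ⊆ fus p x` (`card_fus`), `e' ≤ e < d`, so `e' = e`, the two
sets are equal and `x ^ a = g x g⁻¹` with `g ∈ K`; `y⁻¹ g` commutes with `x`. -/
theorem Rp.mem_of_normal (S : Gs p x y a e t) (ht : 2 ≤ t) (R : Rp p x y a e d ρ)
    (K : Subgroup G) [K.Normal] (hK : ∀ g, Commute g x → g ∈ K) : y ∈ K := by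
  classical
  have h1 := S.het
  have h2 := Nat.mul_le_mul_left e ht
  have h3 := S.e_pos
  have hd := R.hd
  obtain ⟨s, rfl⟩ : ∃ s, d = s + 1 := ⟨d - 1, by omega⟩
  let x' : K := ⟨x, hK x (Commute.refl x)⟩
  have hx' : orderOf x' = p := by rw [← Subgroup.orderOf_coe, S.hx]
  obtain ⟨y', a', e', t', S'⟩ := exists_gs hx'
    (fun h => S.hG (h.trans K.card_subgroup_dvd_card)) S.h3
  let L := MonoidAlgebra.lift k (Matrix (Fin (s + 1)) (Fin (s + 1)) k) K (ρ.comp K.subtype)
  let _ : Module k[K] (Fin (s + 1) → k) := Module.compHom _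
    ((Matrix.toLinAlgEquiv' (R := k) (n := Fin (s + 1))).toAlgHom.comp L).toRingHom
  have hs : ∀ (u : k[K]) (w : Fin (s + 1) → k), u • w = (L u).mulVec w := fun _ _ => rfl
  have : IsScalarTower k k[K] (Fin (s + 1) → k) :=
    ⟨fun c u w => by rw [hs, hs, map_smul, Matrix.smul_mulVec]⟩
  have hog : ∀ g : K, L (og k g) = ρ g := fun g => MonoidAlgebra.lift_of _ _
  have hD : ∀ n : ℕ, L (Dl k p x' ^ n) = jb k (s + 1) ^ n := fun n => by
    rw [map_pow, Dl, map_lg, hog, R.hJ]
  have hB : ∀ u, L (zc k x' e') * L u = L u * L (zc k x' e') := fun u =>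
    ((zc_commute u).map L).eq
  have h4 : (jb k (s + 1)).mulVec ((L (zc k x' e')).mulVec (Pi.single (Fin.last s) 1)) = 0 := by
    rw [Matrix.mulVec_mulVec, ← pow_one (jb k (s + 1)), ← hD, ← hB, ← Matrix.mulVec_mulVec, hD,
      pow_one, LstB.jb_last, Matrix.mulVec_zero]
  obtain ⟨c, hc⟩ : ∃ c : k, (L (zc k x' e')).mulVec (Pi.single (Fin.last s) 1) =
    c • Pi.single (Fin.last s) 1 := ⟨_, LstB.ker_jb h4⟩
  let W := Module.End.eigenspace (Matrix.toLin' (L (zc k x' e'))) c
  have hW : ∀ w, w ∈ W ↔ (L (zc k x' e')).mulVec w = c • w := fun w =>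
    Module.End.mem_eigenspace_iff
  have hWK : ∀ g ∈ K, ∀ w ∈ W, (ρ g).mulVec w ∈ W := fun g hg w hw => by
    rw [hW] at hw ⊢
    rw [← hog ⟨g, hg⟩, Matrix.mulVec_mulVec, hB, ← Matrix.mulVec_mulVec, hw, Matrix.mulVec_smul]
  have hv0 : (Pi.single (Fin.last s) 1 : Fin (s + 1) → k) ≠ 0 := by simp
  have h5 : ∀ g, (ρ g).mulVec (Pi.single (Fin.last s) 1) ∈ W := fun g => by
    refine LstB.last_mem (U := W.comap (Matrix.toLin' (ρ g))) ?_ fun w hw => ?_
    · refine (Submodule.ne_bot_iff _).2 ⟨(ρ g⁻¹).mulVec (Pi.single (Fin.last s) 1), ?_, fun h => ?_⟩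
      · change (ρ g).mulVec _ ∈ W
        rw [Matrix.mulVec_mulVec, ← map_mul, mul_inv_cancel, map_one, Matrix.one_mulVec, hW, hc]
      · have h6 := congrArg (ρ g).mulVec h
        rw [Matrix.mulVec_mulVec, ← map_mul, mul_inv_cancel, map_one, Matrix.one_mulVec,
          Matrix.mulVec_zero] at h6
        exact hv0 h6
    · rw [← R.hJ]
      refine LstB.lg_mem (fun w hw => ?_) hw
      change (ρ g).mulVec _ ∈ W
      rw [Matrix.mulVec_mulVec, ← map_mul, show g * x = g * x * g⁻¹ * g by group, map_mul,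
        ← Matrix.mulVec_mulVec]
      exact hWK _ (‹K.Normal›.conj_mem x x'.2 g) _ hw
  have h6 : ∀ w, w ∈ W := fun w => by
    rcases R.irr (⨅ g, W.comap (Matrix.toLin' (ρ g))) (fun g w hw => by
      rw [Submodule.mem_iInf] at hw ⊢
      intro h
      change (ρ h).mulVec _ ∈ W
      rw [Matrix.mulVec_mulVec, ← map_mul]
      exact hw (h * g)) with h | h
    · exact absurd ((Submodule.eq_bot_iff _).1 h _ ((Submodule.mem_iInf _).2 h5)) hv0
    · have h7 := Submodule.eq_top_iff'.1 h w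
      rw [Submodule.mem_iInf] at h7
      simpa using h7 1
  have h7 : fus p x' ⊆ fus p x := fun n hn =>
    mem_fus.2 ⟨(mem_fus.1 hn).1, K.subtype.map_isConj (mem_fus.1 hn).2⟩
  have h8 := card_le_card h7
  rw [S.card_fus, S'.card_fus] at h8
  have h9 : e ≤ e' := by
    rcases S'.small_or_large (k := k) (V := Fin (s + 1) → k) ⟨c, fun v => (hW v).1 (h6 v)⟩
      (fun v => by rw [hs, hD, jb_pow_eq_zero (by omega), Matrix.zero_mulVec]) with h | ⟨v, hv⟩
    · have h10 := congrFun (h (Pi.single 0 1)) ⟨e', by omega⟩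
      rw [hs, hD, Matrix.mulVec_single_one] at h10
      simp [Matrix.col, jb_pow_apply] at h10
    · by_contra h
      exact hv (by rw [hs, hD, jb_pow_eq_zero (by omega), Matrix.zero_mulVec])
  have h10 : a % p ∈ fus p x' := by
    rw [eq_of_subset_of_card_le h7 (by rw [S.card_fus, S'.card_fus]; exact h9), mem_fus]
    refine ⟨Nat.mod_lt _ hp.out.pos, _root_.isConj_iff.2 ⟨y, ?_⟩⟩
    rw [S.hxa, ← S.hx, pow_mod_orderOf]
  obtain ⟨g, hg⟩ := _root_.isConj_iff.1 (mem_fus.1 h10).2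
  have h11 : (g : G) * x * (g : G)⁻¹ = y * x * y⁻¹ := by
    rw [S.hxa, ← pow_mod_orderOf, S.hx]
    exact congrArg Subtype.val hg
  have h12 := hK (y⁻¹ * g) (by
    change y⁻¹ * g * x = x * (y⁻¹ * g)
    calc _ = y⁻¹ * (g * x * (g : G)⁻¹) * g := by group
      _ = _ := by rw [h11]; group)
  simpa using inv_mem (mul_mem h12 (inv_mem g.2))

/-- An element commuting with `x` is `x^i z` with `z` central (its `p`-part lies in `⟨x⟩`:
`le_zpowers_of_normalizer`; its `p'`-part is central). -/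
theorem Gs.exists_mul_center (S : Gs p x y a e t)
    (hC : ∀ g : G, Commute g x → ¬ p ∣ orderOf g → g ∈ center G) {g : G} (hg : Commute g x) :
    ∃ (i : ℕ), ∃ z ∈ center G, g = x ^ i * z := by
  have h1 := le_zpowers_of_normalizer S.hx S.hG (isPGroup_zpowers_pPart p g) (Or.inl
    (zpowers_le.2 (centralizer_le_normalizer _ (by
      rintro _ ⟨j, rfl⟩
      exact ((commute_pPart hg.symm).zpow_left j).eq)))) (mem_zpowers _)
  obtain ⟨i, hi⟩ := (mem_powers_iff_mem_zpowers.2 h1 : _ ∈ Submonoid.powers x)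
  exact ⟨i, pReg p g, hC _ (commute_pReg hg.symm).symm (not_dvd_orderOf_pReg p g),
    by rw [show x ^ i = pPart p g from hi, pPart_mul_pReg]⟩

/-- `x` is not central, so `p ∤ |Z(G)|`; if `g x g⁻¹ = x^i z` with `z` central then `z ^ p = 1`, so
`z = 1`.  `y ^ e` commutes with `x` and has order prime to `p`.  `nrm`: `mem_of_normal` for the
preimage. -/
theorem Rp.st (S : Gs p x y a e t) (ht : 2 ≤ t) (he : 2 ≤ e) (R : Rp p x y a e d ρ)
    (hn : ¬ (zpowers x).Normal)
    (hC : ∀ g : G, Commute g x → ¬ p ∣ orderOf g → g ∈ center G) :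
    St p (QuotientGroup.mk x : G ⧸ center G) (QuotientGroup.mk y) a e t := by
  have hxp : x ^ p = 1 := S.hx ▸ pow_orderOf_eq_one x
  have hZ : ∀ z ∈ center G, z ^ p = 1 → z = 1 := fun z hz h => by
    by_contra h1
    have : (zpowers z).Normal := ⟨fun n hn g => by
      rwa [mem_center_iff.1 (zpowers_le.2 hz hn) g, mul_inv_cancel_right]⟩
    exact hn (eq_zpowers_of_normal S.hx S.hG (H := zpowers z)
      (by rw [Nat.card_zpowers, orderOf_eq_prime h h1]) ▸ this)
  have key : ∀ (g : G) (i : ℤ), (QuotientGroup.mk (x ^ i) : G ⧸ center G) =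
      QuotientGroup.mk (g * x * g⁻¹) → x ^ i = g * x * g⁻¹ := fun g i h => by
    have h1 := QuotientGroup.eq.1 h
    refine inv_mul_eq_one.1 (hZ _ h1 ?_)
    have h2 : (x ^ i * ((x ^ i)⁻¹ * (g * x * g⁻¹))) ^ p = 1 := by
      rw [mul_inv_cancel_left, conj_pow, hxp, mul_one, mul_inv_cancel]
    rwa [Commute.mul_pow (mem_center_iff.1 h1 _), ← zpow_natCast, ← zpow_mul, mul_comm i, zpow_mul,
      zpow_natCast, hxp, one_zpow, one_mul] at h2
  have hm : ∀ g : G, Commute g x →
      (QuotientGroup.mk g : G ⧸ center G) ∈ zpowers (QuotientGroup.mk x) := fun g hg => by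
    obtain ⟨i, z, hz, rfl⟩ := S.exists_mul_center hC hg
    rw [QuotientGroup.mk_mul_of_mem _ hz, QuotientGroup.mk_pow]
    exact npow_mem_zpowers _ i
  refine ⟨⟨orderOf_eq_prime (by rw [← QuotientGroup.mk_pow, hxp, QuotientGroup.mk_one])
      fun h => ?_, fun h => S.hG (h.trans (card_quotient_dvd_card _)), S.h3,
      congrArg (QuotientGroup.mk (s := center G)) S.hxa, S.ha, S.het, fun q hq => ?_,
      fun h => S.hy (h.trans (orderOf_map_dvd (QuotientGroup.mk' _) y))⟩, fun q hq => ?_, ?_, he, ht,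
      fun K _ hK => ?_⟩
  · exact hp.out.one_lt.ne' (by
      rw [← S.hx, hZ x ((QuotientGroup.eq_one_iff x).1 h) hxp, orderOf_one])
  · induction q using QuotientGroup.induction_on with | H g => ?_
    obtain ⟨i, hi⟩ := mem_zpowers_iff.1 hq
    obtain ⟨j, hj⟩ := S.hN g (key g i hi ▸ zpow_mem_zpowers x i)
    exact ⟨j, hj.map (QuotientGroup.mk' (center G))⟩
  · induction q using QuotientGroup.induction_on with | H g => ?_
    refine hm g (mul_inv_eq_iff_eq_mul.1 ((key g 1 ?_).symm.trans (zpow_one x)))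
    rw [zpow_one]
    exact (mul_inv_eq_iff_eq_mul.2 hq.eq).symm
  · rw [← QuotientGroup.mk_pow, QuotientGroup.eq_one_iff]
    refine hC _ (mul_inv_eq_iff_eq_mul.1 ?_) fun h => S.hy (h.trans (orderOf_pow_dvd e))
    rw [S.pow_conj]
    conv_rhs => rw [← pow_one x]
    rw [pow_eq_pow_iff_modEq, S.hx, ← ZMod.natCast_eq_natCast_iff]
    push_cast
    exact S.ha ▸ pow_orderOf_eq_one _
  · exact R.mem_of_normal S ht (K.comap (QuotientGroup.mk' (center G))) fun g hg =>
      zpowers_le.2 hK (hm g hg)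

end Cfsg.Agent.Blau
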