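import Cfsg.Agent.Blau.MatA
import Cfsg.Agent.Blau.Base

/-! `End (L)` as a module for `G / Z(G)`. -/

set_option autoImplicit false
set_option linter.unusedSectionVars false

namespace Cfsg.Agent.Blau

open Cfsg Finset Subgroup Cfsg.Agent.Char Cfsg.Agent.Char.ModSl2 Cfsg.Agent.Block
open scoped MonoidAlgebra MatrixGroups

variable {k : Type*} [Field k] [IsAlgClosed k] {p : ℕ} [hp : Fact p.Prime] [CharP k p]
  {G : Type*} [Group G] [Finite G] {x y : G} {a e t : ℕ}
variable {d : ℕ} {ρ : G →* Matrix (Fin d) (Fin d) k}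

/-- Schur: an eigenspace of `A` is invariant. -/
theorem Rp.scalar (R : Rp p x y a e d ρ) {A : Matrix (Fin d) (Fin d) k}
    (h : ∀ g, Commute (ρ g) A) : ∃ c : k, A = c • (1 : Matrix (Fin d) (Fin d) k) := by
  rcases Nat.eq_zero_or_pos d with rfl | hd
  · exact ⟨0, Subsingleton.elim _ _⟩
  have : Nonempty (Fin d) := ⟨⟨0, hd⟩⟩
  obtain ⟨c, hc⟩ := Module.End.exists_eigenvalue (Matrix.toLin' A)
  have := (R.irr (Module.End.eigenspace (Matrix.toLin' A) c) fun g w hw => by
    rw [Module.End.mem_eigenspace_iff, Matrix.toLin'_apply] at hw ⊢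
    rw [Matrix.mulVec_mulVec, ← (h g).eq, ← Matrix.mulVec_mulVec, hw, Matrix.mulVec_smul]).resolve_left hc
  refine ⟨c, Matrix.toLin'.injective (LinearMap.ext fun v => ?_)⟩
  rw [Module.End.mem_eigenspace_iff.1 (this ▸ Submodule.mem_top : v ∈ _)]
  simp

/-- Central elements are scalar, so conjugation factors through `G / Z(G)`. -/
theorem Rp.exists_sigma (R : Rp p x y a e d ρ) :
    ∃ σ : Representation k (G ⧸ center G) (Matrix (Fin d) (Fin d) k),
      ∀ g A, σ (QuotientGroup.mk g) A = ρ g * A * ρ g⁻¹ := by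
  refine ⟨QuotientGroup.lift (center G) (ad k ρ) fun z hz => LinearMap.ext fun A => ?_,
    fun g A => ad_apply ρ g A⟩
  obtain ⟨c, hc⟩ := R.scalar (A := ρ z) fun g => Commute.map (mem_center_iff.1 hz g) ρ
  exact (ad_eq_self_iff ρ z A).2 (hc ▸ (Commute.one_left A).smul_left c)

theorem mb_nil {R : Type*} [Ring R] [Algebra k R] {X : R} (h : X ^ p = 1) : (X - 1) ^ p = 0 := by
  have : (Polynomial.X - 1 : Polynomial k) ^ p = Polynomial.X ^ p - 1 := by rw [sub_pow_char, one_pow]
  simpa [h] using congrArg (Polynomial.aeval X) this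

theorem mb_key {S : Type*} [CommRing S] [Algebra k S] {l r : S} (hl : IsNilpotent l)
    (hr : IsNilpotent r) {U U' : Polynomial k} (h : U.coeff 0 = 1) (h' : U'.coeff 0 = 1) :
    ∃ v u u' : S, (1 + r) * v = 1 ∧ u * u' = 1 ∧ Polynomial.aeval ((l - r) * v) (Polynomial.X * U') =
      u * (Polynomial.aeval l (Polynomial.X * U) - Polynomial.aeval r (Polynomial.X * U)) := by
  have key : ∀ (n : S) {U : Polynomial k}, U.coeff 0 = 1 → ∃ w, Polynomial.aeval n U = 1 + n * w :=
    fun n U h => ⟨Polynomial.aeval n U.divX, by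
      conv_lhs => rw [← U.X_mul_divX_add, h, map_add, map_mul, Polynomial.aeval_X, map_one, map_one]
      rw [add_comm]⟩
  obtain ⟨v, hv⟩ := hr.isUnit_one_add.exists_right_inv
  obtain ⟨w, hw⟩ : l - r ∣ Polynomial.aeval l U - Polynomial.aeval r U := by
    simpa only [Polynomial.eval_map_algebraMap] using
      Polynomial.sub_dvd_eval_sub l r (U.map (algebraMap k S))
  obtain ⟨w1, h1⟩ := key l h
  obtain ⟨w2, h2⟩ := key ((l - r) * v) h'
  have c := fun a b : S => Commute.all a b
  obtain ⟨g, hg⟩ := ((c _ _).isNilpotent_add ((c _ w1).isNilpotent_mul_right hl)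
    ((c _ w).isNilpotent_mul_right hr)).isUnit_one_add.exists_right_inv
  obtain ⟨q, hq⟩ := ((c _ w2).isNilpotent_mul_right ((c _ v).isNilpotent_mul_right
    ((c _ _).isNilpotent_sub hl hr))).isUnit_one_add.exists_right_inv
  refine ⟨v, v * (1 + (l - r) * v * w2) * g, (1 + r) * q * (1 + (l * w1 + r * w)), hv, ?_, ?_⟩
  · calc _ = (1 + r) * v * ((1 + (l - r) * v * w2) * q) * ((1 + (l * w1 + r * w)) * g) := by ring
      _ = 1 := by rw [hv, hq, hg]; ring
  · rw [map_mul, map_mul, map_mul, Polynomial.aeval_X, Polynomial.aeval_X, Polynomial.aeval_X, h2,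
      show Polynomial.aeval r U = Polynomial.aeval l U - (l - r) * w by rw [← hw]; ring, h1]
    linear_combination (-(l - r) * v * (1 + (l - r) * v * w2)) * hg

theorem mb_mulRight {R : Type*} [Ring R] [Algebra k R] (δ : R) (P : Polynomial k) :
    LinearMap.mulRight k (Polynomial.aeval δ P) = Polynomial.aeval (LinearMap.mulRight k δ) P := by
  induction P using Polynomial.induction_on' with
  | add P Q h1 h2 => rw [map_add, map_add, ← h1, ← h2]; ext; simp [mul_add]
  | monomial n c =>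
    rw [Polynomial.aeval_monomial, Polynomial.aeval_monomial, LinearMap.pow_mulRight]
    ext A
    simp [← Algebra.smul_def]

theorem mb_mulLeft {R : Type*} [Ring R] [Algebra k R] (δ : R) (P : Polynomial k) :
    LinearMap.mulLeft k (Polynomial.aeval δ P) = Polynomial.aeval (LinearMap.mulLeft k δ) P :=
  (Polynomial.aeval_algHom_apply (Algebra.lmul k R) δ P).symm

open scoped IsMulCommutative in
theorem exists_unit_lg_ad (h3 : 3 ≤ p) (hx : x ^ p = 1) (hJ : lg k p (ρ x) = jb k d) :
    ∃ u u' : Module.End k (Matrix (Fin d) (Fin d) k), u * u' = 1 ∧ u' * u = 1 ∧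
      Commute u (adJ k d) ∧ lg k p (ad k ρ x) = u * adJ k d := by
  have hδ : (ρ x - 1) ^ p = 0 := mb_nil (k := k) (by rw [← map_pow, hx, map_one])
  obtain ⟨U, hU, e1⟩ := exists_lg_eq (k := k) h3 (ρ x)
  obtain ⟨U', hU', e2⟩ := exists_lg_eq (k := k) h3 (ad k ρ x)
  let L := LinearMap.mulLeft k (ρ x - 1)
  let T := LinearMap.mulRight k (ρ x - 1)
  let S := Algebra.adjoin k ({L, T} : Set (Module.End k (Matrix (Fin d) (Fin d) k)))
  have : IsMulCommutative S := Algebra.isMulCommutative_adjoin k (by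
    rintro _ (rfl | rfl) _ (rfl | rfl)
    exacts [rfl, LinearMap.commute_mulLeft_right _ _, (LinearMap.commute_mulLeft_right _ _).symm, rfl])
  let l : S := ⟨L, Algebra.subset_adjoin (Or.inl rfl)⟩
  let r : S := ⟨T, Algebra.subset_adjoin (Or.inr rfl)⟩
  obtain ⟨v, u, u', h1, h2, h4⟩ := mb_key (l := l) (r := r)
    ⟨p, Subtype.ext (by simp [l, L, hδ])⟩ ⟨p, Subtype.ext (by simp [r, T, hδ])⟩ hU hU'
  have e3 : adJ k d = ((Polynomial.aeval l (Polynomial.X * U) -
      Polynomial.aeval r (Polynomial.X * U) : S) : Module.End k _) := by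
    rw [adJ, ← hJ, e1, mb_mulLeft, mb_mulRight]
    exact congrArg₂ (· - ·) (Polynomial.aeval_algHom_apply S.val l _)
      (Polynomial.aeval_algHom_apply S.val r _)
  have e4 : (v : Module.End k _) = LinearMap.mulRight k (ρ x⁻¹) := by
    have h5 : (1 + T) * (v : Module.End k _) = 1 := congrArg Subtype.val h1
    have h6 : LinearMap.mulRight k (ρ x⁻¹) * (1 + T) = 1 := LinearMap.ext fun A => by
      simp [T, mul_sub, mul_assoc, ← map_mul]
    exact (left_inv_eq_right_inv h6 h5).symm
  have e5 : ad k ρ x - 1 = (((l - r) * v : S) : Module.End k _) := by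
    change _ = (L - T) * (v : Module.End k _)
    rw [e4]
    refine LinearMap.ext fun A => ?_
    simp [L, T, ad_apply, mul_sub, sub_mul, mul_assoc, ← map_mul]
  refine ⟨u, u', congrArg Subtype.val h2, congrArg Subtype.val ((mul_comm _ _).trans h2), ?_, ?_⟩
  · rw [e3]
    exact congrArg Subtype.val (mul_comm u _)
  · rw [e2, e5, e3]
    exact (Polynomial.aeval_algHom_apply S.val _ _).trans (congrArg Subtype.val h4)

theorem mb_pow (j : ℕ) (r s : Fin d) : (jb k d ^ j) r s = if (r : ℕ) = s + j then 1 else 0 := by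
  induction j generalizing r s with
  | zero => simp [Matrix.one_apply, Fin.ext_iff]
  | succ j ih =>
    rw [pow_succ, Matrix.mul_apply]
    simp only [ih]
    simp only [jb, Matrix.of_apply]
    by_cases h : (s : ℕ) + 1 < d
    · rw [sum_eq_single ⟨s + 1, h⟩ (fun b _ hb => by
        rw [if_neg fun e : (b : ℕ) = s + 1 => hb (Fin.ext e), mul_zero]) (by simp)]
      simp [add_assoc, add_comm 1 j]
    · rw [sum_eq_zero fun b _ => by rw [if_neg (show ¬ (b : ℕ) = s + 1 by omega), mul_zero],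
        if_neg (by omega)]

theorem mb_sum (S : Finset ℕ) (c : ℕ → k) (r s : Fin d) :
    (∑ i ∈ S, c i • jb k d ^ i) r s = ∑ i ∈ S, if (r : ℕ) = s + i then c i else 0 := by
  simp [Matrix.sum_apply, mb_pow]

theorem Rp.mb_y (R : Rp p x y a e d ρ) (A : Matrix (Fin d) (Fin d) k) (r s : Fin d) :
    ad k ρ y A r s * (a : k) ^ (s : ℕ) = (a : k) ^ (r : ℕ) * A r s := by
  obtain ⟨μ, h⟩ := R.hy
  have h0 : μ ≠ 0 := by
    rintro rfl
    have := congrFun (congrFun ((map_mul ρ y y⁻¹).symm.trans (by rw [mul_inv_cancel, map_one])) r) r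
    simp [h] at this
  have := congrFun (congrFun (ad_mul_rho (k := k) ρ y A) r) s
  rw [h] at this
  simp only [Matrix.mul_smul, Matrix.smul_mul, Matrix.smul_apply, Matrix.mul_diagonal,
    Matrix.diagonal_mul, smul_eq_mul] at this
  exact mul_left_cancel₀ h0 this

theorem mb_dg {q : ℤ} {A : Matrix (Fin d) (Fin d) k} (h : Dg q A) (j : ℕ) :
    Dg (q + j) ((adJ k d ^ j) A) := by
  induction j with
  | zero => simpa using h
  | succ j ih => simpa [pow_succ', add_assoc] using ih.adJ

theorem mb_rank {M : Type*} [AddCommGroup M] [Module k M] (ε : M ≃ₗ[k] Matrix (Fin d) (Fin d) k)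
    (T : Finset ℕ) {U : Submodule k M} (h : ∀ m ∈ U, ∃ c : ℕ → k, ε m = ∑ j ∈ T, c j • jb k d ^ j) :
    Module.finrank k U ≤ T.card := by
  classical
  have l : U.map ε.toLinearMap ≤ Submodule.span k (T.image fun j => jb k d ^ j : Finset _) := by
    rintro _ ⟨m, hm, rfl⟩
    obtain ⟨c, hc⟩ := h m hm
    rw [LinearEquiv.coe_coe, hc]
    exact Submodule.sum_mem _ fun j hj => Submodule.smul_mem _ _
      (Submodule.subset_span (mem_coe.2 (mem_image_of_mem _ hj)))
  rw [← ε.finrank_map_eq]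
  exact (Submodule.finrank_mono l).trans ((finrank_span_finset_le_card _).trans card_image_le)

theorem mb_count (he : 0 < e) (ht : 2 ≤ t) (hd : d + e = e * t + 1) (h : ℕ) :
    ((Ico e d).filter fun j => h ≡ j [MOD e]).card + 1 ≤ t ∧
      (¬ e ∣ h → ((Ico e d).filter fun j => h ≡ j [MOD e]).card + 2 ≤ t) := by
  obtain ⟨s, rfl⟩ : ∃ s, t = s + 2 := ⟨t - 2, by omega⟩
  have inj : Set.InjOn (· / e) ((Ico e d).filter fun j => h ≡ j [MOD e] : Finset ℕ) := fun i hi j hj q => by
    have h1 : i % e = j % e := (mem_filter.1 hi).2.symm.trans (mem_filter.1 hj).2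
    rw [← Nat.div_add_mod i e, ← Nat.div_add_mod j e, h1, show i / e = j / e from q]
  have lo : ∀ j ∈ Ico e d, 1 ≤ j / e := fun j hj => (Nat.le_div_iff_mul_le he).2 (by
    simpa using (mem_Ico.1 hj).1)
  have up : ∀ j ∈ Ico e d, j ≤ e * (s + 1) := fun j hj => by
    have := (mem_Ico.1 hj).2
    rw [mul_add] at hd ⊢
    omega
  refine ⟨?_, fun n => ?_⟩
  · have := card_le_card_of_injOn (t := Ico 1 (s + 2)) _ (fun j hj => mem_coe.2 (mem_Ico.2
      ⟨lo j (mem_filter.1 hj).1, Nat.lt_succ_of_le (Nat.div_le_of_le_mul (up j (mem_filter.1 hj).1))⟩)) inj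
    simp only [Nat.card_Ico] at this
    omega
  · have := card_le_card_of_injOn (t := Ico 1 (s + 1)) _ (fun j hj => mem_coe.2 (mem_Ico.2
      ⟨lo j (mem_filter.1 hj).1, Nat.div_lt_of_lt_mul (lt_of_le_of_ne (up j (mem_filter.1 hj).1)
        fun q => n ((Nat.ModEq.dvd_iff (mem_filter.1 hj).2 dvd_rfl).2 ⟨_, q⟩))⟩)) inj
    simp only [Nat.card_Ico] at this
    omega

theorem Rp.mb_line (R : Rp p x y a e d ρ) (hx : x ^ p = 1) (he : 0 < e) (hd : 0 < d)
    {m : Matrix (Fin d) (Fin d) k} (h : ∀ g, ∃ c : k, ad k ρ g m = c • m) :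
    ∃ c : k, m = c • (1 : Matrix (Fin d) (Fin d) k) := by
  by_cases h0 : m = 0
  · exact ⟨0, by rw [h0, zero_smul]⟩
  obtain ⟨c, hc⟩ := h x
  have h1 : ∀ n : ℕ, ad k ρ (x ^ n) m = c ^ n • m := fun n => by
    induction n with
    | zero => simp
    | succ n ih => rw [pow_succ, map_mul, Module.End.mul_apply, hc, map_smul, ih, smul_smul, pow_succ']
  have h2 : c = 1 := by
    have := h1 p
    rw [hx, map_one, Module.End.one_apply] at this
    have h3 : (c - 1) ^ p = 0 := by
      rw [sub_pow_char, one_pow]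
      exact (smul_eq_zero.1 (by rw [sub_smul, ← this, one_smul, sub_self])).resolve_right h0
    exact sub_eq_zero.1 (pow_eq_zero_iff hp.out.ne_zero |>.1 h3)
  rw [h2, one_smul, ad_eq_self_iff] at hc
  obtain ⟨f, hf⟩ := eq_sum_of_adJ (A := m) (by
    have := commute_lg (k := k) (p := p) hc.symm
    rw [R.hJ] at this
    simp [adJ, this.eq])
  have dg : ∀ r : Fin d, m r r = f 0 := fun r => by
    rw [hf, mb_sum, sum_eq_single 0 (fun b _ hb => if_neg (by omega)) (by simp; omega), if_pos (by simp)]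
  by_cases f0 : f 0 = 0
  · let v : Fin d := ⟨d - 1, by omega⟩
    have := (R.irr (LinearMap.ker (Matrix.toLin' m)) fun g w hw => by
      obtain ⟨c, hc⟩ := h g⁻¹
      rw [LinearMap.mem_ker, Matrix.toLin'_apply] at hw ⊢
      have e1 : m * ρ g = ρ g * ad k ρ g⁻¹ m := by
        rw [ad_apply, inv_inv, ← mul_assoc, ← mul_assoc, ← map_mul, mul_inv_cancel, map_one, one_mul]
      rw [Matrix.mulVec_mulVec, e1, hc, ← Matrix.mulVec_mulVec, Matrix.smul_mulVec, hw, smul_zero,
        Matrix.mulVec_zero]).resolve_left fun e0 => by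
      have : (Pi.single v 1 : Fin d → k) ∈ LinearMap.ker (Matrix.toLin' m) := by
        rw [LinearMap.mem_ker, Matrix.toLin'_apply, Matrix.mulVec_single_one]
        funext r
        change m r v = 0
        rw [hf, mb_sum]
        refine sum_eq_zero fun i _ => ?_
        split_ifs with q
        · obtain rfl : i = 0 := by have := r.2; simp only [v] at q; omega
          exact f0
        · rfl
      rw [e0, Submodule.mem_bot] at this
      simpa using congrFun this v
    exact absurd (Matrix.toLin'.injective ((LinearMap.ker_eq_top.1 this).trans (map_zero _).symm)) h0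
  have tr : m.trace ≠ 0 := by
    rw [Matrix.trace, sum_congr rfl fun r _ => show m.diag r = f 0 from dg r, sum_const, card_univ,
      Fintype.card_fin, nsmul_eq_mul]
    exact mul_ne_zero (cast_ne_zero (p := p) hd.ne' (by have := R.hd; omega)) f0
  refine R.scalar fun g => (ad_eq_self_iff (k := k) ρ g m).1 ?_
  obtain ⟨c, hc⟩ := h g
  have := congrArg Matrix.trace hc
  rw [ad_apply, Matrix.trace_mul_comm, ← mul_assoc, ← map_mul, inv_mul_cancel, map_one, one_mul,
    Matrix.trace_smul, smul_eq_mul] at this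
  rw [hc, (mul_eq_right₀ tr).1 this.symm, one_smul]

theorem Rp.exists_MS (S : Gs p x y a e t) (ht : 2 ≤ t) (R : Rp p x y a e d ρ) :
    ∃ (σ : Representation k (G ⧸ center G) (Matrix (Fin d) (Fin d) k)) (b : ℕ → ℕ → σ.asModule),
      MS k p (QuotientGroup.mk x : G ⧸ center G) (QuotientGroup.mk y) a e t σ.asModule b := by
  obtain ⟨σ, hσ⟩ := R.exists_sigma
  have hx : x ^ p = 1 := S.hx ▸ pow_orderOf_eq_one x
  obtain ⟨u, u', hu, hu', cu, eu⟩ := exists_unit_lg_ad S.h3 hx R.hJ
  have he := S.e_pos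
  have hd := R.hd
  have hd' : d + e = e * t + 1 := hd.trans S.het.symm
  have hed : e < d := by have := Nat.mul_le_mul_left e ht; omega
  obtain ⟨g, hg, ind⟩ := exists_chains (k := k) hd hed
  let ε := σ.asModuleEquiv
  have σa : ∀ g, σ (QuotientGroup.mk g) = ad k ρ g := fun g =>
    LinearMap.ext fun A => (hσ g A).trans (ad_apply ρ g A).symm
  have eo : ∀ (g : G) (m : σ.asModule), ε (og k (QuotientGroup.mk g : G ⧸ center G) • m) =
      ad k ρ g (ε m) := fun g m => by
    rw [Representation.asModuleEquiv_map_smul, Representation.asAlgebraHom_of, σa]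
  have eD : ∀ (n : ℕ) (m : σ.asModule), ε (Dl k p (QuotientGroup.mk x : G ⧸ center G) ^ n • m) =
      (u ^ n) ((adJ k d ^ n) (ε m)) := fun n m => by
    rw [Representation.asModuleEquiv_map_smul, map_pow, Dl, map_lg, Representation.asAlgebraHom_of, σa,
      eu, cu.mul_pow, Module.End.mul_apply]
  have eD' : ∀ (n : ℕ) (m : σ.asModule), ε (Dl k p (QuotientGroup.mk x : G ⧸ center G) ^ n • m) =
      (adJ k d ^ n) ((u ^ n) (ε m)) := fun n m => by
    rw [eD, ← Module.End.mul_apply, (cu.pow_pow n n).eq, Module.End.mul_apply]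
  have cuu : Commute u u' := hu.trans hu'.symm
  have eN : ∀ (n : ℕ) A, ε.symm ((adJ k d ^ n) A) =
      Dl k p (QuotientGroup.mk x : G ⧸ center G) ^ n • ε.symm ((u' ^ n) A) := fun n A => by
    rw [LinearEquiv.symm_apply_eq, eD', ε.apply_symm_apply, ← Module.End.mul_apply (u ^ n),
      ← cuu.mul_pow, hu, one_pow, Module.End.one_apply]
  have a0 : (a : k) ≠ 0 := S.a_ne_zero
  refine ⟨σ, fun i j => ε.symm ((adJ k d ^ j) (g i)), fun i hi j => ε.injective ?_,
    fun i hi j hj => ε.injective ?_, fun i _ j => ⟨_, eN j _⟩, fun T c n m h1 h2 => ?_, fun m hm => ?_,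
    fun U hU => ?_, fun h U hU => ?_, fun m hm => ?_⟩
  · rw [map_smul, eo, map_smul ε, ε.apply_symm_apply]
    ext r s
    have h1 := R.mb_y ((adJ k d ^ j) (g i)) r s
    have h2 := mb_dg (hg i hi).1 j r s
    refine mul_right_cancel₀ (pow_ne_zero (s : ℕ) a0) ?_
    rw [Matrix.smul_apply, Matrix.smul_apply, smul_eq_mul, smul_eq_mul, mul_assoc, h1]
    by_cases h3 : (adJ k d ^ j) (g i) r s = 0
    · simp [h3]
    · rw [← mul_assoc, ← pow_add, mul_right_comm, ← pow_add,
        show i + (r : ℕ) = j + s by have := h2 h3; omega]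
  · rw [eD, ε.apply_symm_apply, ← Module.End.mul_apply (adJ k d ^ _), ← pow_add,
      Nat.sub_add_cancel (by omega), (hg i hi).2.1, map_zero, map_zero]
  · refine ind T c n ((u ^ n) (ε m)) h1 ?_
    rw [← eD', ← h2, map_sum]
    simp only [map_smul, ε.apply_symm_apply]
  · have h1 : adJ k d (ε m) = 0 := by
      have := eD 1 m
      rw [pow_one, pow_one, pow_one, hm, map_zero] at this
      rw [← Module.End.one_apply (R := k) (adJ k d (ε m)), ← hu', Module.End.mul_apply, ← this, map_zero]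
    obtain ⟨f, hf⟩ := eq_sum_of_adJ h1
    have h2 : ∀ i, ∃ c : k, i < e → jb k d ^ i = c • (adJ k d ^ (2 * i)) (g i) := fun i => by
      by_cases hi : i < e
      · obtain ⟨c, c0, hc⟩ := (hg i hi).2.2
        exact ⟨c⁻¹, fun _ => by rw [hc, smul_smul, inv_mul_cancel₀ c0, one_smul]⟩
      · exact ⟨0, fun q => absurd q hi⟩
    have h3 : ∀ j, ∃ A, j ∈ Ico e d → jb k d ^ j = (adJ k d ^ (p - 1)) A := fun j => by
      by_cases hj : j ∈ Ico e d
      · obtain ⟨A, hA⟩ := exists_adJ_pow_eq (k := k) hd (mem_Ico.1 hj).1 (mem_Ico.1 hj).2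
        exact ⟨A, fun _ => hA.symm⟩
      · exact ⟨0, fun q => absurd q hj⟩
    choose c hc using h2
    choose A hA using h3
    refine ⟨fun i => f i * c i, ε.symm ((u' ^ (p - 1)) (∑ j ∈ Ico e d, f j • A j)), ε.injective ?_⟩
    rw [← eN, map_add, map_sum, ε.apply_symm_apply, map_sum, hf, ← sum_range_add_sum_Ico _ hed.le]
    congr 1
    · exact sum_congr rfl fun i hi => by
        rw [map_smul, ε.apply_symm_apply, hc i (mem_range.1 hi), smul_smul]
    · exact sum_congr rfl fun j hj => by rw [map_smul, hA j hj]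
  · have := mb_rank ε (Ico e d) (U := U) fun m hm => by
      obtain ⟨m', rfl⟩ := hU m hm
      rw [eD']
      exact adJ_pow_mem hd _
    rw [Nat.card_Ico] at this
    omega
  · have := mb_rank ε ((Ico e d).filter fun j => h ≡ j [MOD e]) (U := U) fun m hm => by
      obtain ⟨⟨m', e1⟩, e2⟩ := hU m hm
      obtain ⟨c, hc⟩ := adJ_pow_mem (k := k) hd ((u ^ (p - 1)) (ε m'))
      rw [← eD', ← e1] at hc
      refine ⟨c, hc.trans (sum_filter_of_ne fun j hj n => ?_).symm⟩
      have h1 := R.mb_y (ε m) ⟨j, (mem_Ico.1 hj).2⟩ ⟨0, by omega⟩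
      rw [← eo, e2, map_smul, Matrix.smul_apply, hc, mb_sum, sum_eq_single j
        (fun b _ hb => if_neg (by simpa using hb.symm)) (fun q => absurd hj q), if_pos (by simp),
        pow_zero, mul_one, smul_eq_mul] at h1
      exact (S.a_pow_eq_iff (k := k)).1 (mul_right_cancel₀ (left_ne_zero_of_smul n) h1)
    have h2 := mb_count he ht hd' h
    exact ⟨by omega, fun n => by have := h2.2 n; omega⟩
  · obtain ⟨c, hc⟩ := R.mb_line hx he (by omega) (m := ε m) fun q => by
      obtain ⟨c, hc⟩ := hm (QuotientGroup.mk q)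
      exact ⟨c, by rw [← eo, hc, map_smul]⟩
    obtain ⟨c', c0, hc'⟩ := (hg 0 he).2.2
    refine ⟨c * c'⁻¹, ε.injective ?_⟩
    rw [map_smul, ε.apply_symm_apply, hc, show (adJ k d ^ 0) (g 0) = c' • 1 from hc'.trans (by simp),
      smul_smul, inv_mul_cancel_right₀ c0]

end Cfsg.Agent.Blau
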