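import Cfsg.Agent.Blau.Dec

/-! The case `t = 3`. -/

set_option autoImplicit false
set_option linter.unusedSectionVars false

namespace Cfsg.Agent.Blau

open Cfsg Finset Subgroup Cfsg.Agent.Char.ModSl2 Cfsg.Agent.Block
open scoped MonoidAlgebra MatrixGroups

variable {k : Type*} [Field k] [IsAlgClosed k] {p : ℕ} [hp : Fact p.Prime] [CharP k p]
  {G : Type*} [Group G] [Finite G] {x y : G} {a e t : ℕ}
variable {M : Type*} [AddCommGroup M] [Module k M] [Module k[G] M] [IsScalarTower k k[G] M]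
  [FiniteDimensional k M] {b : ℕ → ℕ → M}

/-- `t ≥ 3`, `1 ≤ i < e`, `2 i + 1 < p - e`: `D^(p-1)` does not kill `U`.  Otherwise take a minimal
nonzero submodule `U' ≤ U`; `z` is scalar on it (eigenvector, `zc_commute`), `small_or_large` and
`uniserial` give `D^e U' = 0`, `Gs.pgl` contradicts `uniserial`. -/
theorem MS.exists_free (S : St p x y a e t) (hM : MS k p x y a e t M b) (ht : 3 ≤ t) {i : ℕ}
    (hi : i < e) (h1 : 1 ≤ i) {U : Submodule k[G] M} {w m : M} (hwU : w ∈ U)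
    (hw : w = b i (2 * i) + Dl k p x ^ (p - 1) • m)
    (hU : ∀ v ∈ U, Dl k p x • v = 0 → ∃ (c : k), ∃ m' ∈ U, v = c • w + Dl k p x ^ (p - 1) • m') :
    ∃ v ∈ U, Dl k p x ^ (p - 1) • v ≠ 0 := by
  by_contra! h
  obtain ⟨h2, h3⟩ := hM.uniserial S hi h1 hw fun v hv hv0 => by
    obtain ⟨c, m', h4, h5⟩ := hU v hv hv0
    exact ⟨c, by rw [h5, h m' h4, add_zero]⟩
  have : Nontrivial U := ⟨⟨⟨w, hwU⟩, 0, fun h =>
    hM.ne_smul S hi m 0 (by rw [← hw, smul_zero]; exact congrArg Subtype.val h)⟩⟩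
  obtain ⟨c, hc⟩ := Module.End.exists_eigenvalue (K := k) (lm k U (zc k x e))
  obtain ⟨v, hv⟩ := hc.exists_hasEigenvector
  let U' : Submodule k[G] M :=
    { carrier := {v | v ∈ U ∧ zc k x e • v = c • v}
      add_mem' := fun h h' => ⟨add_mem h.1 h'.1, by rw [smul_add, smul_add, h.2, h'.2]⟩
      zero_mem' := ⟨zero_mem _, by rw [smul_zero, smul_zero]⟩
      smul_mem' := fun r v hv => ⟨U.smul_mem r hv.1, by
        rw [← mul_smul, (zc_commute r).eq, mul_smul, hv.2, smul_comm]⟩ }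
  have h4 := S.het
  have h5 := Nat.mul_le_mul_left e ht
  rcases S.toGs.small_or_large (V := U') ⟨c, fun v => Subtype.ext v.2.2⟩
    fun v => Subtype.ext (h v v.2.1) with h6 | ⟨u, h6⟩
  · refine (S.toGs.pgl S.ht (by omega) h6).elim (fun h => by omega) (h3 U' (fun _ h => h.1) ?_)
    exact (Submodule.ne_bot_iff _).2 ⟨v, ⟨v.2, congrArg Subtype.val hv.apply_eq_smul⟩,
      fun h => hv.2 (Subtype.ext h)⟩
  · refine h6 (Subtype.ext ?_)
    rw [Submodule.coe_smul, pow_smul_of_le' _ (show 2 * i + 1 ≤ p - e - 1 by omega), h2 u u.2.1,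
      smul_zero, Submodule.coe_zero]

theorem span_chain_eq {V : Type*} [AddCommGroup V] [Module k V] [Module k[G] V] {c : k[G]} {u : V}
    {s : ℕ} (hu : c ^ s • u = 0) :
    Submodule.span k (Set.range fun j : Fin s => c ^ (j : ℕ) • u) =
      Submodule.span k (Set.range fun j : ℕ => c ^ j • u) := by
  refine le_antisymm (Submodule.span_mono ?_) (Submodule.span_le.2 ?_)
  · rintro _ ⟨j, rfl⟩
    exact ⟨j, rfl⟩
  · rintro _ ⟨j, rfl⟩
    rcases lt_or_ge j s with h | h
    · exact Submodule.subset_span ⟨⟨j, h⟩, rfl⟩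
    · obtain ⟨r, rfl⟩ := Nat.exists_eq_add_of_le' h
      simp only [pow_add, mul_smul, hu, smul_zero]
      exact zero_mem _

theorem pow_smul_mem_chain {V : Type*} [AddCommGroup V] [Module k V] [Module k[G] V]
    [IsScalarTower k k[G] V] {c : k[G]} {u v : V}
    (hv : v ∈ Submodule.span k (Set.range fun j : ℕ => c ^ j • u)) (r : ℕ) :
    c ^ r • v ∈ Submodule.span k (Set.range fun j : ℕ => c ^ j • u) := by
  refine (show Submodule.span k _ ≤ (Submodule.span k _).comap (lm k V (c ^ r)) from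
    Submodule.span_le.2 ?_) hv
  rintro _ ⟨j, rfl⟩
  exact Submodule.subset_span ⟨r + j, (pow_smul_add c r j u).symm⟩

theorem indep_chain' {V : Type*} [AddCommGroup V] [Module k V] [Module k[G] V]
    [IsScalarTower k k[G] V] [FiniteDimensional k V] {c : k[G]} {u : V} {s : ℕ}
    (hu : c ^ (s + 1) • u = 0) (h : c ^ s • u ≠ 0) :
    LinearIndependent k fun j : Fin (s + 1) => c ^ (j : ℕ) • u := by
  rw [Fintype.linearIndependent_iff]
  intro γ hγ
  by_contra! h1
  classical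
  let j₀ := Fin.find (fun j => γ j ≠ 0) h1
  have h2 := congrArg (fun v => c ^ (s - j₀) • v) hγ
  simp only [smul_sum, smul_zero] at h2
  rw [sum_eq_single j₀ (fun j _ hj => ?_) (fun h => absurd (mem_univ _) h), smul_comm,
    pow_smul_add, Nat.sub_add_cancel (Nat.le_of_lt_succ j₀.2)] at h2
  · exact h ((smul_eq_zero.1 h2).resolve_left (Fin.find_spec h1))
  rcases hj.lt_or_gt with h3 | h3
  · rw [not_not.1 (Fin.find_min h1 h3), zero_smul, smul_zero]
  · have h4 : (j₀ : ℕ) < j := h3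
    have := j₀.2
    rw [smul_comm, pow_smul_add, pow_smul_of_le' _ (show s + 1 ≤ s - j₀ + j by omega), hu,
      smul_zero, smul_zero]

/-- Suppose `D^(p-1) U = k D^(p-1) f`, `f ∈ U` of weight `c`, `c^e = 1`.  Take `g ∈ U` of weight
`(a^i)⁻¹` with `D^(2i) g = w` (`exists_wt_lift`).  The `D^j g` (`j ≤ 2i`) and `D^j f` (`j < p`) form
a basis of `U` (independent: multiply a relation by a power of `D` and use `ne_smul`; spanning:
induction on the order of a vector, as `ker D ∩ U ⊆ k w + k D^(p-1) f` and `w ∉ D^(2i+1) M`) of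
eigenvectors of `y`, so `det y = ∏_{j≤2i} a^j (a^i)⁻¹ · ∏_{j<p} c a^j = c^p a^(p(p-1)/2)`
(`ModDeg.trace_det_of_eigen`).  The kernel of `g ↦ det (g on U)` is normal and contains `x`
(`(det x)^p = 1`), so `det y = 1` by `nrm`. -/
theorem MS.det_eq (S : St p x y a e t) (hM : MS k p x y a e t M b) {i : ℕ}
    (hi : i < e) {U : Submodule k[G] M} {w m g₀ f : M} {c : k}
    (hw : w = b i (2 * i) + Dl k p x ^ (p - 1) • m) (hw0 : Dl k p x • w = 0)
    (hyw : og k y • w = (a : k) ^ i • w) (hg₀ : g₀ ∈ U) (hg : w = Dl k p x ^ (2 * i) • g₀)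
    (hU : ∀ v ∈ U, Dl k p x • v = 0 → ∃ (c : k), ∃ m' ∈ U, v = c • w + Dl k p x ^ (p - 1) • m')
    (hf : f ∈ U) (hf0 : Dl k p x ^ (p - 1) • f ≠ 0) (hyf : og k y • f = c • f)
    (h1 : ∀ v ∈ U, ∃ r : k, Dl k p x ^ (p - 1) • v = r • Dl k p x ^ (p - 1) • f) :
    c ^ p * (a : k) ^ (p * (p - 1) / 2) = 1 := by
  have ha := S.toGs.a_ne_zero (k := k)
  have h2 := S.het
  have h3 := Nat.mul_le_mul_left e S.ht
  have hne : ∀ m' : M, w ≠ Dl k p x ^ (2 * i + 1) • m' := fun m' => hw ▸ hM.ne_smul S hi m m'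
  obtain ⟨g, hgU, hyg, hgw⟩ := S.exists_wt_lift (K := U.restrictScalars k)
    (fun v hv => U.smul_mem _ hv) hg₀ (c := ((a : k) ^ i)⁻¹) (by
      rw [inv_pow, pow_right_comm, (S.toGs.prim (k := k)).pow_eq_one, one_pow, inv_one]) hg.symm
    (by rw [hyw, two_mul, pow_add, mul_inv_cancel_right₀ (pow_ne_zero i ha)])
  have hD : ∀ v : U, Dl k p x ^ p • v = 0 := fun v => by rw [D_pow_p S.hx S.h3, zero_smul]
  let g' : U := ⟨g, hgU⟩
  let f' : U := ⟨f, hf⟩
  have hp1 : p - 1 + 1 = p := by omega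
  have g1 : Dl k p x ^ (2 * i + 1) • g' = 0 := Subtype.ext (by
    rw [Submodule.coe_smul, ← one_smul_pow, hgw, hw0, Submodule.coe_zero])
  have g2 : Dl k p x ^ (2 * i) • g' ≠ 0 := fun h =>
    hne 0 (by rw [smul_zero, ← hgw]; exact congrArg Subtype.val h)
  have f1 : Dl k p x ^ (p - 1 + 1) • f' = 0 := by rw [hp1, hD]
  have f2 : Dl k p x ^ (p - 1) • f' ≠ 0 := fun h => hf0 (congrArg Subtype.val h)
  let β : Fin (2 * i + 1) ⊕ Fin (p - 1 + 1) → U :=
    Sum.elim (fun j => Dl k p x ^ (j : ℕ) • g') fun j => Dl k p x ^ (j : ℕ) • f'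
  have b1 : LinearIndependent k β := by
    refine (indep_chain' g1 g2).sum_type (indep_chain' f1 f2) ?_
    rw [span_chain_eq g1, span_chain_eq f1, Submodule.disjoint_def]
    intro v h4 h5
    by_contra h6
    obtain ⟨r, h7, h8⟩ := exists_top (hD v) h6
    obtain ⟨r₁, h9⟩ := span_ker g1 g2 (pow_smul_mem_chain h4 r) h8
    obtain ⟨r₂, h10⟩ := span_ker f1 f2 (pow_smul_mem_chain h5 r) h8
    have h11 : r₁ ≠ 0 := by rintro rfl; exact h7 (by rw [h9, zero_smul])
    have h12 : r₁ • w = r₂ • Dl k p x ^ (p - 1) • f := by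
      rw [← hgw]; exact congrArg Subtype.val (h9.symm.trans h10)
    refine hne ((r₁⁻¹ * r₂) • Dl k p x ^ (p - 1 - (2 * i + 1)) • f) ?_
    rw [smul_comm, ← pow_smul_of_le _ (by omega), mul_smul, ← h12, inv_smul_smul₀ h11]
  have b2 : ⊤ ≤ Submodule.span k (Set.range β) := by
    rw [Set.Sum.elim_range, Submodule.span_union, span_chain_eq g1, span_chain_eq f1]
    suffices H : ∀ r ≤ p, ∀ v : U, Dl k p x ^ r • v = 0 → v ∈ _ from fun v _ => H p le_rfl v (hD v)
    intro r
    induction r with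
    | zero => exact fun _ v hv => by rw [pow_zero, one_smul] at hv; exact hv ▸ zero_mem _
    | succ r ih =>
      intro hr v hv
      obtain ⟨γ, m', h4, h5⟩ := hU _ (Dl k p x ^ r • v).2 (by
        rw [← Submodule.coe_smul, one_smul_pow (V := U), hv, Submodule.coe_zero])
      obtain ⟨ρ, h6⟩ := h1 m' h4
      rw [h6, Submodule.coe_smul] at h5
      have h7 : Dl k p x ^ r • γ • Dl k p x ^ (2 * i - r) • g = γ • w := by
        rcases le_or_gt r (2 * i) with h | h
        · rw [smul_comm, ← pow_smul_of_le _ h, hgw]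
        · obtain rfl : γ = 0 := by
            by_contra h8
            refine hne (γ⁻¹ • (Dl k p x ^ (r - (2 * i + 1)) • v -
              ρ • Dl k p x ^ (p - 1 - (2 * i + 1)) • f)) ?_
            rw [smul_comm, smul_sub, smul_comm _ ρ, ← pow_smul_of_le _ h,
              ← pow_smul_of_le _ (by omega), h5, add_sub_cancel_right, inv_smul_smul₀ h8]
          rw [zero_smul, zero_smul, smul_zero]
      have h8 := ih (by omega) (v - (γ • Dl k p x ^ (2 * i - r) • g' +
        ρ • Dl k p x ^ (p - 1 - r) • f')) (Subtype.ext (by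
          change Dl k p x ^ r • ((v : M) - (γ • Dl k p x ^ (2 * i - r) • g +
            ρ • Dl k p x ^ (p - 1 - r) • f)) = 0
          rw [smul_sub, smul_add, h7, smul_comm _ ρ, ← pow_smul_of_le _ (by omega), h5, sub_self]))
      exact (Submodule.sub_mem_iff_left _ (Submodule.add_mem_sup
        (Submodule.smul_mem _ _ (Submodule.subset_span (Set.mem_range_self _)))
        (Submodule.smul_mem _ _ (Submodule.subset_span (Set.mem_range_self _))))).1 h8
  let δ : G →* k := LinearMap.det.comp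
    ((Algebra.lsmul k k U : k[G] →ₐ[k] Module.End k U).toMonoidHom.comp (MonoidAlgebra.of k G))
  have h4 : δ y = 1 := S.nrm δ.ker inferInstance (by
    have : (δ x - 1) ^ p = 0 := by
      rw [sub_pow_char, ← map_pow, ← S.hx, pow_orderOf_eq_one, map_one, one_pow, sub_self]
    exact sub_eq_zero.1 (pow_eq_zero_iff hp.out.ne_zero |>.1 this))
  have h5 := (Char.ModDeg.trace_det_of_eigen β b1 (Module.finrank_eq_card_basis (Module.Basis.mk b1 b2)).symm
    (X := lm k U (og k y)) (Sum.elim (fun j => (a : k) ^ (j : ℕ) * ((a : k) ^ i)⁻¹)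
      fun j => (a : k) ^ (j : ℕ) * c) (by
      rintro (j | j) <;> simp only [β, Sum.elim_inl, Sum.elim_inr, lm_apply] <;>
        rw [S.toGs.y_smul_D_pow (k := k) (V := U)]
      · rw [show og k y • g' = ((a : k) ^ i)⁻¹ • g' from Subtype.ext hyg, smul_comm _ _ g', mul_smul]
      · rw [show og k y • f' = c • f' from Subtype.ext hyf, smul_comm _ _ f', mul_smul])).2
  rw [show LinearMap.det (lm k U (og k y)) = 1 from h4, Fintype.prod_sum_type] at h5
  simp only [Sum.elim_inl, Sum.elim_inr, prod_mul_distrib, prod_const, card_univ, Fintype.card_fin,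
    prod_pow_eq_pow_sum, Fin.sum_univ_eq_sum_range (fun j => j), sum_range_id, hp1] at h5
  rw [Nat.add_sub_cancel, show (2 * i + 1) * (2 * i) / 2 = i * (2 * i + 1) from
    Nat.div_eq_of_eq_mul_right two_pos (by ring), pow_mul, ← mul_pow,
    mul_inv_cancel₀ (pow_ne_zero i ha), one_pow, one_mul] at h5
  rw [mul_comm, h5]

theorem sum_finrank_eq {U : ℕ → Submodule k[G] M} (hU : iSupIndep U) {R : ℕ → Submodule k M}
    (hR : ∀ i, R i ≤ (U i).restrictScalars k) (s : Finset ℕ) :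
    ∑ i ∈ s, Module.finrank k (R i) = Module.finrank k (⨆ i ∈ s, R i : Submodule k M) := by
  rw [sum_finrank (indep_k hU hR), Finset.sup_eq_iSup]

/-- `t = 3`, `p = 3 e + 1`, `e` even.  For `1 ≤ i < e` let `r_i` be the dimension of
`D^(p-1) U i`.  `r_i ≥ 1` (`exists_free`), `∑ r_i ≤ p - 2 e = e + 1` (independence, `rk`).  If
`r_i = 1`, take a weight vector `f` (`exists_wt`), `c = a^h`; `det_eq` gives `c = -1 = a^(e/2)`
(`c^p = c`, `a^(e/2) = -1`, `a^((p-1)/2) = -1`, `p` odd), and `D^(p-1) f` has weight `a^(e/2)`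
(`a^(p-1) = 1`); by `rkw` (`¬ e ∣ e/2`) and independence this happens for at most one `i`.  So
`2 (e - 1) - 1 ≤ e + 1`. -/
theorem MS.three (S : St p x y a e t) (hM : MS k p x y a e t M b) (ht : t = 3) : e ≤ 4 := by
  classical
  subst ht
  obtain ⟨U, w, hU, h⟩ := hM.exists_dec S
  have h1 := S.het
  have h2 := S.he
  obtain ⟨e', rfl⟩ : Even e := by
    have := hp.out.odd_of_ne_two (by omega)
    simpa [← h1, Nat.odd_add_one, Nat.even_mul, show ¬ Even 3 by decide] using this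
  let R : ℕ → Submodule k M := fun i =>
    ((U i).restrictScalars k).map (lm k M (Dl k p x ^ (p - 1)))
  have hR : ∀ i, R i ≤ (U i).restrictScalars k := by
    rintro i _ ⟨v, hv, rfl⟩
    exact (U i).smul_mem _ hv
  have hR' : ∀ i, R i ≤ LinearMap.range (lm k M (Dl k p x ^ (p - 1))) := fun i =>
    LinearMap.map_le_range
  have h3 := hM.rk (⨆ i ∈ Ico 1 (e' + e'), R i) fun m hm =>
    ((iSup₂_le fun i _ => hR' i : _ ≤ _) hm).imp fun _ h => h.symm
  have h4 : ∀ i ∈ Ico 1 (e' + e'), 1 ≤ Module.finrank k (R i) ∧ (Module.finrank k (R i) = 1 →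
      R i ≤ Module.End.eigenspace (lm k M (og k y)) ((a : k) ^ e')) := fun i hi => by
    obtain ⟨h5, h6⟩ := mem_Ico.1 hi
    obtain ⟨h7, h8, h9, ⟨m, h10⟩, ⟨g, h11, h12⟩, h13⟩ := h i h6
    obtain ⟨v, h14, h15⟩ := hM.exists_free S le_rfl h6 h5 h7 h10 h13
    obtain ⟨f, h16, h17, r, -, h18⟩ := S.exists_wt (K := (U i).restrictScalars k)
      (U := LinearMap.ker (lm k M (Dl k p x ^ (p - 1)))) (fun v hv => (U i).smul_mem _ hv)
      fun h => h15 (h h14)
    let f' : R i := ⟨_, f, h16, rfl⟩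
    have h19 : f' ≠ 0 := fun h => h17 (congrArg Subtype.val h)
    refine ⟨Module.finrank_pos_iff_exists_ne_zero.2 ⟨f', h19⟩, fun h20 u hu => ?_⟩
    rw [finrank_eq_one_iff_of_nonzero' f' h19] at h20
    have h21 := hM.det_eq S h6 h10 h8 h9 h11 h12 h13 h16 h17 h18 fun v hv =>
      (h20 ⟨_, v, hv, rfl⟩).imp fun _ h => (congrArg Subtype.val h).symm
    have h22 := (S.toGs.prim (k := k)).pow_eq_one
    rw [show p * (p - 1) / 2 = 3 * e' * p from Nat.div_eq_of_eq_mul_right two_pos (by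
      rw [show p - 1 = 2 * (3 * e') by omega]; ring), pow_mul, ← mul_pow, ← one_pow p,
      ← sub_eq_zero, ← sub_pow_char, pow_eq_zero_iff hp.out.ne_zero, sub_eq_zero] at h21
    have h23 : (a : k) ^ (p - 1) * a ^ r = a ^ e' := by
      rw [show p - 1 = (e' + e') * 3 by omega, pow_mul, h22, one_pow, one_mul]
      calc (a : k) ^ r = a ^ r * (a ^ (e' + e')) ^ 2 := by rw [h22, one_pow, mul_one]
        _ = a ^ r * a ^ (3 * e') * a ^ e' := by ring
        _ = _ := by rw [h21, one_mul]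
    obtain ⟨ρ, hρ⟩ := h20 ⟨u, hu⟩
    obtain rfl : ρ • Dl k p x ^ (p - 1) • f = u := congrArg Subtype.val hρ
    refine Submodule.smul_mem _ _ (Module.End.mem_eigenspace_iff.2 ?_)
    rw [lm_apply, S.toGs.y_smul_D_pow, h18, smul_comm _ _ f, smul_smul, h23]
  let s := (Ico 1 (e' + e')).filter fun i => Module.finrank k (R i) = 1
  have h5 := (hM.rkw e' (⨆ i ∈ s, R i) fun m hm =>
    ⟨((iSup₂_le fun i _ => hR' i : _ ≤ _) hm).imp fun _ h => h.symm,
      Module.End.mem_eigenspace_iff.1 ((iSup₂_le fun i hi =>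
        (h4 i (mem_filter.1 hi).1).2 (mem_filter.1 hi).2 : _ ≤ _) hm)⟩).2 fun h => by
      have := Nat.le_of_dvd (by omega) h
      omega
  rw [← sum_finrank_eq hU hR] at h3 h5
  rw [sum_congr rfl fun i hi => (mem_filter.1 hi).2, sum_const, smul_eq_mul, mul_one,
    card_filter] at h5
  have h6 : ∑ _i ∈ Ico 1 (e' + e'), 2 ≤ ∑ i ∈ Ico 1 (e' + e'), (Module.finrank k (R i) +
      if Module.finrank k (R i) = 1 then 1 else 0) := sum_le_sum fun i hi => by
    have := (h4 i hi).1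
    split_ifs <;> omega
  rw [sum_const, sum_add_distrib, Nat.card_Ico, smul_eq_mul] at h6
  omega

end Cfsg.Agent.Blau
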