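import Cfsg.Agent.Blau.Ch0
import Cfsg.Agent.Blau.Ch1
import Cfsg.Agent.Blau.LstA
import Cfsg.Agent.Blau.MatB
import Cfsg.Agent.Blau.Big
import Cfsg.Agent.Blau.Three

/-! Faithful characters of degree at most `p - 2` of a group with a non-normal Sylow subgroup of
order `p`. -/

set_option autoImplicit false
set_option linter.unusedSectionVars false

namespace Cfsg.Agent.Blau

open Cfsg Finset Subgroup Cfsg.Agent.Char Cfsg.Agent.Char.ModSl2 Cfsg.Agent.Block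
open scoped MonoidAlgebra MatrixGroups

variable {p : ℕ} [hp : Fact p.Prime] {G : Type*} [Group G] [Finite G] {x y : G} {a e t d : ℕ}
  {ζ : G → ℂ} {l : ℂ}

theorem Gs.isConj_pow_iff (S : Gs p x y a e t) {j j' : ℕ} (hj : ¬ p ∣ j) :
    IsConj (x ^ j) (x ^ j') ↔ ∃ i < e, j' ≡ a ^ i * j [MOD p] := by
  constructor
  · intro h
    obtain ⟨g, hg⟩ := _root_.isConj_iff.1 h
    obtain ⟨m, hm⟩ := exists_pow_eq_self_of_coprime (x := x)
      (S.hx ▸ ((hp.out.coprime_iff_not_dvd).2 hj).symm)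
    have h1 : g * x * g⁻¹ = x ^ (j' * m) := by rw [pow_mul, ← hg, conj_pow, hm]
    obtain ⟨i, hi, h2⟩ := S.isConj_iff.1 (_root_.isConj_iff.2 ⟨g, h1⟩)
    refine ⟨i, hi, ?_⟩
    rw [← S.hx] at h2 ⊢
    rw [← pow_eq_pow_iff_modEq] at h2 ⊢
    rw [← hg, ← conj_pow, h1, h2, pow_mul]
  · rintro ⟨i, -, hi⟩
    refine _root_.isConj_iff.2 ⟨y ^ i, ?_⟩
    rw [← conj_pow, S.pow_conj, ← pow_mul, pow_eq_pow_iff_modEq, S.hx]
    exact hi.symm

theorem Gs.card_classes (S : Gs p x y a e t) :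
    Nat.card {c : ConjClasses G // ∃ g : G, ConjClasses.mk g = c ∧ orderOf g = p} = t := by
  classical
  have h1 : ∀ j ∈ Ico 1 p, ¬ p ∣ j := fun j hj h =>
    absurd (Nat.le_of_dvd (mem_Ico.1 hj).1 h) (not_le.2 (mem_Ico.1 hj).2)
  rw [Nat.subtype_card ((Ico 1 p).image fun j => ConjClasses.mk (x ^ j))]
  · have h2 := card_eq_sum_card_image (fun j => ConjClasses.mk (x ^ j)) (Ico 1 p)
    rw [sum_congr rfl (g := fun _ => e), sum_const, Nat.card_Ico, smul_eq_mul] at h2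
    · have := S.het
      exact Nat.eq_of_mul_eq_mul_right S.e_pos (by rw [← h2, mul_comm]; omega)
    intro c hc
    obtain ⟨j, hj, rfl⟩ := mem_image.1 hc
    have h3 : ∀ i, ¬ p ∣ a ^ i * j := fun i h => (hp.out.dvd_mul.1 h).elim
      (fun h => S.not_dvd_a (hp.out.dvd_of_dvd_pow h)) (h1 j hj)
    rw [← card_range e]
    refine (card_bij (fun i _ => a ^ i * j % p) (fun i hi => ?_) (fun i hi i' hi' h => ?_)
      fun j' hj' => ?_).symm
    · refine mem_filter.2 ⟨mem_Ico.2 ⟨Nat.pos_of_ne_zero fun h => h3 i (Nat.dvd_of_mod_eq_zero h),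
        Nat.mod_lt _ hp.out.pos⟩, (ConjClasses.mk_eq_mk_iff_isConj.2 ?_).symm⟩
      exact (S.isConj_pow_iff (h1 j hj)).2 ⟨i, mem_range.1 hi, Nat.mod_modEq _ _⟩
    · exact S.injOn_mod hi hi' (Nat.ModEq.cancel_right_of_coprime
        ((hp.out.coprime_iff_not_dvd).2 (h1 j hj)) h)
    · obtain ⟨h4, h5⟩ := mem_filter.1 hj'
      obtain ⟨i, hi, h6⟩ := (S.isConj_pow_iff (h1 j hj)).1 (ConjClasses.mk_eq_mk_iff_isConj.1 h5.symm)
      exact ⟨i, mem_range.2 hi, by rw [← h6, Nat.mod_eq_of_lt (mem_Ico.1 h4).2]⟩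
  · intro c
    rw [mem_image]
    constructor
    · rintro ⟨j, hj, rfl⟩
      exact ⟨_, rfl, by
        rw [(S.hx ▸ (hp.out.coprime_iff_not_dvd).2 (h1 j hj) : (orderOf x).Coprime j).orderOf_pow,
          S.hx]⟩
    · rintro ⟨g, rfl, hg⟩
      obtain ⟨u, hu⟩ := exists_conj_mem_zpowers S.hx S.hG hg
      obtain ⟨j, hj, h2⟩ := mem_image.1 (mem_zpowers_iff_mem_range_orderOf.1 hu)
      refine ⟨j, mem_Ico.2 ⟨Nat.pos_of_ne_zero fun h => ?_, S.hx ▸ mem_range.1 hj⟩,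
        ConjClasses.mk_eq_mk_iff_isConj.2 (_root_.isConj_iff.2 ⟨u, h2.symm⟩).symm⟩
      rw [h, pow_zero, eq_comm, mul_inv_eq_one, mul_eq_left] at h2
      rw [h2, orderOf_one] at hg
      exact hp.out.one_lt.ne hg

local notation "𝐏" => zpowers x
local notation "𝐂" => centralizer ((zpowers x : Subgroup G) : Set G)
local notation "𝐍" => normalizer ((zpowers x : Subgroup G) : Set G)

theorem Gs.exists_equiv (S : Gs p x y a e t) :
    ∃ φ : Fin e × 𝐂 ≃ 𝐍, ∀ q, (φ q : G) = y ^ (q.1 : ℕ) * q.2 := by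
  have hy : y ∈ 𝐍 := by
    refine mem_normalizer_fintype ?_
    rintro _ ⟨i, rfl⟩
    rw [← conj_zpow, S.hxa]
    exact zpow_mem (npow_mem_zpowers x a) i
  have h1 : ∀ (i : ℕ) (c : 𝐂), y ^ i * c * x * (y ^ i * c)⁻¹ = x ^ a ^ i := fun i c => by
    rw [← S.pow_conj]
    conv_rhs => rw [← SubP.mem_C_iff.1 c.2]
    group
  refine ⟨Equiv.ofBijective (fun q => ⟨y ^ (q.1 : ℕ) * q.2,
    mul_mem (pow_mem hy _) (centralizer_le_normalizer _ q.2.2)⟩) ⟨?_, fun n => ?_⟩, fun _ => rfl⟩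
  · rintro ⟨i, c⟩ ⟨j, c'⟩ h
    have h2 : y ^ (i : ℕ) * c = y ^ (j : ℕ) * c' := congrArg Subtype.val h
    have h3 := h1 i c
    rw [h2, h1, pow_eq_pow_iff_modEq, S.hx] at h3
    obtain rfl : j = i := Fin.ext (S.injOn_mod (mem_range.2 j.2) (mem_range.2 i.2) h3)
    exact Prod.ext rfl (Subtype.ext (mul_left_cancel h2))
  · obtain ⟨j, hj⟩ := S.hN n ((mem_normalizer_iff.1 n.2 x).1 (mem_zpowers x))
    have h2 : y ^ e ∈ 𝐂 := SubP.mem_C_iff.2 (by
      rw [S.pow_conj]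
      nth_rewrite 2 [← pow_one x]
      rw [pow_eq_pow_iff_modEq, S.hx, ← ZMod.natCast_eq_natCast_iff, Nat.cast_pow, ← S.ha,
        pow_orderOf_eq_one, Nat.cast_one])
    refine ⟨(⟨j % e, Nat.mod_lt _ S.e_pos⟩, ⟨(y ^ e) ^ (j / e) * ((y ^ j)⁻¹ * n), mul_mem
      (pow_mem h2 _) (SubP.mem_C_iff.2 (by rw [hj.eq, mul_inv_cancel_right]))⟩), Subtype.ext ?_⟩
    change y ^ (j % e) * ((y ^ e) ^ (j / e) * ((y ^ j)⁻¹ * n)) = n
    rw [← mul_assoc, ← pow_mul, ← pow_add, Nat.mod_add_div, mul_inv_cancel_left]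

theorem Gs.relIndex_eq (S : Gs p x y a e t) : (𝐂).relIndex 𝐍 = e := by
  obtain ⟨φ, -⟩ := S.exists_equiv
  have h := Nat.card_congr φ
  rw [Nat.card_prod, SubP.card_N, Nat.card_eq_fintype_card, Fintype.card_fin, mul_comm] at h
  exact (Nat.eq_of_mul_eq_mul_left Nat.card_pos h).symm

theorem Gs.sum_cjh (S : Gs p x y a e t) [Fintype 𝐍] (L : 𝐏 →* ℂˣ) (j : ℕ) :
    ∑ n : 𝐍, (SubP.cjh L n ⟨x ^ j, npow_mem_zpowers x j⟩ : ℂ) =
      Nat.card 𝐂 * eta (L ⟨x, mem_zpowers x⟩) a e j := by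
  have := Fintype.ofFinite 𝐂
  obtain ⟨φ, hφ⟩ := S.exists_equiv
  rw [← Equiv.sum_comp φ, Fintype.sum_prod_type, eta, mul_sum, ← Fin.sum_univ_eq_sum_range]
  refine sum_congr rfl fun i _ => ?_
  rw [sum_congr rfl (g := fun _ => ((L ⟨x, mem_zpowers x⟩ : ℂˣ) : ℂ) ^ (a ^ (i : ℕ) * j)), sum_const,
    Nat.card_eq_fintype_card, card_univ, nsmul_eq_mul]
  intro c _
  rw [SubP.cjh_apply, ← Units.val_pow_eq_pow_val, ← map_pow]
  congr 2
  refine Subtype.ext ?_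
  change φ (i, c) * x ^ j * (φ (i, c) : G)⁻¹ = x ^ (a ^ (i : ℕ) * j)
  rw [hφ, ← conj_pow, pow_mul, ← S.pow_conj]
  conv_rhs => rw [← SubP.mem_C_iff.1 c.2]
  congr 1
  group

theorem Cs.equiv_of_psl (C : Cs p x y a e t ζ d l) (he : 2 ≤ e) (ψ : G →* PSL(2, ZMod p))
    (h1 : Function.Surjective ψ) (h2 : ψ x ≠ 1) : Nonempty (G ⧸ center G ≃* PSL(2, ZMod p)) := by
  have h3 : ψ.ker = center G := le_antisymm (C.le_center he ψ.ker h2) fun z hz => by
    rw [MonoidHom.mem_ker, ← mem_bot, ← Class.LowDim.center_PSL2_eq_bot, mem_center_iff]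
    intro q
    obtain ⟨g, rfl⟩ := h1 q
    rw [← map_mul, ← map_mul, mem_center_iff.1 hz g]
  exact ⟨(QuotientGroup.quotientMulEquivOfEq h3.symm).trans
    (QuotientGroup.quotientKerEquivOfSurjective ψ h1)⟩

theorem Cs.main (C : Cs p x y a e t ζ d l) (h7 : 7 < p) (he : 2 ≤ e) (ht : 2 ≤ t) :
    (Nonempty (G ⧸ center G ≃* PSL(2, ZMod p)) ∧ t = 2) ∨
      (e + 3 ≤ t ∧ (Odd (Nat.card (center G)) → e ≤ 2)) := by
  have := Fintype.ofFinite G
  have h1 := C.het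
  have h2 : Odd p := hp.out.odd_of_ne_two (by omega)
  have h11 : 11 ≤ p := by
    by_contra h
    have h3 := hp.out
    interval_cases p <;> norm_num at h3
  rcases C.toGs.exists_rp ht C.hn C.irr.isCharacter C.hf C.deg C.hd.le with
    ⟨h3, ψ, h4, h5⟩ | ⟨-, k, _, _, _, ρ, R⟩
  · exact Or.inl ⟨C.equiv_of_psl he ψ h4 h5, Nat.eq_of_mul_eq_mul_left (by omega : 0 < e) (by omega)⟩
  have S := R.st C.toGs ht he C.hn C.hC
  obtain ⟨σ, b, hM⟩ := R.exists_MS C.toGs ht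
  rcases ht.eq_or_lt with rfl | h3
  · obtain ⟨ψ, h4, h5⟩ := hM.two S rfl h11
    exact Or.inl ⟨C.equiv_of_psl he (ψ.comp (QuotientGroup.mk' _))
      (h4.comp (QuotientGroup.mk'_surjective _)) h5, rfl⟩
  rcases he.eq_or_lt with rfl | h4
  · exact Or.inr ⟨by omega, fun _ => le_rfl⟩
  have key : ∀ θ ε, Th p x a e ζ d l θ ε → ε = 1 ∧ e + 3 ≤ t := fun θ ε hθ => by
    obtain ⟨h5, h6⟩ := C.bound hθ ht h4
    have h8 : Even (e * t) := by simpa [← h1, Nat.odd_add_one] using h2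
    rcases (show 3 ≤ t from h3).eq_or_lt with rfl | h9
    · have h10 := hM.three S rfl
      have h12 : Even e := by simpa [Nat.even_mul, show ¬ Even 3 by decide] using h8
      have := h6 h12
      omega
    obtain ⟨h10, h12⟩ := hM.big S h9
    rcases Nat.even_or_odd e with h13 | h13
    · have := h6 h13
      omega
    rcases hθ.sgn with h14 | h14
    · exact ⟨h14, ((h5 h13).1 h14).resolve_right (by omega)⟩
    have h15 := (h5 h13).2 h14
    have h16 : Even t := (Nat.even_mul.1 h8).resolve_left (Nat.not_even_iff_odd.2 h13)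
    obtain rfl : t = 4 := by obtain ⟨r, hr⟩ := h16; omega
    obtain rfl : e = 5 := by omega
    have h17 := hp.out
    rw [← h1] at h17
    norm_num at h17
  obtain ⟨θ, ε, hθ⟩ := C.exists_th he h3
  refine Or.inr ⟨(key θ ε hθ).2, fun hZ => ?_⟩
  obtain ⟨θ', hθ'⟩ := C.exists_th_odd hZ
  exact absurd (key θ' _ hθ').1 (by norm_num)

theorem Gs.main (S : Gs p x y a e t) (h7 : 7 < p) (hn : ¬ (zpowers x).Normal)
    (hζ : IsIrrCharacter G ζ) (hf : ∀ g, ζ g = ζ 1 → g = 1) (hd : charDegree ζ + 2 ≤ p) :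
    (Nonempty (G ⧸ center G ≃* PSL(2, ZMod p)) ∧
      (2 * charDegree ζ = p + 1 ∨ 2 * charDegree ζ = p - 1) ∧ t = 2) ∨
      (charDegree ζ + e = p ∧ e + 3 ≤ t ∧ (Odd (Nat.card (center G)) → e ≤ 2)) := by
  have := Fintype.ofFinite 𝐍
  have h1 := S.het
  have h0 := le_two_mul_degree S.hx S.hG hn hζ.isCharacter hf
  have hd1 := (coe_charDegree_of_isCharacter hζ.isCharacter).symm
  obtain ⟨L, hL, h⟩ := SubP.small_deg S.hx S.hG hζ hd1 hd fun h =>
    hp.out.one_lt.ne (by rw [← S.hx, hf x h, orderOf_one])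
  rw [S.relIndex_eq] at h
  rcases h with ⟨f, h2, -⟩ | ⟨h2, h3, h4⟩
  · have h3 : f + 1 ≤ t := Nat.lt_of_mul_lt_mul_left (a := e) (by rw [mul_comm e f]; omega)
    have h4 := Nat.mul_le_mul_left e h3
    have h5 : f ≠ 0 := by rintro rfl; omega
    rcases S.exists_rp (by omega) hn hζ.isCharacter hf hd1 (by nlinarith) with ⟨h6, -⟩ | ⟨h6, -⟩
    · obtain rfl : t = 2 := Nat.eq_of_mul_eq_mul_left S.e_pos (by omega)
      obtain rfl : f = 1 := by omega
      exact Or.inl ⟨quot_center_equiv S.hx S.hG hn hζ.isCharacter hf (by omega),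
        Or.inr (by omega), rfl⟩
    · nlinarith
  have ht : 2 ≤ t := by
    by_contra h
    interval_cases t <;> omega
  have C : Cs p x y a e t ζ (charDegree ζ) (L ⟨x, mem_zpowers x⟩) :=
    { S with
      irr := hζ, hf := hf, deg := hd1, hd := h2, hn := hn
      hC := fun g hg hg' => SubP.mem_center_of_norm hζ.isCharacter hf (by
        rw [h4 g (SubP.mem_C_iff.2 (by rw [hg.eq, mul_inv_cancel_right])) hg', hd1,
          Complex.norm_natCast])
      prim := by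
        rw [IsPrimitiveRoot.coe_units_iff, IsPrimitiveRoot.iff_orderOf,
          orderOf_injective L (SubP.injective_of_ne_one S.hx hL), ← Subgroup.orderOf_coe, S.hx]
      val := fun j hj => by
        have h5 := h3 ⟨x ^ j, npow_mem_zpowers x j⟩ fun h =>
          hj (S.hx ▸ orderOf_dvd_of_pow_eq_one (congrArg Subtype.val h))
        rw [S.sum_cjh, ← mul_neg] at h5
        exact mul_left_cancel₀ (Nat.cast_ne_zero.2 Nat.card_pos.ne') h5 }
  rcases C.main h7 (by omega) ht with ⟨h5, rfl⟩ | h5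
  · exact Or.inl ⟨h5, Or.inl (by omega), rfl⟩
  · exact Or.inr ⟨h2, h5⟩

theorem exists_of_sylow (P : Sylow p G) (hP : Nat.card P = p) (hn : ¬ (P : Subgroup G).Normal) :
    ∃ x : G, orderOf x = p ∧ ¬ p ^ 2 ∣ Nat.card G ∧ ¬ (zpowers x).Normal := by
  have h1 : ¬ p ^ 2 ∣ Nat.card G := fun h => P.not_dvd_index (by
    rw [← P.1.card_mul_index, show Nat.card P.1 = p from hP, pow_two] at h
    exact Nat.dvd_of_mul_dvd_mul_left hp.out.pos h)
  obtain ⟨u, hu⟩ := exists_prime_orderOf_dvd_card' (G := P) p hP.symm.dvd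
  have h2 := (Subgroup.orderOf_coe u).trans hu
  exact ⟨u, h2, h1, by rwa [← eq_zpowers_of_le h2 h1 P.2 (zpowers_le.2 u.2)]⟩

end Cfsg.Agent.Blau
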