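import Cfsg.Agent.Blau.Def

/-! The Jordan structure of `ad J` on `d × d` matrices, `J` a nilpotent Jordan block,
`d = p - e`. -/

set_option autoImplicit false
set_option linter.unusedSectionVars false

namespace Cfsg.Agent.Blau

open Cfsg Finset Subgroup Cfsg.Agent.Char Cfsg.Agent.Char.ModSl2 Cfsg.Agent.Block
open scoped MonoidAlgebra MatrixGroups

variable {k : Type*} [Field k] {p : ℕ} [hp : Fact p.Prime] [CharP k p] {d e : ℕ}

/-- `ad J` -/
noncomputable def adJ (k : Type*) [Field k] (d : ℕ) : Module.End k (Matrix (Fin d) (Fin d) k) :=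
  LinearMap.mulLeft k (jb k d) - LinearMap.mulRight k (jb k d)

/-- matrices supported on the diagonal `i - j = q` -/
def Dg {k : Type*} [Field k] {d : ℕ} (q : ℤ) (A : Matrix (Fin d) (Fin d) k) : Prop :=
  ∀ i j : Fin d, A i j ≠ 0 → ((i : ℕ) : ℤ) - (j : ℕ) = q

theorem adJ_apply (A : Matrix (Fin d) (Fin d) k) : adJ k d A = jb k d * A - A * jb k d := rfl

/-- the component of degree `q` -/
def prD (q : ℤ) : Module.End k (Matrix (Fin d) (Fin d) k) where
  toFun A := Matrix.of fun i j => if ((i : ℕ) : ℤ) - (j : ℕ) = q then A i j else 0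
  map_add' A B := by ext i j; by_cases h : ((i : ℕ) : ℤ) - (j : ℕ) = q <;> simp [h]
  map_smul' c A := by ext i j; by_cases h : ((i : ℕ) : ℤ) - (j : ℕ) = q <;> simp [h]

theorem prD_apply (q : ℤ) (A : Matrix (Fin d) (Fin d) k) (i j : Fin d) :
    prD q A i j = if ((i : ℕ) : ℤ) - (j : ℕ) = q then A i j else 0 := rfl

theorem dg_prD (q : ℤ) (A : Matrix (Fin d) (Fin d) k) : Dg q (prD q A) := fun i j h => by
  by_contra c; exact h (if_neg c)

theorem Dg.prD_eq {q : ℤ} {A : Matrix (Fin d) (Fin d) k} (h : Dg q A) : prD q A = A := by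
  ext i j
  rw [prD_apply]
  split_ifs with c
  exacts [rfl, (not_not.1 (mt (h i j) c)).symm]

theorem Dg.prD_ne {q r : ℤ} {A : Matrix (Fin d) (Fin d) k} (h : Dg q A) (n : q ≠ r) : prD r A = 0 := by
  ext i j
  rw [prD_apply]
  split_ifs with c
  exacts [not_not.1 fun a => n ((h i j a).symm.trans c), rfl]

theorem prD_mul_left {r : ℤ} {B : Matrix (Fin d) (Fin d) k} (h : Dg r B) (q : ℤ) (A : Matrix (Fin d) (Fin d) k) :
    prD (q + r) (B * A) = B * prD q A := by
  ext i j
  rw [prD_apply, Matrix.mul_apply, Matrix.mul_apply, Finset.ite_sum_zero]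
  refine sum_congr rfl fun l _ => ?_
  by_cases c : B i l = 0
  · simp [c]
  · have := h i l c
    rw [prD_apply, mul_ite, mul_zero]
    exact if_congr (by omega) rfl rfl

theorem prD_mul_right {r : ℤ} {B : Matrix (Fin d) (Fin d) k} (h : Dg r B) (q : ℤ) (A : Matrix (Fin d) (Fin d) k) :
    prD (q + r) (A * B) = prD q A * B := by
  ext i j
  rw [prD_apply, Matrix.mul_apply, Matrix.mul_apply, Finset.ite_sum_zero]
  refine sum_congr rfl fun l _ => ?_
  by_cases c : B l j = 0
  · simp [c]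
  · have := h l j c
    rw [prD_apply, ite_mul, zero_mul]
    exact if_congr (by omega) rfl rfl

theorem Dg.bracket {q r : ℤ} {A B : Matrix (Fin d) (Fin d) k} (hB : Dg r B) (h : Dg q A) :
    Dg (q + r) (B * A - A * B) := by
  have := dg_prD (q + r) (B * A - A * B)
  rwa [map_sub, prD_mul_left hB, prD_mul_right hB, h.prD_eq] at this

theorem Dg.eq_zero {q : ℤ} {A : Matrix (Fin d) (Fin d) k} (h : Dg q A) (hq : q ≤ -d) : A = 0 := by
  ext i j
  by_contra c
  have := h i j c
  omega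

theorem dg_jb : Dg 1 (jb k d) := fun i j h => by
  have : (i : ℕ) = j + 1 := by by_contra c; exact h (if_neg c)
  omega

theorem jb_mul_apply (A : Matrix (Fin d) (Fin d) k) {i l : Fin d} (h : (i : ℕ) = l + 1) (j : Fin d) :
    (jb k d * A) i j = A l j := by
  rw [Matrix.mul_apply, sum_eq_single l (fun b _ n => by
    rw [show jb k d i b = 0 from if_neg fun c => n (Fin.ext (by omega)), zero_mul]) (by simp),
    show jb k d i l = 1 from if_pos h, one_mul]

theorem mul_jb_apply (A : Matrix (Fin d) (Fin d) k) (i : Fin d) {l j : Fin d} (h : (l : ℕ) = j + 1) :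
    (A * jb k d) i j = A i l := by
  rw [Matrix.mul_apply, sum_eq_single l (fun b _ n => by
    rw [show jb k d b j = 0 from if_neg fun c => n (Fin.ext (by omega)), mul_zero]) (by simp),
    show jb k d l j = 1 from if_pos h, mul_one]

theorem jb_pow_apply (r : ℕ) (i j : Fin d) : (jb k d ^ r) i j = if (i : ℕ) = j + r then 1 else 0 := by
  induction r generalizing i with
  | zero => simp [Matrix.one_apply, Fin.ext_iff]
  | succ r ih =>
    rw [pow_succ']
    rcases i with ⟨_ | i, hi⟩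
    · rw [if_neg (by simp), Matrix.mul_apply]
      exact sum_eq_zero fun l _ => by rw [show jb k d ⟨0, hi⟩ l = 0 by simp [jb], zero_mul]
    · rw [jb_mul_apply _ (l := ⟨i, by omega⟩) rfl, ih]
      exact if_congr (by simp; omega) rfl rfl

theorem dg_jb_pow (r : ℕ) : Dg r (jb k d ^ r) := fun i j h => by
  have : (i : ℕ) = j + r := by by_contra c; exact h (by rw [jb_pow_apply, if_neg c])
  omega

theorem jb_pow_eq_zero {r : ℕ} (h : d ≤ r) : jb k d ^ r = 0 := by
  ext i j; rw [jb_pow_apply, if_neg (by omega)]; rfl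

theorem Dg.adJ {q : ℤ} {A : Matrix (Fin d) (Fin d) k} (h : Dg q A) : Dg (q + 1) (adJ k d A) :=
  dg_jb.bracket h

theorem prD_adJ_pow (n : ℕ) (q : ℤ) (A : Matrix (Fin d) (Fin d) k) :
    prD (q + n) ((adJ k d ^ n) A) = (adJ k d ^ n) (prD q A) := by
  induction n with
  | zero => simp
  | succ n ih =>
    rw [pow_succ', Module.End.mul_apply, Module.End.mul_apply, ← ih, adJ_apply, adJ_apply, map_sub,
      Nat.cast_succ, ← add_assoc, prD_mul_left dg_jb, prD_mul_right dg_jb]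

theorem Dg.adJ_pow {q : ℤ} {A : Matrix (Fin d) (Fin d) k} (h : Dg q A) (n : ℕ) :
    Dg (q + n) ((Blau.adJ k d ^ n) A) := by
  have := dg_prD (q + n) ((Blau.adJ k d ^ n) A)
  rwa [prD_adJ_pow, h.prD_eq] at this

theorem adJ_jb_pow (r : ℕ) : adJ k d (jb k d ^ r) = 0 := by
  rw [adJ_apply, ← pow_succ, ← pow_succ', sub_self]

theorem eq_sum_col {A : Matrix (Fin d) (Fin d) k} (h : adJ k d A = 0) (c : ℕ → k)
    (hc : ∀ i j : Fin d, (j : ℕ) = 0 → A i j = c i) : A = ∑ j ∈ range d, c j • jb k d ^ j := by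
  rw [← sub_eq_zero]
  generalize hB : A - ∑ j ∈ range d, c j • jb k d ^ j = B
  have h1 : jb k d * B = B * jb k d := by
    rw [← sub_eq_zero, ← adJ_apply, ← hB]; simp [h, adJ_jb_pow]
  ext i ⟨j, hj⟩
  induction j generalizing i with
  | zero =>
    rw [← hB, Matrix.sub_apply, hc _ _ rfl, Matrix.sum_apply, sum_eq_single (i : ℕ) (fun b _ n => by
      simp [jb_pow_apply, n.symm]) (by simp)]
    simp [jb_pow_apply]
  | succ j ih =>
    rw [← mul_jb_apply B i (j := ⟨j, by omega⟩) rfl, ← h1, Matrix.mul_apply]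
    exact sum_eq_zero fun l _ => by rw [ih]; simp

theorem exists_col (A : Matrix (Fin d) (Fin d) k) : ∃ c : ℕ → k, ∀ i j : Fin d, (j : ℕ) = 0 → A i j = c i :=
  ⟨fun i => if h : i < d then A ⟨i, h⟩ ⟨0, by omega⟩ else 0, fun i ⟨j, _⟩ e => by
    obtain rfl : j = 0 := e
    simp⟩

/-- the lowering operator -/
noncomputable def fb (k : Type*) [Field k] (d : ℕ) : Matrix (Fin d) (Fin d) k :=
  Matrix.of fun i j => if (j : ℕ) = i + 1 then ((j : ℕ) : k) * ((d : k) - (j : ℕ)) else 0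

theorem dg_fb : Dg (-1) (fb k d) := fun i j h => by
  have : (j : ℕ) = i + 1 := by by_contra c; exact h (if_neg c)
  omega

theorem jb_fb : jb k d * fb k d - fb k d * jb k d = Matrix.diagonal fun i : Fin d => 2 * ((i : ℕ) : k) + 1 - d := by
  have h1 : jb k d * fb k d = Matrix.diagonal fun i : Fin d => ((i : ℕ) : k) * ((d : k) - (i : ℕ)) := by
    ext ⟨i, hi⟩ j
    rcases i with _ | i
    · rw [Matrix.mul_apply, sum_eq_zero fun l _ => by
        rw [show jb k d ⟨0, hi⟩ l = 0 by simp [jb], zero_mul]]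
      simp [Matrix.diagonal_apply]
    · rw [jb_mul_apply _ (l := ⟨i, by omega⟩) rfl, Matrix.diagonal_apply]
      exact if_ctx_congr (by simp [Fin.ext_iff, eq_comm]) (fun e => by rw [← e]) fun _ => rfl
  have h2 : fb k d * jb k d = Matrix.diagonal fun i : Fin d => (((i : ℕ) : k) + 1) * ((d : k) - ((i : ℕ) + 1)) := by
    ext i j
    by_cases c : (j : ℕ) + 1 < d
    · rw [mul_jb_apply _ i (l := ⟨j + 1, c⟩) rfl, Matrix.diagonal_apply]
      exact if_ctx_congr (by simp [Fin.ext_iff, eq_comm]) (fun e => by simp [e]) fun _ => rfl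
    · rw [Matrix.mul_apply, sum_eq_zero fun l _ => by
        rw [show jb k d l j = 0 from if_neg (by omega), mul_zero], Matrix.diagonal_apply]
      split_ifs with e
      · rw [e, show (d : k) = (j : ℕ) + 1 by exact_mod_cast congrArg (Nat.cast : ℕ → k) (by omega)]; simp
      · rfl
  rw [h1, h2, Matrix.diagonal_sub]
  congr 1; funext i; ring

/-- `ad F` -/
noncomputable def adF (k : Type*) [Field k] (d : ℕ) (A : Matrix (Fin d) (Fin d) k) : Matrix (Fin d) (Fin d) k :=
  fb k d * A - A * fb k d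

theorem adJ_adF {q : ℤ} {A : Matrix (Fin d) (Fin d) k} (h : Dg q A) :
    adJ k d (adF k d A) = adF k d (adJ k d A) + (2 * (q : k)) • A := by
  have : (jb k d * fb k d - fb k d * jb k d) * A - A * (jb k d * fb k d - fb k d * jb k d) = (2 * (q : k)) • A := by
    rw [jb_fb]
    ext i j
    rw [Matrix.sub_apply, Matrix.diagonal_mul, Matrix.mul_diagonal, Matrix.smul_apply, smul_eq_mul]
    by_cases c : A i j = 0
    · simp [c]
    · rw [← h i j c]; push_cast; ring
  rw [← this, adJ_apply, adJ_apply, adF, adF]; noncomm_ring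

theorem adJ_pow_adF {q : ℤ} {A : Matrix (Fin d) (Fin d) k} (h : Dg q A) (m : ℕ) :
    (adJ k d ^ (m + 1)) (adF k d A) =
      adF k d ((adJ k d ^ (m + 1)) A) + (((m : k) + 1) * (2 * q + m)) • (adJ k d ^ m) A := by
  induction m with
  | zero => simpa using adJ_adF h
  | succ m ih =>
    rw [pow_succ', Module.End.mul_apply, ih, map_add, adJ_adF (h.adJ_pow _), map_smul, add_assoc,
      ← Module.End.mul_apply (adJ k d) (_ ^ m), ← pow_succ', ← add_smul, Module.End.mul_apply]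
    congr 2; push_cast; ring

theorem adF_step {q : ℤ} {A : Matrix (Fin d) (Fin d) k} (h : Dg q A) {m : ℕ} (h0 : (adJ k d ^ (m + 1)) A = 0) :
    (adJ k d ^ (m + 1 + 1)) (adF k d A) = 0 ∧
      (adJ k d ^ (m + 1)) (adF k d A) = (((m : k) + 1) * (2 * q + m)) • (adJ k d ^ m) A := by
  refine ⟨?_, by rw [adJ_pow_adF h, h0]; simp [adF]⟩
  rw [adJ_pow_adF h, pow_succ' _ (m + 1), Module.End.mul_apply, h0]; simp [adF]

theorem Dg.adF_iter {q : ℤ} {A : Matrix (Fin d) (Fin d) k} (h : Dg q A) (j : ℕ) : Dg (q - j) ((adF k d)^[j] A) := by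
  induction j with
  | zero => simpa using h
  | succ j ih =>
    rw [Function.iterate_succ_apply', show q - (j + 1 : ℕ) = q - j + -1 by push_cast; ring]
    exact dg_fb.bracket ih

theorem adF_iter {q : ℤ} {A : Matrix (Fin d) (Fin d) k} (h : Dg q A) {m : ℕ} (h0 : (adJ k d ^ (m + 1)) A = 0)
    (j : ℕ) (h1 : m + j < p) (h2 : ∀ l < j, ¬ (p : ℤ) ∣ 2 * q + m - l) :
    (adJ k d ^ (m + j + 1)) ((adF k d)^[j] A) = 0 ∧
      ∃ c : k, c ≠ 0 ∧ (adJ k d ^ (m + j)) ((adF k d)^[j] A) = c • (adJ k d ^ m) A := by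
  induction j with
  | zero => exact ⟨h0, 1, one_ne_zero, by simp⟩
  | succ j ih =>
    obtain ⟨a, c, c0, b⟩ := ih (by omega) fun l hl => h2 l (by omega)
    obtain ⟨a', b'⟩ := adF_step (h.adF_iter j) a
    rw [Function.iterate_succ_apply']
    refine ⟨a', _, ?_, by rw [← add_assoc, b', b, smul_smul]⟩
    refine mul_ne_zero (mul_ne_zero ?_ fun e => h2 j (by omega) ((CharP.intCast_eq_zero_iff k p _).1 ?_)) c0
    · exact_mod_cast cast_ne_zero (k := k) (p := p) (i := m + j + 1) (by omega) h1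
    · rw [← e]; push_cast; ring

/-- The centralizer of `J` consists of the polynomials in `J`. -/
theorem eq_sum_of_adJ {A : Matrix (Fin d) (Fin d) k} (h : adJ k d A = 0) :
    ∃ c : ℕ → k, A = ∑ j ∈ range d, c j • jb k d ^ j :=
  (exists_col A).imp (eq_sum_col h)

/-- Lefschetz.  Let `F` be the matrix with entries `F (j-1) j = j (d - j)`, so that
`J F - F J = H = diagonal (2 j + 1 - d)`; `E = ad J`, `ad F`, `ad H` satisfy `E F - F E = H` and
`ad H = 2 q` on the diagonal `q`.  By induction `E^m F v - F E^m v = m (2 q + m - 1) E^(m-1) v` for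
`v` of degree `q`.  If `v ≠ 0` has degree `-i` and `m ≤ 2 i` is least with `E^m v = 0`, then for
`j = 0, …, d - i` the least exponent killing `F^j v` (degree `-i-j`) is `m + j`, the factors
`(m + j)(m - 1 - 2 i - j)` being nonzero as `m + j`, `2 i + 1 + j - m ≤ d - 1 + i < p` for
`j ≤ d - 1 - i`; but degree `-d` is zero. -/
theorem eq_zero_of_adJ_pow (hd : d + e = p) {i : ℕ} (hi : i ≤ e) {A : Matrix (Fin d) (Fin d) k}
    (hA : Dg (-(i : ℤ)) A) (h : (adJ k d ^ (2 * i)) A = 0) : A = 0 := by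
  classical
  by_contra n
  have hi' : i < d := not_le.1 fun c => n (hA.eq_zero (by omega))
  have ex : ∃ m, (adJ k d ^ m) A = 0 := ⟨_, h⟩
  have h1 := Nat.find_min' ex h
  obtain ⟨m, hm⟩ := Nat.exists_eq_succ_of_ne_zero (n := Nat.find ex) fun c => n (by simpa [c] using Nat.find_spec ex)
  obtain ⟨-, c, c0, h2⟩ := adF_iter (p := p) hA (m := m) (hm ▸ Nat.find_spec ex :) (d - i) (by omega) fun l hl a => by
    have := Int.le_of_dvd (by omega) (dvd_neg.2 a)
    omega
  rw [(hA.adF_iter _).eq_zero (by omega), map_zero, eq_comm, smul_eq_zero] at h2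
  exact Nat.find_min ex (by omega) (h2.resolve_left c0)

theorem adJ_pow_p (hd : d + e = p) (A : Matrix (Fin d) (Fin d) k) : adJ k d ((adJ k d ^ (p - 1)) A) = 0 := by
  rcases Nat.eq_zero_or_pos d with rfl | h
  · exact Subsingleton.elim _ _
  have : Nonempty (Fin d) := ⟨⟨0, h⟩⟩
  have := charP_of_injective_algebraMap (algebraMap k (Module.End k (Matrix (Fin d) (Fin d) k))).injective p
  rw [← Module.End.mul_apply, ← pow_succ', Nat.sub_add_cancel hp.out.pos, adJ,
    sub_pow_char_of_commute p (LinearMap.commute_mulLeft_right _ _), LinearMap.pow_mulLeft,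
    LinearMap.pow_mulRight, jb_pow_eq_zero (by omega)]
  simp

/-- `(ad J)^(p-1) A = ∑_{r<p} J^r A J^(p-1-r)` (`(X - Y)^(p-1) = ∑ X^r Y^(p-1-r)` in characteristic
`p`).  It is killed by `ad J` and its entries in degrees `< e` vanish. -/
theorem adJ_pow_mem (hd : d + e = p) (A : Matrix (Fin d) (Fin d) k) :
    ∃ c : ℕ → k, (adJ k d ^ (p - 1)) A = ∑ j ∈ Ico e d, c j • jb k d ^ j := by
  obtain ⟨c, hc⟩ := exists_col ((adJ k d ^ (p - 1)) A)
  refine ⟨c, (eq_sum_col (adJ_pow_p hd A) c hc).trans (sum_subset (fun j => by simp) fun j h1 h2 => ?_).symm⟩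
  rw [mem_range] at h1
  have h3 := prD_adJ_pow (p - 1) ((j : ℤ) - (p - 1 : ℕ)) A
  rw [sub_add_cancel, (dg_prD _ A).eq_zero (by have := hp.out.pos; simp [h1] at h2; omega), map_zero] at h3
  have h4 := congrFun₂ h3 ⟨j, h1⟩ ⟨0, by omega⟩
  rw [prD_apply, if_pos (by simp), hc _ _ rfl] at h4
  simp [show c j = 0 from h4]

/-- For `e ≤ j < d` and `A` the matrix unit at `(j - e, d - 1)`, `(ad J)^(p-1) A` has degree `j`,
commutes with `J` and has entry `1` at `(j, 0)`. -/
theorem exists_adJ_pow_eq (hd : d + e = p) {j : ℕ} (h1 : e ≤ j) (h2 : j < d) :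
    ∃ A, (adJ k d ^ (p - 1)) A = jb k d ^ j := by
  let A : Matrix (Fin d) (Fin d) k := Matrix.single ⟨j - e, by omega⟩ ⟨d - 1, by omega⟩ 1
  have a1 : Dg ((j : ℤ) - (p - 1 : ℕ)) A := fun a b h => by
    obtain ⟨rfl, rfl⟩ : (⟨j - e, by omega⟩ : Fin d) = a ∧ (⟨d - 1, by omega⟩ : Fin d) = b := by
      by_contra c; exact h (if_neg c)
    simp only; omega
  have a2 := a1.adJ_pow (p - 1)
  rw [sub_add_cancel] at a2
  obtain ⟨c, hc⟩ := exists_col ((adJ k d ^ (p - 1)) A)
  have a3 := congrArg (prD j) (eq_sum_col (adJ_pow_p hd A) c hc)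
  rw [a2.prD_eq, map_sum, sum_eq_single j (fun b _ n => by
    rw [map_smul, (dg_jb_pow b).prD_ne (by omega), smul_zero]) (by simp; omega), map_smul, (dg_jb_pow j).prD_eq] at a3
  have a4 : c j ≠ 0 := by
    have e1 : ∀ r s : ℕ, (jb k d ^ r * (A * jb k d ^ s)) ⟨j, h2⟩ ⟨0, by omega⟩ =
        (if j = j - e + r then 1 else 0) * if d - 1 = 0 + s then 1 else 0 := fun r s => by
      rw [← mul_assoc, Matrix.mul_apply, sum_eq_single ⟨d - 1, by omega⟩ (fun b _ n => by
        rw [Matrix.mul_single_apply_of_ne _ _ _ _ _ n, zero_mul]) (by simp), Matrix.mul_single_apply_same,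
        jb_pow_apply, jb_pow_apply, mul_one]
    have e2 : -LinearMap.mulRight k (jb k d) = (-1 : k) • LinearMap.mulRight k (jb k d) := (neg_one_smul k _).symm
    rw [← hc ⟨j, h2⟩ ⟨0, by omega⟩ rfl, adJ, sub_eq_add_neg, e2, ((LinearMap.commute_mulLeft_right (R := k) (jb k d) (jb k d)).smul_right (-1 : k)).add_pow,
      LinearMap.sum_apply, Matrix.sum_apply]
    simp only [smul_pow, LinearMap.pow_mulLeft, LinearMap.pow_mulRight, LinearMap.smul_apply, map_smul, map_nsmul,
      Module.End.mul_apply, Module.End.natCast_apply, LinearMap.mulLeft_apply, LinearMap.mulRight_apply,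
      Matrix.smul_apply, e1]
    have hp1 := hp.out.pos
    rw [sum_eq_single e (fun b _ n => by rw [if_neg (by omega)]; simp) (by simp; omega), if_pos (by omega),
      if_pos (by omega)]
    have := (hp.out.coprime_choose_of_lt (b := p - 1) (a := e) (by omega) (by omega))
    simpa [CharP.cast_eq_zero_iff k p, ← hp.out.coprime_iff_not_dvd] using this
  exact ⟨(c j)⁻¹ • A, by rw [map_smul, a3, smul_smul, inv_mul_cancel₀ a4, one_smul]⟩

/-- `g i ≠ 0` of degree `-i` killed by `(ad J)^(2i+1)` exists since the diagonals `-i` and `i + 1`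
have `d - i` and `d - i - 1` entries; `g i ∉ range (ad J)` by Lefschetz for `i + 1` (take the
component of degree `-i-1`), and `(ad J)^(2i) g i` is a nonzero (Lefschetz) element of degree `i` of
the centralizer.  Independence: take components of degree `q` (`ad J` is homogeneous), let `j₀` be
least with a nonzero coefficient at `(i₀, j₀)`, `j₀ - i₀ = q`; then
`(ad J)^j₀ (c g i₀ + ad J r) = 0` with `c g i₀ + ad J r ≠ 0` of degree `-i₀` and `j₀ ≤ 2 i₀`. -/
theorem exists_chains (hd : d + e = p) (he : e < d) : ∃ g : ℕ → Matrix (Fin d) (Fin d) k,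
    (∀ i < e, Dg (-(i : ℤ)) (g i) ∧ (adJ k d ^ (2 * i + 1)) (g i) = 0 ∧
      ∃ c : k, c ≠ 0 ∧ (adJ k d ^ (2 * i)) (g i) = c • jb k d ^ i) ∧
    ∀ (S : Finset (ℕ × ℕ)) (c : ℕ × ℕ → k) (n : ℕ) (m : Matrix (Fin d) (Fin d) k),
      (∀ q ∈ S, q.1 < e ∧ q.2 ≤ 2 * q.1 ∧ q.2 < n) →
        ∑ q ∈ S, c q • (adJ k d ^ q.2) (g q.1) = (adJ k d ^ n) m → ∀ q ∈ S, c q = 0 := by
  have h1 : ∀ i < e, Dg (-(i : ℤ)) ((adF k d)^[2 * i] (jb k d ^ i)) ∧
      (adJ k d ^ (2 * i + 1)) ((adF k d)^[2 * i] (jb k d ^ i)) = 0 ∧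
      ∃ c : k, c ≠ 0 ∧ (adJ k d ^ (2 * i)) ((adF k d)^[2 * i] (jb k d ^ i)) = c • jb k d ^ i := fun i hi => by
    refine ⟨by convert (dg_jb_pow (k := k) (d := d) i).adF_iter (2 * i) using 1; push_cast; ring, ?_⟩
    simpa using adF_iter (p := p) (dg_jb_pow (k := k) (d := d) i) (m := 0) (by simpa using adJ_jb_pow i) (2 * i)
      (by omega) fun l hl a => by
        have := Int.le_of_dvd (by omega) a
        omega
  refine ⟨fun i => (adF k d)^[2 * i] (jb k d ^ i), h1, fun S c n m hS hs => ?_⟩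
  generalize hg : (fun i => (adF k d)^[2 * i] (jb k d ^ i)) = g
  replace hg : ∀ i, (adF k d)^[2 * i] (jb k d ^ i) = g i := congrFun hg
  simp only [hg] at h1 hs
  classical
  by_contra! hne
  obtain ⟨q, hq, hmin⟩ := exists_min_image (S.filter fun q => c q ≠ 0) (·.2) (let ⟨q, a, b⟩ := hne; ⟨q, by simp [a, b]⟩)
  rw [mem_filter] at hq
  obtain ⟨q1, q2, q3⟩ := hS q hq.1
  obtain ⟨g1, g2, c', c0, g3⟩ := h1 q.1 q1
  have hr : ∀ {n}, q.2 < n → ∀ m, (adJ k d ^ n) m ∈ LinearMap.range (adJ k d ^ (q.2 + 1)) := fun {n} h m =>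
    ⟨(adJ k d ^ (n - (q.2 + 1))) m, by rw [← Module.End.mul_apply, ← pow_add, Nat.add_sub_cancel' h]⟩
  have h2 := congrArg (prD (-q.1 + q.2)) hs
  rw [← add_sum_erase _ _ hq.1, map_add, map_smul, (g1.adJ_pow _).prD_eq, ← eq_sub_iff_add_eq,
    ← sub_add_cancel (-(q.1 : ℤ) + q.2) n, prD_adJ_pow, sub_add_cancel, map_sum] at h2
  obtain ⟨r, h3⟩ := h2 ▸ sub_mem (hr q3 _) (Submodule.sum_mem _ fun q' hq' => by
    by_cases a : c q' = 0
    · simp [a]
    obtain ⟨n', m'⟩ := mem_erase.1 hq'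
    have b := hmin q' (mem_filter.2 ⟨m', a⟩)
    have b1 := ((h1 q'.1 (hS q' m').1).1.adJ_pow q'.2)
    rw [map_smul]
    by_cases b2 : -(q'.1 : ℤ) + q'.2 = -q.1 + q.2
    · rw [← b2, b1.prD_eq]
      exact Submodule.smul_mem _ _ (hr (lt_of_le_of_ne b fun e => n' (Prod.ext (by omega) e.symm)) _)
    · simp [b1.prD_ne b2])
  have h4 := congrArg (prD (-q.1 - 1 + (q.2 + 1 : ℕ))) h3
  rw [prD_adJ_pow, show -(q.1 : ℤ) - 1 + (q.2 + 1 : ℕ) = -q.1 + q.2 by push_cast; ring, map_smul,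
    (g1.adJ_pow _).prD_eq, pow_succ, Module.End.mul_apply, ← map_smul, ← sub_eq_zero, ← map_sub] at h4
  have h5 := eq_zero_of_adJ_pow hd q1.le (A := adJ k d (prD (-q.1 - 1) r) - c q • g q.1) (by
    have := dg_prD (-q.1) (adJ k d (prD (-q.1 - 1) r) - c q • g q.1)
    have a := (dg_prD (-q.1 - 1) r).adJ
    rw [sub_add_cancel] at a
    rwa [map_sub, map_smul, g1.prD_eq, a.prD_eq] at this)
    (by rw [← Nat.sub_add_cancel q2, pow_add, Module.End.mul_apply, h4, map_zero])
  rw [sub_eq_zero] at h5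
  have h6 := eq_zero_of_adJ_pow hd (i := q.1 + 1) q1 (A := prD (-q.1 - 1) r)
    (by convert dg_prD (-q.1 - 1) r using 1; push_cast; ring)
    (by rw [mul_add, mul_one, pow_succ, Module.End.mul_apply, h5, map_smul, g2, smul_zero])
  rw [h6, map_zero, eq_comm, smul_eq_zero] at h5
  rw [h5.resolve_left hq.2, map_zero] at g3
  have := congrFun₂ g3 ⟨q.1, by omega⟩ ⟨0, by omega⟩
  simp [jb_pow_apply, c0.symm] at this

end Cfsg.Agent.Blau
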