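import Cfsg.Agent.Blau.Jor

/-! A module with a unique maximal submodule has at most one non-free Jordan block. -/

set_option autoImplicit false
set_option linter.unusedSectionVars false

namespace Cfsg.Agent.Blau

open Cfsg Finset Subgroup Cfsg.Agent.Char.ModSl2 Cfsg.Agent.Block
open scoped MonoidAlgebra MatrixGroups

variable {k : Type*} [Field k] [IsAlgClosed k] {p : ℕ} [hp : Fact p.Prime] [CharP k p]
  {G : Type*} [Group G] [Finite G] {x y : G} {a e t : ℕ}
variable {T : Type*} [AddCommGroup T] [Module k T] [Module k[G] T] [IsScalarTower k k[G] T]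
  [FiniteDimensional k T]

section aux

variable {V W : Type*} [AddCommGroup V] [Module k V] [Module k[G] V] [IsScalarTower k k[G] V]
  [AddCommGroup W] [Module k W] [Module k[G] W] [IsScalarTower k k[G] W]

/-- the action of an element of the group algebra as a linear map -/
noncomputable def lm (k : Type*) [Field k] {G : Type*} [Group G] (V : Type*) [AddCommGroup V]
    [Module k V] [Module k[G] V] [IsScalarTower k k[G] V] (c : k[G]) : V →ₗ[k] V :=
  Algebra.lsmul k k V c

omit [IsAlgClosed k] in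
@[simp] theorem lm_apply (c : k[G]) (v : V) : lm k V c v = c • v := rfl

omit [IsAlgClosed k] in
theorem pow_smul_add (c : k[G]) (i j : ℕ) (v : V) : c ^ i • c ^ j • v = c ^ (i + j) • v := by
  rw [pow_add, mul_smul]

omit [IsAlgClosed k] in
theorem pow_smul_one (c : k[G]) (i : ℕ) (v : V) : c ^ i • c • v = c ^ (i + 1) • v := by
  rw [pow_succ, mul_smul]

omit [IsAlgClosed k] in
theorem one_smul_pow (c : k[G]) (i : ℕ) (v : V) : c • c ^ i • v = c ^ (i + 1) • v := by
  rw [pow_succ', mul_smul]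

omit [IsAlgClosed k] in
theorem pow_smul_of_le (c : k[G]) {i j : ℕ} (h : i ≤ j) (v : V) : c ^ j • v = c ^ i • c ^ (j - i) • v := by
  rw [pow_smul_add, Nat.add_sub_cancel' h]

omit [IsAlgClosed k] in
theorem pow_smul_of_le' (c : k[G]) {i j : ℕ} (h : i ≤ j) (v : V) :
    c ^ j • v = c ^ (j - i) • c ^ i • v := by
  rw [pow_smul_add, Nat.sub_add_cancel h]

omit [IsAlgClosed k] in
theorem map_pow_smul {c : k[G]} {f : V →ₗ[k] W} (hf : ∀ v, f (c • v) = c • f v) (j : ℕ) (v : V) :
    f (c ^ j • v) = c ^ j • f v := by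
  induction j with
  | zero => simp
  | succ j ih => rw [← one_smul_pow, hf, ih, one_smul_pow]

omit [IsAlgClosed k] in
theorem span_ker {c : k[G]} {u m : V} {s : ℕ} (hu : c ^ (s + 1) • u = 0) (h0 : c ^ s • u ≠ 0)
    (hm : m ∈ Submodule.span k (Set.range fun j : ℕ => c ^ j • u)) (hc : c • m = 0) :
    ∃ r : k, m = r • c ^ s • u := by
  set B := Submodule.span k (Set.range fun j : ℕ => c ^ j • u)
  have h1 : ∀ m ∈ B, c ^ (s + 1) • m = 0 ∧ ∃ r : k, ∃ m' ∈ B, m = r • u + c • m' := by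
    intro m hm
    induction hm using Submodule.span_induction with
    | mem _ h =>
      obtain ⟨j, rfl⟩ := h
      refine ⟨by rw [pow_smul_add, add_comm, ← pow_smul_add, hu, smul_zero], ?_⟩
      rcases j with _ | j
      · exact ⟨1, 0, zero_mem _, by simp⟩
      · exact ⟨0, _, Submodule.subset_span ⟨j, rfl⟩, by simp [one_smul_pow]⟩
    | zero => exact ⟨smul_zero _, 0, 0, zero_mem _, by simp⟩
    | add _ _ _ _ h1 h2 =>
      obtain ⟨h1, r, m, hm, rfl⟩ := h1
      obtain ⟨h2, r', m', hm', rfl⟩ := h2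
      exact ⟨by rw [smul_add, h1, h2, add_zero], r + r', m + m', add_mem hm hm', by
        rw [add_smul, smul_add]; abel⟩
    | smul d _ _ h1 =>
      obtain ⟨h1, r, m, hm, rfl⟩ := h1
      exact ⟨by rw [smul_comm, h1, smul_zero], d * r, d • m, B.smul_mem d hm, by
        rw [smul_add, mul_smul, smul_comm d c]⟩
  have h2 : ∀ i ≤ s, ∃ m' ∈ B, m = c ^ i • m' := by
    intro i
    induction i with
    | zero => exact fun _ => ⟨m, hm, by simp⟩
    | succ i ih =>
      intro hi
      obtain ⟨m', hm', rfl⟩ := ih (by omega)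
      obtain ⟨-, r, m'', hm'', rfl⟩ := h1 m' hm'
      have h3 := congrArg (c ^ (s - (i + 1)) • ·) hc
      simp only [one_smul_pow, pow_smul_add, smul_zero, Nat.sub_add_cancel hi, smul_add,
        pow_smul_one, smul_comm _ r] at h3
      rw [show s - (i + 1) + (i + 1 + 1) = s + 1 by omega, (h1 m'' hm'').1, add_zero] at h3
      obtain rfl : r = 0 := (smul_eq_zero.1 h3).resolve_right h0
      exact ⟨m'', hm'', by simp [pow_smul_one]⟩
  obtain ⟨m', hm', rfl⟩ := h2 s le_rfl
  obtain ⟨-, r, m'', hm'', rfl⟩ := h1 m' hm'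
  exact ⟨r, by rw [smul_add, pow_smul_one, (h1 m'' hm'').1, add_zero, smul_comm]⟩

omit [IsAlgClosed k] in
theorem exists_top {c : k[G]} {n : ℕ} {v : V} (hn : c ^ n • v = 0) (hv : v ≠ 0) :
    ∃ r, c ^ r • v ≠ 0 ∧ c • c ^ r • v = 0 := by
  induction n with
  | zero => exact absurd (by simpa using hn) hv
  | succ n ih =>
    by_cases h : c ^ n • v = 0
    · exact ih h
    · exact ⟨n, h, by rw [one_smul_pow, hn]⟩

omit [IsAlgClosed k] in
theorem Gs.D_pow_y (S : Gs p x y a e t) {j : ℕ} {v : V} (h : Dl k p x ^ j • v = 0) :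
    Dl k p x ^ j • og k y • v = 0 := by
  have := S.y_smul_D_pow (k := k) j v
  rw [h, smul_zero] at this
  exact (smul_eq_zero.1 this.symm).resolve_left (pow_ne_zero _ S.a_ne_zero)

theorem St.exists_wt_blk [FiniteDimensional k V] (S : St p x y a e t) {u : V} {s : ℕ}
    (hu : Dl k p x ^ s • u = 0) (hb : ∀ v : V, Dl k p x ^ (s - 1) • u ≠ Dl k p x ^ s • v) :
    ∃ u' : V, Dl k p x ^ s • u' = 0 ∧ (∀ v : V, Dl k p x ^ (s - 1) • u' ≠ Dl k p x ^ s • v) ∧
      ∃ h < e, og k y • u' = (a : k) ^ h • u' := by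
  obtain ⟨w, h1, h2, h3⟩ := S.exists_wt (K := LinearMap.ker (lm k V (Dl k p x ^ s)))
    (U := (LinearMap.range (lm k V (Dl k p x ^ s))).comap (lm k V (Dl k p x ^ (s - 1))))
    (fun v hv => S.toGs.D_pow_y hv) fun h => by
      obtain ⟨v, hv⟩ := h (show u ∈ LinearMap.ker (lm k V (Dl k p x ^ s)) from hu)
      exact hb v hv.symm
  exact ⟨w, h1, fun v hv => h2 ⟨v, hv.symm⟩, h3⟩

/-- a `G`-invariant subspace -/
def subG (K : Submodule k V) (h : ∀ g : G, ∀ v ∈ K, og k g • v ∈ K) : Submodule k[G] V where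
  carrier := K
  add_mem' := add_mem
  zero_mem' := zero_mem _
  smul_mem' c v hv := by
    induction c using MonoidAlgebra.induction_on with
    | of g => exact h g v hv
    | add c d h1 h2 => rw [add_smul]; exact add_mem h1 h2
    | smul r c h1 => rw [smul_assoc]; exact K.smul_mem r h1

end aux

/-- `u` a weight vector generating a block of size `s < p`, `ω = D^(s-1) u`.  `exists_Nmap` (`m = u`)
and `exists_Gmap'` give `f` and an endomorphism `F` with `F w - f w ∈ D^(p-1) T` for `D w = 0`,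
`f w ∈ k ω` for `D w = 0` (an element of the span of the `D^j u` killed by `D`), `f ω = ω`.  So
`F^r ω ∈ ω + D^(p-1) T`, `ω ∉ D^(p-1) T ⊆ D^s T`, `F` is not nilpotent; by Fitting
(`LinearMap.eventually_isCompl_ker_pow_range_pow`) and the unique maximal submodule `F` is
bijective, hence bijective on `ker D`. -/
theorem St.ker_le_line (S : St p x y a e t) {J : Submodule k[G] T} (hJ : J ≠ ⊤)
    (hmax : ∀ U : Submodule k[G] T, U ≠ ⊤ → U ≤ J) {u : T} {s : ℕ} {c : k} (hs : s < p)
    (hu : Dl k p x ^ s • u = 0) (hb : ∀ v : T, Dl k p x ^ (s - 1) • u ≠ Dl k p x ^ s • v)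
    (hyu : og k y • u = c • u) (w : T) (hw : Dl k p x • w = 0) :
    ∃ (r : k) (w' : T), w = r • Dl k p x ^ (s - 1) • u + Dl k p x ^ (p - 1) • w' := by
  obtain ⟨f, f1, f2, f3, f4⟩ := S.exists_Nmap hu hb hyu hu hyu
  obtain ⟨F, hF⟩ := S.exists_Gmap' f f2 f3
  obtain _ | s := s
  · exact absurd rfl (hb u)
  simp only [Nat.add_sub_cancel] at hb ⊢
  have h3 := S.h3
  have : IsNoetherian k[G] T := isNoetherian_of_tower k inferInstance
  have hs : ∀ Φ : T →ₗ[k[G]] T, ¬ LinearMap.range Φ ≤ J → Function.Bijective Φ := fun Φ h =>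
    IsNoetherian.bijective_of_surjective_endomorphism Φ
      (LinearMap.range_eq_top.1 (by_contra fun n => h (hmax _ n)))
  have h1 : Function.Bijective F := hs F fun h1 => by
    have h2 := hs (LinearMap.id - F) fun h2 => hJ (eq_top_iff.2 fun v _ => by
      simpa using add_mem (h1 ⟨v, rfl⟩) (h2 ⟨v, rfl⟩))
    obtain ⟨w, hw⟩ := hF 1 (by omega) (Dl k p x ^ s • u) (by rw [pow_smul_add, add_comm, hu])
    obtain ⟨w', e⟩ := h2.2 (-w)
    rw [map_pow_smul f2, f1] at hw
    refine hb (Dl k p x ^ (p - 1 - (s + 1)) • w') (h2.1 ?_)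
    rw [← pow_smul_of_le _ (by omega), map_smul _ (Dl k p x ^ (p - 1)), e, LinearMap.sub_apply, hw]
    simp
  obtain ⟨w, rfl⟩ := h1.2 w
  have h2 : Dl k p x • w = 0 := h1.1 (by rw [map_smul, hw, map_zero])
  obtain ⟨w', e⟩ := hF 1 (by omega) w (by rwa [pow_one])
  obtain ⟨r, hr⟩ := span_ker hu (by simpa using hb 0) (f4 w) (by rw [← f2, h2, map_zero])
  exact ⟨r, w', by rw [e, hr]⟩

/-- Among the `v'` with `D^(p-1) v' = 0`, `D^(s-1) v' ∉ J` take one with `D^σ v' = 0`, `σ` minimal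
(`s ≤ σ ≤ p - 1`); then `D^(σ-1) v' ∉ D^σ T` (else replace `v'` by `v' - D c`).  `exists_wt` with
`K = ker D^σ`, `U = {v ∣ D^(σ-1) v ∈ D^σ T}` gives a weight vector `u`; by `ker_le_line` and
induction on `j ≤ σ`, `ker D^j ⊆ D^(σ-j) T`. -/
theorem St.ker_le_range (S : St p x y a e t) {J : Submodule k[G] T} (hJ : J ≠ ⊤)
    (hmax : ∀ U : Submodule k[G] T, U ≠ ⊤ → U ≤ J) {v : T} {s : ℕ}
    (hv : Dl k p x ^ (p - 1) • v = 0) (hvJ : Dl k p x ^ (s - 1) • v ∉ J)
    (hs : ∀ w : T, Dl k p x ^ s • w ∈ J) {j : ℕ} (hj : j ≤ s) (w : T)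
    (hw : Dl k p x ^ j • w = 0) : ∃ w' : T, w = Dl k p x ^ (s - j) • w' := by
  classical
  have h3 := S.h3
  have ex : ∃ n, ∃ v : T, Dl k p x ^ n • v = 0 ∧ Dl k p x ^ (s - 1) • v ∉ J := ⟨_, v, hv, hvJ⟩
  have h1 : Nat.find ex ≤ p - 1 := Nat.find_min' ex ⟨v, hv, hvJ⟩
  have h2 := fun {m} => Nat.find_min ex (m := m)
  obtain ⟨v, hv, hvJ⟩ := Nat.find_spec ex
  generalize Nat.find ex = n at *
  have s0 : s ≠ 0 := by
    rintro rfl
    exact hvJ (by simpa using hs v)
  have h4 : s ≤ n := by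
    by_contra h
    exact hvJ (by rw [pow_smul_of_le' _ (show n ≤ s - 1 by omega), hv, smul_zero]; exact zero_mem _)
  obtain ⟨u, u1, u2, h, -, u3⟩ := S.exists_wt_blk hv fun c hc => h2 (m := n - 1) (by omega)
    ⟨v - Dl k p x • c, by rw [smul_sub, pow_smul_one, Nat.sub_add_cancel (by omega), hc, sub_self],
      fun h => hvJ (by
        rw [smul_sub, pow_smul_one, Nat.sub_add_cancel (by omega)] at h
        simpa using add_mem h (hs c))⟩
  have key : ∀ j ≤ n, ∀ w : T, Dl k p x ^ j • w = 0 → ∃ w', w = Dl k p x ^ (n - j) • w' := by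
    intro j
    induction j with
    | zero => exact fun _ w hw => ⟨0, by simpa using hw⟩
    | succ j ih =>
      intro hj w hw
      obtain ⟨r, w', e⟩ := S.ker_le_line hJ hmax (by omega) u1 u2 u3 (Dl k p x ^ j • w)
        (by rwa [one_smul_pow])
      obtain ⟨w'', e'⟩ := ih (by omega)
        (w - Dl k p x ^ (n - (j + 1)) • (r • u + Dl k p x ^ (p - n) • w')) (by
          rw [smul_sub, e, pow_smul_add, smul_add, pow_smul_add, smul_comm _ r,
            show j + (n - (j + 1)) = n - 1 by omega, show n - 1 + (p - n) = p - 1 by omega, sub_self])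
      refine ⟨r • u + Dl k p x ^ (p - n) • w' + Dl k p x • w'', ?_⟩
      rw [smul_add _ (_ + _), pow_smul_one, show n - (j + 1) + 1 = n - j by omega, ← e']
      abel
  obtain ⟨w', rfl⟩ := key j (by omega) w hw
  exact ⟨_, pow_smul_of_le _ (by omega) _⟩

end Cfsg.Agent.Blau
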